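import Mathlib
import Groth.Prelude.Def_QuadSing

/-!
Elementary differential calculus of polynomials.
-/

set_option autoImplicit false

namespace Groth.Agent.QuadHens

open MvPolynomial

universe u

variable {R : Type u} [CommRing R] {σ τ : Type*} [Fintype σ]

theorem pderiv_aeval (ℓ : σ → MvPolynomial τ R) (p : MvPolynomial σ R) (j : τ) :
    pderiv j (aeval ℓ p) = ∑ i, aeval ℓ (pderiv i p) * pderiv j (ℓ i) := by
  classical
  induction p using MvPolynomial.induction_on with
  | C a => simp [MvPolynomial.algebraMap_eq]
  | add p q hp hq => simp only [map_add, hp, hq, add_mul, Finset.sum_add_distrib]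
  | mul_X p k hp =>
    simp only [map_mul, aeval_X, pderiv_mul, hp, map_add, add_mul, Finset.sum_add_distrib, Finset.sum_mul,
      pderiv_X, Pi.single_apply, apply_ite (aeval ℓ), map_one, map_zero, ite_mul, zero_mul,
      mul_ite, mul_zero, mul_one, Finset.sum_ite_eq, Finset.mem_univ, if_true]
    congr 1
    exact Finset.sum_congr rfl fun i _ => by ring

theorem derivation_aeval {S M : Type*} [CommRing S] [Algebra R S] [AddCommGroup M] [Module R M] [Module S M]
    (D : Derivation R S M) (x : σ → S) (p : MvPolynomial σ R) :
    D (aeval x p) = ∑ i, aeval x (pderiv i p) • D (x i) := by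
  classical
  induction p using MvPolynomial.induction_on with
  | C a => simp
  | add p q hp hq => simp [hp, hq, add_smul, Finset.sum_add_distrib]
  | mul_X p k hp =>
    rw [map_mul, aeval_X, Derivation.leibniz, hp]
    simp only [pderiv_mul, aeval_X, map_mul, pderiv_X, Pi.single_apply, mul_ite, mul_one,
      mul_zero, map_add, add_smul, Finset.sum_add_distrib, Finset.smul_sum, apply_ite (aeval x), map_zero, ite_smul,
      zero_smul, Finset.sum_ite_eq, Finset.mem_univ, if_true]
    rw [add_comm]
    congr 1
    exact Finset.sum_congr rfl fun i _ => by rw [← mul_smul, mul_comm]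

omit [Fintype σ] in
theorem coeff_single_eq (p : MvPolynomial σ R) (i : σ) :
    coeff (Finsupp.single i 1) p = constantCoeff (pderiv i p) := by
  rw [constantCoeff_eq, coeff_pderiv]
  simp

theorem constantCoeff_aeval (ℓ : σ → MvPolynomial τ R) (p : MvPolynomial σ R) :
    constantCoeff (aeval ℓ p) = eval (fun i => constantCoeff (ℓ i)) p := by
  induction p using MvPolynomial.induction_on with
  | C a => simp [MvPolynomial.algebraMap_eq]
  | add p q hp hq => simp only [map_add, hp, hq]
  | mul_X p k hp => simp only [map_mul, aeval_X, eval_X, hp]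

theorem coeff_single_aeval (ℓ : σ → MvPolynomial τ R) (p : MvPolynomial σ R) (j : τ) :
    coeff (Finsupp.single j 1) (aeval ℓ p) =
      ∑ i, eval (fun i => constantCoeff (ℓ i)) (pderiv i p) * coeff (Finsupp.single j 1) (ℓ i) := by
  simp only [coeff_single_eq, pderiv_aeval, map_sum, map_mul, constantCoeff_aeval]

omit [Fintype σ] in
/-- The polar matrix of the quadratic terms is the Hessian at the origin. -/
theorem polarMatrix_coeff {n : ℕ} (q : MvPolynomial (Fin n) R) :
    VanCyc.polarMatrix (fun a b => coeff (Finsupp.single a 1 + Finsupp.single b 1) q) =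
      fun a b => constantCoeff (pderiv a (pderiv b q)) := by
  classical
  funext a b
  simp only [VanCyc.polarMatrix, constantCoeff_eq, coeff_pderiv, zero_add, Finsupp.single_apply]
  rcases lt_trichotomy a b with h | h | h
  · simp [h.ne, h, Finsupp.single_apply]
  · subst h; simp; ring
  · simp [h.ne', not_lt.2 h.le, Finsupp.single_apply, h.ne, add_comm]

theorem exists_decomp (p : MvPolynomial σ R) :
    ∃ d : σ → MvPolynomial σ R, p = C (constantCoeff p) + ∑ i, X i * d i := by
  classical
  induction p using MvPolynomial.induction_on with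
  | C a => exact ⟨0, by simp⟩
  | add p q hp hq =>
    obtain ⟨d, hd⟩ := hp
    obtain ⟨e, he⟩ := hq
    refine ⟨d + e, ?_⟩
    conv_lhs => rw [hd, he]
    simp [mul_add, Finset.sum_add_distrib]
    ring
  | mul_X p k _ => exact ⟨fun i => if i = k then p else 0, by simp [mul_comm p]⟩

end Groth.Agent.QuadHens
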