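import Mathlib
import Groth.Agent.Hensel.System

/-!
Square polynomial systems over a henselian local ring whose linearisation at the origin of the
closed fibre is injective have a unique solution in the maximal ideal.
-/

set_option autoImplicit false

namespace Groth.Agent.QuadHens

universe u

open IsLocalRing MvPolynomial

variable {T : Type u} [CommRing T] [IsLocalRing T]

/-- The dual number point `ε v` of affine space over the residue field. -/
noncomputable def dualPt {ι : Type*} (v : ι → ResidueField T) : ι → DualNumber (ResidueField T) :=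
  fun i => TrivSqZeroExt.inr (v i)

/-- The structure map to dual numbers over the residue field. -/
noncomputable def dualMap (T : Type u) [CommRing T] [IsLocalRing T] : T →+* DualNumber (ResidueField T) :=
  (TrivSqZeroExt.inlHom (ResidueField T) (ResidueField T)).comp (residue T)

theorem eval₂_dualPt {ι : Type*} [Fintype ι] (p : MvPolynomial ι T) (v : ι → ResidueField T) :
    eval₂ (dualMap T) (dualPt v) p = TrivSqZeroExt.inl (residue T (eval (fun _ => 0) p)) +
      TrivSqZeroExt.inr (∑ j, residue T (eval (fun _ => 0) (pderiv j p)) * v j) := by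
  classical
  induction p using MvPolynomial.induction_on with
  | C a => ext <;> simp [dualMap]
  | add p q hp hq =>
    rw [eval₂_add, hp, hq]
    ext <;> simp [add_mul, Finset.sum_add_distrib]
  | mul_X p i hp =>
    rw [eval₂_mul, hp, eval₂_X, dualPt]
    ext
    · simp
    · simp [pderiv_X, Pi.single_apply, apply_ite constantCoeff, apply_ite (residue T), ite_mul, mul_comm (v i)]

theorem existsUnique_zero [HenselianLocalRing T] {ι : Type*} [Fintype ι] (G : ι → MvPolynomial ι T)
    (h0 : ∀ i, eval (fun _ => 0) (G i) ∈ maximalIdeal T)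
    (hinj : ∀ v : ι → ResidueField T, (∀ i, eval₂ (dualMap T) (dualPt v) (G i) = 0) → v = 0) :
    ∃! b : ι → T, (∀ i, eval b (G i) = 0) ∧ ∀ i, b i ∈ maximalIdeal T := by
  classical
  let e := Fintype.equivFin ι
  let G' : Fin (Fintype.card ι) → MvPolynomial (Fin (Fintype.card ι)) T := fun i => rename e (G (e.symm i))
  have hev : ∀ (c : Fin (Fintype.card ι) → T) i, eval c (G' i) = eval (c ∘ e) (G (e.symm i)) :=
    fun c i => eval_rename _ _ _
  have hdet : IsUnit (Ideal.Quotient.mk (maximalIdeal T) (eval (fun _ => 0) (Hensel.jacDet G'))) := by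
    change IsUnit (residue T _)
    rw [isUnit_iff_ne_zero, Hensel.jacDet, RingHom.map_det, RingHom.map_det]
    intro hd
    obtain ⟨w, hw, hwz⟩ := Matrix.exists_vecMul_eq_zero_iff.2 hd
    refine hw (funext fun j => ?_)
    have hv : (w ∘ e) = 0 := hinj _ fun i => by
      rw [eval₂_dualPt, (residue_eq_zero_iff _).2 (h0 i)]
      have h1 := congrFun hwz (e i)
      rw [Matrix.vecMul, dotProduct] at h1
      simp only [RingHom.mapMatrix_apply, Matrix.map_apply, Matrix.of_apply, Pi.zero_apply] at h1
      rw [← Equiv.sum_comp e] at h1
      rw [Finset.sum_congr rfl (g := fun j => w (e j) * residue T (eval (fun _ => 0) (pderiv (e j) (G' (e i)))))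
        fun j _ => ?_, h1]
      · simp
      rw [mul_comm, Function.comp_apply]
      congr 2
      simp only [G', Equiv.symm_apply_apply, pderiv_rename e.injective, eval_rename]
      rfl
    simpa using congrFun hv (e.symm j)
  obtain ⟨b, ⟨hb0, hbm⟩, huniq⟩ := Hensel.existsUnique_root_system (I := maximalIdeal T) G' (fun _ => 0)
    (fun i => by rw [hev]; exact h0 _) hdet
  refine ⟨b ∘ e, ⟨fun i => ?_, fun i => by simpa using hbm (e i)⟩, ?_⟩
  · simpa [hev] using hb0 (e i)
  · rintro c ⟨hc, hcm⟩
    have h1 : c ∘ e.symm = b := huniq _ ⟨fun i => by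
      rw [hev, Function.comp_assoc, Equiv.symm_comp_self, Function.comp_id]
      exact hc _, fun i => by simpa using hcm (e.symm i)⟩
    rw [← h1, Function.comp_assoc, Equiv.symm_comp_self, Function.comp_id]

end Groth.Agent.QuadHens
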