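import Groth.Prelude.Def_QuadSing
import Groth.Agent.QuadHens.Root

/-!
Normal forms of families with a non-degenerate quadratic point: points of
`g_1 = … = g_r = g_0 = 0` in the maximal ideal of a henselian local ring correspond to points of a quadric.
-/

set_option autoImplicit false
set_option linter.style.haveILetI false

namespace Groth.Agent.QuadHens

universe u

open IsLocalRing MvPolynomial Matrix
open TrivSqZeroExt (inl inr fst snd fstHom)

/-- Coordinates: `n` quadric variables and `r` eliminated ones. -/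
abbrev Coord (n r : ℕ) : Type := Fin n ⊕ Fin r

/-- Index pairs of an upper triangular table. -/
abbrev Tri (n : ℕ) : Type := {p : Fin n × Fin n // p.1 ≤ p.2}

/-- Unknowns of the comparison system. -/
abbrev Unk (n r : ℕ) : Type := Coord n r ⊕ ((Fin r × Fin n) ⊕ Tri n)

/-- The quadratic form table of a square matrix. -/
def tabd {R : Type*} [CommRing R] {n : ℕ} (K : Matrix (Fin n) (Fin n) R) (a b : Fin n) : R :=
  if a = b then K a a else K a b + K b a

/-- The upper triangular matrix of a table. -/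
def triu {R : Type*} [CommRing R] {n : ℕ} (a : Fin n → Fin n → R) : Matrix (Fin n) (Fin n) R :=
  fun i j => if i ≤ j then a i j else 0

section Tab

variable {R : Type u} [CommRing R] {n : ℕ}

theorem tabd_add (K K' : Matrix (Fin n) (Fin n) R) (a b : Fin n) :
    tabd (K + K') a b = tabd K a b + tabd K' a b := by
  unfold tabd; split_ifs <;> simp [Matrix.add_apply]; ring

theorem tabd_transpose (K : Matrix (Fin n) (Fin n) R) (a b : Fin n) : tabd Kᵀ a b = tabd K a b := by
  unfold tabd; split_ifs <;> simp [Matrix.transpose_apply, add_comm]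

theorem tabd_triu (a : Fin n → Fin n → R) {i j : Fin n} (hij : i ≤ j) : tabd (triu a) i j = a i j := by
  unfold tabd triu
  split_ifs with h₁ h₂ h₃ <;> try simp_all
  all_goals exact absurd (le_antisymm hij (by assumption)) h₁

theorem dot_mulVec_eq_sum_tabd (K : Matrix (Fin n) (Fin n) R) (x : Fin n → R) :
    x ⬝ᵥ (K *ᵥ x) = ∑ a, ∑ b, if a ≤ b then tabd K a b * x a * x b else 0 := by
  have h1 : x ⬝ᵥ (K *ᵥ x) = ∑ a, ∑ b, K a b * x a * x b := by
    simp only [dotProduct, Matrix.mulVec, Finset.mul_sum]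
    exact Finset.sum_congr rfl fun a _ => Finset.sum_congr rfl fun b _ => by ring
  have h2 : ∀ a b, K a b * x a * x b =
      (if a ≤ b then K a b * x a * x b else 0) + if b < a then K a b * x a * x b else 0 := fun a b => by
    rcases le_or_gt a b with h | h
    · simp [h, not_lt.2 h]
    · simp [h, not_le.2 h]
  rw [h1]
  conv_lhs => enter [2, a, 2, b]; rw [h2]
  simp only [Finset.sum_add_distrib]
  rw [Finset.sum_comm (f := fun a b => if b < a then K a b * x a * x b else 0)]
  simp only [← Finset.sum_add_distrib]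
  refine Finset.sum_congr rfl fun a _ => Finset.sum_congr rfl fun b _ => ?_
  unfold tabd
  rcases lt_trichotomy a b with h | h | h
  · simp [h, h.le, h.ne]; ring
  · subst h; simp
  · simp [not_le.2 h, not_lt.2 h.le]

theorem dot_mulVec_congr (K K' : Matrix (Fin n) (Fin n) R) (h : ∀ a b, a ≤ b → tabd K a b = tabd K' a b)
    (x : Fin n → R) : x ⬝ᵥ (K *ᵥ x) = x ⬝ᵥ (K' *ᵥ x) := by
  rw [dot_mulVec_eq_sum_tabd, dot_mulVec_eq_sum_tabd]
  refine Finset.sum_congr rfl fun a _ => Finset.sum_congr rfl fun b _ => ?_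
  split_ifs with hab
  · rw [h a b hab]
  · rfl

theorem dot_conj {ι : Type*} [Fintype ι] (L : Matrix ι (Fin n) R) (K : Matrix ι ι R) (x : Fin n → R) :
    (L *ᵥ x) ⬝ᵥ (K *ᵥ (L *ᵥ x)) = x ⬝ᵥ ((Lᵀ * K * L) *ᵥ x) := by
  rw [← Matrix.mulVec_mulVec, ← Matrix.mulVec_mulVec, Matrix.dotProduct_mulVec x Lᵀ, Matrix.vecMul_transpose]

theorem quadEval_eq_triu (a : Fin n → Fin n → R) (x : Fin n → R) :
    VanCyc.quadEval a x = x ⬝ᵥ (triu a *ᵥ x) := by
  rw [dot_mulVec_eq_sum_tabd, VanCyc.quadEval]
  refine Finset.sum_congr rfl fun i _ => Finset.sum_congr rfl fun j _ => ?_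
  split_ifs with h
  · rw [tabd_triu a h]
  · rfl

theorem triu_add_transpose (a : Fin n → Fin n → R) : triu a + (triu a)ᵀ = VanCyc.polarMatrix a := by
  ext i j
  rcases lt_trichotomy i j with h | h | h
  · simp [triu, VanCyc.polarMatrix, h.le, h.ne, h, not_le.2 h]
  · subst h; simp [triu, VanCyc.polarMatrix, two_mul]
  · simp [triu, VanCyc.polarMatrix, not_le.2 h, h.ne', not_lt.2 h.le, h.le]

end Tab

/-- Normal form data over a local ring: `g_l = ∑ E_lj X_j`, `g_0 = b + ∑ P_ij X_i X_j` with quadratic part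
congruent to the non-degenerate table `a` and linear part congruent to the eliminated variables. -/
structure NF (A : Type u) [CommRing A] [IsLocalRing A] (n r : ℕ) where
  E : Matrix (Fin r) (Coord n r) (MvPolynomial (Coord n r) A)
  P : Matrix (Coord n r) (Coord n r) (MvPolynomial (Coord n r) A)
  a : Fin n → Fin n → A
  b : A
  hb : b ∈ maximalIdeal A
  ha : VanCyc.QuadNondeg a
  hEx : ∀ l i, constantCoeff (E l (Sum.inl i)) ∈ maximalIdeal A
  hEz : ∀ l l', constantCoeff (E l (Sum.inr l')) - (if l = l' then 1 else 0) ∈ maximalIdeal A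
  hP : ∀ i j, i ≤ j → tabd (fun a b => constantCoeff (P (Sum.inl a) (Sum.inl b))) i j - a i j ∈ maximalIdeal A

namespace NF

variable {A : Type u} [CommRing A] [IsLocalRing A] {n r : ℕ} (D : NF A n r)
variable {R R' : Type u} [CommRing R] [Algebra A R] [CommRing R'] [Algebra A R']

/-- The equations `g_1, …, g_r`. -/
noncomputable def g (X : Coord n r → R) : Fin r → R := D.E.map (aeval X) *ᵥ X

/-- The equation `g_0`. -/
noncomputable def g0 (X : Coord n r → R) : R := algebraMap A R D.b + X ⬝ᵥ (D.P.map (aeval X) *ᵥ X)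

/-- The elimination matrix `[1; W]`. -/
def lmat (w : Unk n r → R) : Matrix (Coord n r) (Fin n) R :=
  fun i a => Sum.elim (fun b => if b = a then 1 else 0) (fun l => w (Sum.inr (Sum.inl (l, a)))) i

/-- The triangular unknown matrix. -/
def tmat (w : Unk n r → R) : Matrix (Fin n) (Fin n) R :=
  fun a b => if h : a ≤ b then w (Sum.inr (Sum.inr ⟨(a, b), h⟩)) else 0

/-- The Morse change of coordinates. -/
noncomputable def mmat (w : Unk n r → R) : Matrix (Fin n) (Fin n) R :=
  1 + ((VanCyc.polarMatrix D.a)⁻¹).map (algebraMap A R) * tmat w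

/-- The new quadric coordinates. -/
noncomputable def yv (w : Unk n r → R) : Fin n → R := D.mmat w *ᵥ fun a => w (Sum.inl (Sum.inl a))

/-- The auxiliary equations. -/
noncomputable def aux (w : Unk n r → R) : (Fin r × Fin n) ⊕ Tri n → R :=
  Sum.elim (fun p => (D.E.map (aeval (w ∘ Sum.inl)) * lmat w) p.1 p.2)
    (fun p => tabd ((D.mmat w)ᵀ * (triu D.a).map (algebraMap A R) * D.mmat w) p.1.1 p.1.2 -
      tabd ((lmat w)ᵀ * D.P.map (aeval (w ∘ Sum.inl)) * lmat w) p.1.1 p.1.2)

/-- The coordinates which are prescribed. -/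
noncomputable def head (s : Bool) (w : Unk n r → R) (a : Fin n) : R :=
  if s then D.yv w a else w (Sum.inl (Sum.inl a))

/-- The comparison system. -/
noncomputable def sys (s : Bool) (w : Unk n r → R) : Unk n r → R :=
  Sum.elim (Sum.elim (D.head s w) (D.g (w ∘ Sum.inl))) (D.aux w)

variable (f : R →ₐ[A] R')

theorem map_aeval_comp {σ : Type} {ι κ : Type} (K : Matrix ι κ (MvPolynomial σ A)) (X : σ → R) :
    (K.map (aeval X)).map f = K.map (aeval (f ∘ X)) := by
  ext i j
  simp only [Matrix.map_apply]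
  exact DFunLike.congr_fun (comp_aeval X f) (K i j)

theorem g_map (X : Coord n r → R) (l : Fin r) : f (D.g X l) = D.g (f ∘ X) l := by
  have h := RingHom.map_mulVec f.toRingHom (D.E.map (aeval X)) X l
  simp only [AlgHom.toRingHom_eq_coe, RingHom.coe_coe] at h
  rw [g, h, map_aeval_comp]
  rfl

theorem g0_map (X : Coord n r → R) : f (D.g0 X) = D.g0 (f ∘ X) := by
  simp only [g0, map_add, AlgHom.commutes, dotProduct, map_sum, map_mul]
  congr 1
  refine Finset.sum_congr rfl fun i _ => ?_
  have h := RingHom.map_mulVec f.toRingHom (D.P.map (aeval X)) X i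
  simp only [AlgHom.toRingHom_eq_coe, RingHom.coe_coe] at h
  rw [h, map_aeval_comp, Function.comp_apply]

theorem lmat_map (w : Unk n r → R) : (lmat w).map f = lmat (f ∘ w) := by
  ext i a
  rcases i with i | i <;> simp [lmat, apply_ite f]

theorem tmat_map (w : Unk n r → R) : (tmat w).map f = tmat (f ∘ w) := by
  ext a b
  simp only [tmat, Matrix.map_apply, apply_dite f, map_zero]
  rfl

theorem mmat_map (w : Unk n r → R) : (D.mmat w).map f = D.mmat (f ∘ w) := by
  simp only [mmat]
  rw [Matrix.map_add _ (map_add f), Matrix.map_mul, Matrix.map_map, tmat_map, Matrix.map_one _ (map_zero f) (map_one f)]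
  congr 2
  ext a b
  simp

theorem yv_map (w : Unk n r → R) (a : Fin n) : f (D.yv w a) = D.yv (f ∘ w) a := by
  have h := RingHom.map_mulVec f.toRingHom (D.mmat w) (fun a => w (Sum.inl (Sum.inl a))) a
  simp only [AlgHom.toRingHom_eq_coe, RingHom.coe_coe] at h
  rw [yv, h, mmat_map]
  rfl

theorem tabd_map (K : Matrix (Fin n) (Fin n) R) (a b : Fin n) : f (tabd K a b) = tabd (K.map f) a b := by
  unfold tabd; split_ifs <;> simp

theorem aux_map (w : Unk n r → R) (i) : f (D.aux w i) = D.aux (f ∘ w) i := by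
  have hq : ((triu D.a).map (algebraMap A R)).map f = (triu D.a).map (algebraMap A R') := by
    ext a b; simp
  rcases i with i | i
  · simp only [aux, Sum.elim_inl]
    rw [← Matrix.map_apply (f := f), Matrix.map_mul, map_aeval_comp, lmat_map]
    rfl
  · simp only [aux, Sum.elim_inr, map_sub, tabd_map]
    rw [Matrix.map_mul, Matrix.map_mul, Matrix.map_mul, Matrix.map_mul, Matrix.transpose_map, Matrix.transpose_map,
      mmat_map, lmat_map, map_aeval_comp, hq]
    rfl

theorem sys_map (s : Bool) (w : Unk n r → R) (i) : f (D.sys s w i) = D.sys s (f ∘ w) i := by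
  rcases i with (i | i) | i
  · cases s
    · simp [sys, head]
    · simp [sys, head, yv_map]
  · simp only [sys, Sum.elim_inl, Sum.elim_inr]
    exact D.g_map f _ i
  · exact D.aux_map f w i

section Linear

variable {T : Type u} [CommRing T] [IsLocalRing T] [Algebra A T] [IsLocalHom (algebraMap A T)]

local notation "κ" => ResidueField T
local notation "𝔻" => DualNumber (ResidueField T)

theorem algebraMap_dual_eq_zero {x : A} (hx : x ∈ maximalIdeal A) : algebraMap A 𝔻 x = 0 := by
  have h1 : algebraMap A κ x = 0 := by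
    rw [IsScalarTower.algebraMap_apply A T κ]
    exact (residue_eq_zero_iff _).2 (map_nonunit _ x hx)
  rw [TrivSqZeroExt.algebraMap_eq_inl', h1]
  rfl

theorem algebraMap_dual_eq {x y : A} (hx : x - y ∈ maximalIdeal A) : algebraMap A 𝔻 x = algebraMap A 𝔻 y := by
  rw [← sub_eq_zero, ← map_sub, algebraMap_dual_eq_zero hx]

theorem mul_eps (x : 𝔻) (c : κ) : x * inr c = inr (fst x * c) := by
  ext <;> simp [mul_comm]

theorem aeval_mul_eps {σ : Type} (X : σ → κ) (p : MvPolynomial σ A) (c : κ) :
    aeval (fun i => (inr (X i) : 𝔻)) p * inr c = algebraMap A 𝔻 (constantCoeff p) * inr c := by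
  have h1 : fst (aeval (fun i => (inr (X i) : 𝔻)) p) = algebraMap A κ (constantCoeff p) := by
    have h : (fstHom A κ κ).comp (aeval fun i => (inr (X i) : 𝔻)) = aeval (fun _ => (0 : κ)) := by
      refine MvPolynomial.algHom_ext fun i => ?_
      simp
    have h2 := DFunLike.congr_fun h p
    rw [AlgHom.comp_apply, aeval_zero'] at h2
    exact h2
  rw [mul_eps, mul_eps, h1, TrivSqZeroExt.algebraMap_eq_inl', TrivSqZeroExt.fst_inl]

theorem g_dual (v : Coord n r → κ) (l : Fin r) :
    D.g (fun i => (inr (v i) : 𝔻)) l = inr (v (Sum.inr l)) := by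
  simp only [g, Matrix.mulVec, dotProduct, Matrix.map_apply, aeval_mul_eps, Fintype.sum_sum_type]
  rw [Finset.sum_eq_zero fun i _ => by rw [algebraMap_dual_eq_zero (D.hEx l i), zero_mul], zero_add,
    Finset.sum_eq_single l]
  · rw [algebraMap_dual_eq (D.hEz l l), if_pos rfl, map_one, one_mul]
  · intro j _ hj
    rw [algebraMap_dual_eq (D.hEz l j), if_neg (Ne.symm hj), map_zero, zero_mul]
  · simp

theorem mmat_mulVec_dual (v : Unk n r → κ) (c : Fin n → κ) :
    D.mmat (fun i => (inr (v i) : 𝔻)) *ᵥ (fun a => inr (c a)) = fun a => inr (c a) := by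
  rw [mmat, Matrix.add_mulVec, Matrix.one_mulVec, ← Matrix.mulVec_mulVec]
  have h : tmat (R := 𝔻) (n := n) (r := r) (fun i => inr (v i)) *ᵥ (fun a => (inr (c a) : 𝔻)) = (0 : Fin n → 𝔻) := by
    funext a
    simp only [Matrix.mulVec, dotProduct, Pi.zero_apply]
    refine Finset.sum_eq_zero fun b _ => ?_
    unfold tmat
    split_ifs <;> simp [TrivSqZeroExt.inr_mul_inr]
  rw [h, Matrix.mulVec_zero, add_zero]

theorem sys_dual (s : Bool) (v : Unk n r → κ) :
    (v = 0 → ∀ i, D.sys s (fun i => (inr (v i) : 𝔻)) i = 0) ∧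
      ((∀ i, D.sys s (fun i => (inr (v i) : 𝔻)) i = 0) → v = 0) := by
  set w : Unk n r → 𝔻 := fun i => inr (v i) with hw
  have hhead : ∀ a, D.sys s w (Sum.inl (Sum.inl a)) = inr (v (Sum.inl (Sum.inl a))) := fun a => by
    cases s
    · rfl
    · exact congrFun (D.mmat_mulVec_dual v fun a => v (Sum.inl (Sum.inl a))) a
  have hg : ∀ l, D.sys s w (Sum.inl (Sum.inr l)) = inr (v (Sum.inl (Sum.inr l))) :=
    fun l => D.g_dual (fun i => v (Sum.inl i)) l
  -- once the coordinates vanish, the elimination equations read off `W`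
  have hW : (∀ i, v (Sum.inl i) = 0) → ∀ p : Fin r × Fin n,
      D.sys s w (Sum.inr (Sum.inl p)) = inr (v (Sum.inr (Sum.inl p))) := fun hX p => by
    have hX' : w ∘ Sum.inl = (0 : Coord n r → 𝔻) := funext fun i => by simp [hw, hX]
    simp only [sys, aux, Sum.elim_inr, Sum.elim_inl, hX', Matrix.mul_apply, Matrix.map_apply, aeval_zero,
      Fintype.sum_sum_type]
    rw [Finset.sum_eq_zero fun i _ => by rw [algebraMap_dual_eq_zero (D.hEx p.1 i), zero_mul], zero_add,
      Finset.sum_eq_single p.1]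
    · rw [algebraMap_dual_eq (D.hEz p.1 p.1), if_pos rfl, map_one, one_mul]
      rfl
    · intro j _ hj
      rw [algebraMap_dual_eq (D.hEz p.1 j), if_neg (Ne.symm hj), map_zero, zero_mul]
    · simp
  -- once `W` vanishes too, the form equations read off the triangular unknowns
  have hT : (∀ i, v (Sum.inl i) = 0) → (∀ p, v (Sum.inr (Sum.inl p)) = 0) → ∀ p : Tri n,
      D.sys s w (Sum.inr (Sum.inr p)) = inr (v (Sum.inr (Sum.inr p))) := by
    rintro hX hW' ⟨⟨a, b⟩, hab⟩
    have hX' : w ∘ Sum.inl = (0 : Coord n r → 𝔻) := funext fun i => by simp [hw, hX]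
    set Q : Matrix (Fin n) (Fin n) 𝔻 := (triu D.a).map (algebraMap A 𝔻)
    set N : Matrix (Fin n) (Fin n) 𝔻 := ((VanCyc.polarMatrix D.a)⁻¹).map (algebraMap A 𝔻) * tmat w with hN
    have hU : tabd ((lmat w)ᵀ * D.P.map (aeval (w ∘ Sum.inl)) * lmat w) a b = tabd Q a b := by
      have hl : ∀ i j, (lmat w) i j = Sum.elim (fun b => if b = j then (1 : 𝔻) else 0) (fun _ => 0) i := by
        intro i j; rcases i with i | i <;> simp [lmat, hw, hW']
      have hP' : ∀ c d, ((lmat w)ᵀ * D.P.map (aeval (w ∘ Sum.inl)) * lmat w) c d =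
          algebraMap A 𝔻 (constantCoeff (D.P (Sum.inl c) (Sum.inl d))) := by
        intro c d
        simp [Matrix.mul_apply, hl, Fintype.sum_sum_type, hX']
      have h1 := algebraMap_dual_eq (T := T) (D.hP a b hab)
      have h2 : tabd Q a b = algebraMap A 𝔻 (D.a a b) := by
        rw [← tabd_triu D.a hab]
        unfold tabd; split_ifs <;> simp [Q]
      rw [h2, ← h1]
      unfold tabd; split_ifs <;> simp [hP']
    have hNN : ∀ K : Matrix (Fin n) (Fin n) 𝔻, Nᵀ * K * N = 0 := fun K => by
      have ht : ∀ c d, ∃ e : κ, N c d = inr e := fun c d => by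
        refine ⟨snd (N c d), ?_⟩
        have h0 : fst (N c d) = 0 := by
          rw [hN, Matrix.mul_apply, TrivSqZeroExt.fst_sum]
          refine Finset.sum_eq_zero fun i _ => ?_
          rw [TrivSqZeroExt.fst_mul]
          unfold tmat
          split_ifs <;> simp [hw]
        ext <;> simp [h0]
      ext c d : 1
      simp only [Matrix.mul_apply, Matrix.transpose_apply, Finset.sum_mul, Matrix.zero_apply]
      refine Finset.sum_eq_zero fun i _ => Finset.sum_eq_zero fun j _ => ?_
      obtain ⟨e₁, h₁⟩ := ht j c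
      obtain ⟨e₂, h₂⟩ := ht i d
      rw [h₁, h₂, mul_right_comm, TrivSqZeroExt.inr_mul_inr, zero_mul]
    have hM : tabd ((D.mmat w)ᵀ * Q * D.mmat w) a b = tabd Q a b + w (Sum.inr (Sum.inr ⟨(a, b), hab⟩)) := by
      have hexp : (D.mmat w)ᵀ * Q * D.mmat w = Q + ((Nᵀ * Q) + Q * N) := by
        rw [mmat, ← hN, Matrix.transpose_add, Matrix.transpose_one]
        simp only [Matrix.add_mul, Matrix.mul_add, Matrix.one_mul, Matrix.mul_one, hNN, add_zero]
        abel
      have hpol : Qᵀ + Q = (VanCyc.polarMatrix D.a).map (algebraMap A 𝔻) := by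
        rw [← triu_add_transpose, Matrix.map_add _ (map_add _), ← Matrix.transpose_map, add_comm]
      rw [hexp, tabd_add, tabd_add, ← tabd_transpose (Nᵀ * Q), Matrix.transpose_mul, Matrix.transpose_transpose,
        ← tabd_add, ← Matrix.add_mul, hpol, hN, ← Matrix.mul_assoc, ← Matrix.map_mul,
        Matrix.mul_nonsing_inv _ D.ha, Matrix.map_one _ (map_zero _) (map_one _), Matrix.one_mul]
      congr 1
      unfold tabd tmat
      split_ifs with h₁ h₂ h₃ <;> try simp_all
      all_goals exact absurd (le_antisymm hab (by assumption)) h₁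
    change tabd ((D.mmat w)ᵀ * Q * D.mmat w) a b - tabd ((lmat w)ᵀ * D.P.map (aeval (w ∘ Sum.inl)) * lmat w) a b = _
    rw [hM, hU, add_sub_cancel_left]
  refine ⟨fun hv i => ?_, fun h => ?_⟩
  · subst hv
    rcases i with (i | i) | (i | i)
    · rw [hhead]; rfl
    · rw [hg]; rfl
    · rw [hW (fun _ => rfl)]; rfl
    · rw [hT (fun _ => rfl) (fun _ => rfl)]; rfl
  · have hX : ∀ i, v (Sum.inl i) = 0 := by
      rintro (i | i)
      · have := h (Sum.inl (Sum.inl i)); rw [hhead] at this; simpa using congrArg snd this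
      · have := h (Sum.inl (Sum.inr i)); rw [hg] at this; simpa using congrArg snd this
    have hW' : ∀ p, v (Sum.inr (Sum.inl p)) = 0 := fun p => by
      have := h (Sum.inr (Sum.inl p)); rw [hW hX] at this; simpa using congrArg snd this
    funext i
    rcases i with i | (i | i)
    · exact hX i
    · exact hW' i
    · have := h (Sum.inr (Sum.inr i)); rw [hT hX hW'] at this; simpa using congrArg snd this

end Linear

section Points

variable {T : Type u} [CommRing T] [HenselianLocalRing T] [Algebra A T] [IsLocalHom (algebraMap A T)]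

theorem existsUnique_sys (s : Bool) (c : Fin n → T) (hc : ∀ a, c a ∈ maximalIdeal T) :
    ∃! w : Unk n r → T, (∀ i, D.sys s w i = Sum.elim (Sum.elim c 0) 0 i) ∧ ∀ i, w i ∈ maximalIdeal T := by
  let tgt : Unk n r → T := Sum.elim (Sum.elim c 0) 0
  have htgt : ∀ i, tgt i ∈ maximalIdeal T := by
    rintro ((i | i) | i)
    · exact hc i
    · exact Ideal.zero_mem _
    · exact Ideal.zero_mem _
  let G : Unk n r → MvPolynomial (Unk n r) T := fun i => D.sys s MvPolynomial.X i - MvPolynomial.C (tgt i)
  have hev : ∀ (b : Unk n r → T) i, eval b (G i) = D.sys s b i - tgt i := fun b i => by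
    have h := D.sys_map ((aeval (R := T) b).restrictScalars A) s MvPolynomial.X i
    simp only [AlgHom.coe_restrictScalars'] at h
    rw [map_sub, eval_C, ← aeval_eq_eval, h]
    congr 2
    exact funext fun j => aeval_X b j
  let φ : (Unk n r → ResidueField T) → (MvPolynomial (Unk n r) T →ₐ[A] DualNumber (ResidueField T)) := fun v =>
    { eval₂Hom (dualMap T) (dualPt v) with
      commutes' := fun x => by
        change eval₂ (dualMap T) (dualPt v) (MvPolynomial.C (algebraMap A T x)) = _
        rw [eval₂_C, TrivSqZeroExt.algebraMap_eq_inl', IsScalarTower.algebraMap_apply A T (ResidueField T)]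
        rfl }
  have hd : ∀ v i, eval₂ (dualMap T) (dualPt v) (G i) = D.sys s (dualPt v) i := fun v i => by
    have h := D.sys_map (φ v) s MvPolynomial.X i
    have h' : (φ v) ∘ MvPolynomial.X = dualPt v := funext fun j => eval₂_X _ _ j
    rw [h'] at h
    have h0 : dualMap T (tgt i) = 0 := by
      rw [dualMap, RingHom.comp_apply, (residue_eq_zero_iff _).2 (htgt i), map_zero]
    rw [eval₂_sub, eval₂_C, h0, sub_zero, ← h]
    rfl
  obtain ⟨b, ⟨hb, hbm⟩, huniq⟩ := existsUnique_zero G (fun i => by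
    have h := hd 0 i
    rw [show D.sys s (dualPt 0) i = 0 from (D.sys_dual s 0).1 rfl i, eval₂_dualPt] at h
    simpa [residue_eq_zero_iff] using congrArg fst h)
    fun v hv => (D.sys_dual s v).2 fun i => (hd v i).symm.trans (hv i)
  refine ⟨b, ⟨fun i => sub_eq_zero.1 ((hev b i).symm.trans (hb i)), hbm⟩, fun b' h => huniq b' ⟨fun i => ?_, h.2⟩⟩
  rw [hev, sub_eq_zero]
  exact h.1 i

/-- The correspondence between points of the normal form and points of the quadric. -/
def Rel (X : Coord n r → T) (y : Fin n → T) : Prop :=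
  ∃ w : Unk n r → T, (∀ i, w i ∈ maximalIdeal T) ∧ (∀ i, D.aux w i = 0) ∧ (∀ l, D.g (w ∘ Sum.inl) l = 0) ∧
    w ∘ Sum.inl = X ∧ D.yv w = y

theorem eq_mul_of_rel {w : Unk n r → T} (hm : ∀ i, w i ∈ maximalIdeal T) (haux : ∀ i, D.aux w i = 0)
    (hg : ∀ l, D.g (w ∘ Sum.inl) l = 0) : D.g0 (w ∘ Sum.inl) = VanCyc.quadEval (fun i j => algebraMap A T (D.a i j)) (D.yv w) +
      algebraMap A T D.b := by
  set X := w ∘ Sum.inl with hX
  set x : Fin n → T := fun a => w (Sum.inl (Sum.inl a)) with hx
  set K := D.E.map (aeval X)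
  have hK : ∀ l j, residue T (K l j) = residue T (algebraMap A T (constantCoeff (D.E l j))) := fun l j => by
    have h : ((IsScalarTower.toAlgHom A T (ResidueField T)).comp (aeval X)) = aeval (fun _ => (0 : ResidueField T)) := by
      refine MvPolynomial.algHom_ext fun i => ?_
      simp only [AlgHom.comp_apply, aeval_X]
      exact (residue_eq_zero_iff _).2 (hm _)
    have h2 := DFunLike.congr_fun h (D.E l j)
    rw [AlgHom.comp_apply, aeval_zero', IsScalarTower.algebraMap_apply A T (ResidueField T)] at h2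
    exact h2
  -- `X = L x`
  have hLX : lmat w *ᵥ x = X := by
    have h1 : K *ᵥ (X - lmat w *ᵥ x) = 0 := by
      have hgl : K *ᵥ X = 0 := funext hg
      have hKL : K * lmat w = 0 := Matrix.ext fun l a => haux (Sum.inl (l, a))
      rw [Matrix.mulVec_sub, Matrix.mulVec_mulVec, hKL, Matrix.zero_mulVec, hgl, sub_zero]
    set d := X - lmat w *ᵥ x with hd
    have hdl : ∀ a, d (Sum.inl a) = 0 := fun a => by
      simp [hd, hX, hx, lmat, Matrix.mulVec, dotProduct, ite_mul]
    let Kz : Matrix (Fin r) (Fin r) T := Matrix.of fun l l' => K l (Sum.inr l')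
    have hKz : Kz *ᵥ (fun l => d (Sum.inr l)) = 0 := funext fun l => by
      have h2 := congrFun h1 l
      simp only [Matrix.mulVec, dotProduct, Fintype.sum_sum_type, hdl, mul_zero, Finset.sum_const_zero,
        zero_add] at h2
      exact h2
    have hunit : IsUnit Kz.det := by
      refine notMem_maximalIdeal.1 fun h => ?_
      have h2 : residue T Kz.det = 1 := by
        rw [RingHom.map_det]
        have h3 : (residue T).mapMatrix Kz = 1 := Matrix.ext fun l l' => by
          rw [RingHom.mapMatrix_apply, Matrix.map_apply]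
          change residue T (K l (Sum.inr l')) = _
          rw [hK, ← sub_add_cancel (constantCoeff (D.E l (Sum.inr l'))) (if l = l' then 1 else 0), map_add, map_add,
            (residue_eq_zero_iff _).2 (map_nonunit (algebraMap A T) _ (D.hEz l l')), zero_add, Matrix.one_apply]
          split_ifs <;> simp
        rw [h3, Matrix.det_one]
      rw [(residue_eq_zero_iff _).2 h] at h2
      exact zero_ne_one h2
    have hdz : (fun l => d (Sum.inr l)) = 0 := by
      have h2 := congrArg (Kz⁻¹ *ᵥ ·) hKz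
      simpa [Matrix.mulVec_mulVec, Matrix.nonsing_inv_mul _ hunit] using h2
    funext i
    rcases i with a | l
    · exact (sub_eq_zero.1 (hdl a)).symm
    · exact (sub_eq_zero.1 (congrFun hdz l)).symm
  rw [g0, add_comm _ (algebraMap A T D.b)]
  congr 1
  rw [quadEval_eq_triu]
  have hq : triu (fun i j => algebraMap A T (D.a i j)) = (triu D.a).map (algebraMap A T) := by
    ext a b; simp [triu, apply_ite (algebraMap A T)]
  rw [hq]
  have hy : D.yv w = D.mmat w *ᵥ x := rfl
  have hl := dot_conj (lmat w) (D.P.map (aeval X)) x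
  rw [hLX] at hl
  rw [hy, hl, dot_conj]
  refine dot_mulVec_congr _ _ (fun a b hab => ?_) _
  have h := haux (Sum.inr ⟨(a, b), hab⟩)
  simp only [aux, Sum.elim_inr, sub_eq_zero] at h
  exact h.symm

theorem yv_mem {w : Unk n r → T} (hw : ∀ i, w i ∈ maximalIdeal T) (a : Fin n) : D.yv w a ∈ maximalIdeal T := by
  simp only [yv, Matrix.mulVec, dotProduct]
  exact Ideal.sum_mem _ fun b _ => Ideal.mul_mem_left _ _ (hw _)

theorem coord_unique (X X' : Coord n r → T) (hXm : ∀ i, X i ∈ maximalIdeal T) (hXm' : ∀ i, X' i ∈ maximalIdeal T)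
    (hg : ∀ l, D.g X l = 0) (hg' : ∀ l, D.g X' l = 0) (h : ∀ a, X (Sum.inl a) = X' (Sum.inl a)) : X = X' := by
  let x : Fin n → T := fun a => X (Sum.inl a)
  let Y : Coord n r → MvPolynomial (Fin r) T := Sum.elim (fun a => MvPolynomial.C (x a)) MvPolynomial.X
  let G : Fin r → MvPolynomial (Fin r) T := fun l => D.g Y l
  have hev : ∀ (b : Fin r → T) l, eval b (G l) = D.g (Sum.elim x b) l := fun b l => by
    have h := D.g_map ((aeval (R := T) b).restrictScalars A) Y l
    simp only [AlgHom.coe_restrictScalars'] at h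
    rw [← aeval_eq_eval, h]
    congr 2
    funext i
    rcases i with i | i <;> simp [Y]
  obtain ⟨b, -, huniq⟩ := existsUnique_zero G (fun l => by
      rw [hev]
      simp only [g, Matrix.mulVec, dotProduct]
      refine Ideal.sum_mem _ fun i _ => Ideal.mul_mem_left _ _ ?_
      exact (by
        rcases i with i | i
        · exact hXm _
        · exact Ideal.zero_mem _))
    (fun v hv => funext fun l => by
      let φ : MvPolynomial (Fin r) T →ₐ[A] DualNumber (ResidueField T) :=
        { eval₂Hom (dualMap T) (dualPt v) with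
          commutes' := fun c => by
            change eval₂ (dualMap T) (dualPt v) (MvPolynomial.C (algebraMap A T c)) = _
            rw [eval₂_C, TrivSqZeroExt.algebraMap_eq_inl', IsScalarTower.algebraMap_apply A T (ResidueField T)]
            rfl }
      have h := D.g_map φ Y l
      have h' : φ ∘ Y = fun i => (inr (Sum.elim (fun _ => (0 : ResidueField T)) v i) : DualNumber (ResidueField T)) := by
        funext i
        rcases i with i | i
        · change eval₂ (dualMap T) (dualPt v) (MvPolynomial.C (x i)) = _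
          rw [eval₂_C, dualMap, RingHom.comp_apply, (residue_eq_zero_iff _).2 (hXm _)]
          simp
        · exact eval₂_X _ _ i
      rw [h', D.g_dual] at h
      simpa using congrArg snd (h.symm.trans (hv l)))
  have h1 : (fun l => X (Sum.inr l)) = fun l => X' (Sum.inr l) :=
    (huniq _ ⟨fun l => by rw [hev]; simpa [x, Sum.elim_comp_inl_inr] using
        (show Sum.elim x (fun l => X (Sum.inr l)) = X from Sum.elim_comp_inl_inr X) ▸ hg l, fun l => hXm _⟩).trans
      (huniq _ ⟨fun l => by
        rw [hev, show Sum.elim x (fun l => X' (Sum.inr l)) = X' from by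
          funext i; rcases i with i | i
          · exact h i
          · rfl]
        exact hg' l, fun l => hXm' _⟩).symm
  funext i
  rcases i with i | i
  · exact h i
  · exact congrFun h1 i

theorem exists_rel_of_point (X : Coord n r → T) (hXm : ∀ i, X i ∈ maximalIdeal T) (hg : ∀ l, D.g X l = 0)
    (hg0 : D.g0 X = 0) : ∃ y, (∀ a, y a ∈ maximalIdeal T) ∧
      VanCyc.quadEval (fun i j => algebraMap A T (D.a i j)) y + algebraMap A T D.b = 0 ∧ D.Rel X y := by
  obtain ⟨w, ⟨hw, hwm⟩, -⟩ := D.existsUnique_sys false (fun a => X (Sum.inl a)) (fun a => hXm _)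
  have hwX : w ∘ Sum.inl = X := by
    exact D.coord_unique (w ∘ Sum.inl) X (fun i => hwm _) hXm (fun l => hw (Sum.inl (Sum.inr l))) hg
      fun a => hw (Sum.inl (Sum.inl a))
  refine ⟨D.yv w, fun a => ?_, ?_, w, hwm, fun i => hw (Sum.inr i), fun l => hwX ▸ hg l, hwX, rfl⟩
  · exact D.yv_mem hwm a
  · rw [← D.eq_mul_of_rel hwm (fun i => hw (Sum.inr i)) (fun l => hwX ▸ hg l), hwX, hg0]

theorem exists_rel_of_quadric (y : Fin n → T) (hy : ∀ a, y a ∈ maximalIdeal T)
    (hQ : VanCyc.quadEval (fun i j => algebraMap A T (D.a i j)) y + algebraMap A T D.b = 0) :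
    ∃ X, (∀ i, X i ∈ maximalIdeal T) ∧ (∀ l, D.g X l = 0) ∧ D.g0 X = 0 ∧ D.Rel X y := by
  obtain ⟨w, ⟨hw, hwm⟩, -⟩ := D.existsUnique_sys true y hy
  have hyv : D.yv w = y := funext fun a => hw (Sum.inl (Sum.inl a))
  refine ⟨w ∘ Sum.inl, fun i => hwm _, fun l => hw (Sum.inl (Sum.inr l)), ?_, w, hwm, fun i => hw (Sum.inr i),
    fun l => hw (Sum.inl (Sum.inr l)), rfl, hyv⟩
  rw [D.eq_mul_of_rel hwm (fun i => hw (Sum.inr i)) (fun l => hw (Sum.inl (Sum.inr l))), hyv, hQ]

theorem rel_right_unique {X : Coord n r → T} {y y' : Fin n → T} (h : D.Rel X y) (h' : D.Rel X y') : y = y' := by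
  obtain ⟨w, hm, ha, hg, hX, rfl⟩ := h
  obtain ⟨w', hm', ha', hg', hX', rfl⟩ := h'
  have hs : ∀ u : Unk n r → T, (∀ i, D.aux u i = 0) → (∀ l, D.g (u ∘ Sum.inl) l = 0) → u ∘ Sum.inl = X →
      ∀ i, D.sys false u i = Sum.elim (Sum.elim (fun a => X (Sum.inl a)) 0) 0 i := by
    rintro u h1 h2 h3 ((i | i) | i)
    · exact congrFun h3 (Sum.inl i)
    · exact h2 i
    · exact h1 i
  rw [(D.existsUnique_sys false (fun a => X (Sum.inl a)) fun a => by rw [← hX]; exact hm _).unique
    ⟨hs w ha hg hX, hm⟩ ⟨hs w' ha' hg' hX', hm'⟩]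

theorem rel_left_unique {X X' : Coord n r → T} {y : Fin n → T} (h : D.Rel X y) (h' : D.Rel X' y) : X = X' := by
  obtain ⟨w, hm, ha, hg, rfl, hy⟩ := h
  obtain ⟨w', hm', ha', hg', rfl, hy'⟩ := h'
  have hs : ∀ u : Unk n r → T, (∀ i, D.aux u i = 0) → (∀ l, D.g (u ∘ Sum.inl) l = 0) → D.yv u = y →
      ∀ i, D.sys true u i = Sum.elim (Sum.elim y 0) 0 i := by
    rintro u h1 h2 h3 ((i | i) | i)
    · exact congrFun h3 i
    · exact h2 i
    · exact h1 i
  have hym : ∀ a, y a ∈ maximalIdeal T := fun a => by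
    rw [← hy]; exact D.yv_mem hm a
  rw [(D.existsUnique_sys true y hym).unique ⟨hs w ha hg hy, hm⟩ ⟨hs w' ha' hg' hy', hm'⟩]

theorem rel_map {T' : Type u} [CommRing T'] [HenselianLocalRing T'] [Algebra A T'] (f : T →ₐ[A] T')
    (hf : ∀ t ∈ maximalIdeal T, f t ∈ maximalIdeal T') {X : Coord n r → T} {y : Fin n → T} (h : D.Rel X y) :
    D.Rel (f ∘ X) (f ∘ y) := by
  obtain ⟨w, hm, ha, hg, rfl, rfl⟩ := h
  refine ⟨f ∘ w, fun i => hf _ (hm i), fun i => ?_, fun l => ?_, rfl, funext fun a => (D.yv_map f w a).symm⟩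
  · rw [← D.aux_map, ha, map_zero]
  · rw [Function.comp_assoc, ← D.g_map, hg, map_zero]

end Points

end NF

end Groth.Agent.QuadHens
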