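import Mathlib
import Groth.Agent.QuadHens.Calculus
import Groth.Agent.QuadHens.Model

/-!
The first coordinate as a parameter: substitution, restriction to the axis and expansions.
-/

set_option autoImplicit false

universe u

open MvPolynomial

namespace Groth.Agent.QuadHens

variable {A : Type u} [CommRing A] {N r : ℕ}

/-- Insertion of the side coordinates. -/
def emb : Coord N r → Coord (N + 1) r := Sum.map Fin.succ id

/-- The point with first coordinate `ω` and side coordinates `w`. -/
def pt {S : Type*} (ω : S) (w : Coord N r → S) : Coord (N + 1) r → S :=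
  Sum.elim (Fin.cons ω fun a => w (Sum.inl a)) fun l => w (Sum.inr l)

theorem pt_zero {S : Type*} (ω : S) (w : Coord N r → S) : pt ω w (Sum.inl 0) = ω := rfl

theorem pt_emb {S : Type*} (ω : S) (w : Coord N r → S) (j : Coord N r) : pt ω w (emb j) = w j := by
  rcases j with a | l <;> simp [pt, emb]

theorem forall_coord {p : Coord (N + 1) r → Prop} : (∀ i, p i) ↔ p (Sum.inl 0) ∧ ∀ j, p (emb j) := by
  refine ⟨fun h => ⟨h _, fun j => h _⟩, fun h i => ?_⟩
  rcases i with a | l
  · obtain rfl | ⟨a, rfl⟩ := Fin.eq_zero_or_eq_succ a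
    exacts [h.1, h.2 (Sum.inl a)]
  · exact h.2 (Sum.inr l)

theorem pt_self {S : Type*} (X : Coord (N + 1) r → S) : pt (X (Sum.inl 0)) (X ∘ emb) = X :=
  funext (forall_coord.2 ⟨rfl, fun j => pt_emb _ _ j⟩)

theorem comp_pt {S T : Type*} (f : S → T) (ω : S) (w : Coord N r → S) : f ∘ pt ω w = pt (f ω) (f ∘ w) :=
  funext (forall_coord.2 ⟨rfl, fun j => by simp [pt_emb]⟩)

theorem emb_injective : Function.Injective (emb : Coord N r → Coord (N + 1) r) :=
  Sum.map_injective.2 ⟨Fin.succ_injective N, Function.injective_id⟩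

theorem emb_ne (j : Coord N r) : emb j ≠ Sum.inl 0 := by
  rcases j with a | l <;> simp [emb, Fin.succ_ne_zero]

/-- Restriction to the first axis. -/
noncomputable def axis : MvPolynomial (Coord (N + 1) r) A →ₐ[A] Polynomial A :=
  aeval (pt (N := N) (r := r) Polynomial.X 0)

theorem axis_coeff (p : MvPolynomial (Coord (N + 1) r) A) :
    (axis p).coeff 0 = constantCoeff p ∧ (axis p).coeff 1 = constantCoeff (pderiv (Sum.inl 0) p) := by
  induction p using MvPolynomial.induction_on with
  | C a => simp [axis, Polynomial.coeff_C]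
  | add p q hp hq => simp [hp.1, hp.2, hq.1, hq.2]
  | mul_X p i hp =>
    revert i
    refine forall_coord.2 ⟨?_, fun j => ?_⟩
    · rw [map_mul, show axis (X (Sum.inl 0) : MvPolynomial (Coord (N + 1) r) A) = Polynomial.X from aeval_X _ _]
      simp [Polynomial.coeff_mul_X, hp.1]
    · rw [map_mul, show axis (X (emb j) : MvPolynomial (Coord (N + 1) r) A) = 0 from (aeval_X _ _).trans (pt_emb _ _ j)]
      simp [pderiv_X, emb_ne j]

section Expand

variable {S : Type*} [CommRing S] [Algebra A S] (ω : S) (w : Coord N r → S)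

theorem aeval_axis (hsq : ∀ i j, w i * w j = 0) (p : MvPolynomial (Coord (N + 1) r) A) :
    aeval (pt ω w) p = Polynomial.aeval ω (axis p) +
      ∑ j, w j * Polynomial.aeval ω (axis (pderiv (emb j) p)) := by
  classical
  induction p using MvPolynomial.induction_on with
  | C a => simp [axis]
  | add p q hp hq =>
    simp only [map_add, hp, hq, mul_add, Finset.sum_add_distrib]
    ring
  | mul_X p i hp =>
    revert i
    refine forall_coord.2 ⟨?_, fun k => ?_⟩
    · have h0 : ∀ j : Coord N r, pderiv (emb j) (X (Sum.inl 0) : MvPolynomial (Coord (N + 1) r) A) = 0 :=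
        fun j => pderiv_X_of_ne (emb_ne j).symm
      have hX : axis (X (Sum.inl 0) : MvPolynomial (Coord (N + 1) r) A) = Polynomial.X := aeval_X _ _
      simp only [map_mul, aeval_X, pt_zero, pderiv_mul, h0, mul_zero, add_zero, hX, Polynomial.aeval_X, hp,
        add_mul, Finset.sum_mul]
      exact congrArg _ (Finset.sum_congr rfl fun j _ => mul_assoc _ _ _)
    · have hX : axis (X (emb k) : MvPolynomial (Coord (N + 1) r) A) = 0 := (aeval_X _ _).trans (pt_emb _ _ k)
      have hd : ∀ j, pderiv (emb j) (X (emb k) : MvPolynomial (Coord (N + 1) r) A) = if k = j then 1 else 0 :=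
        fun j => by
          split_ifs with h
          · rw [h, pderiv_X_self]
          · exact pderiv_X_of_ne fun h' => h (emb_injective h')
      simp only [map_mul, map_add, aeval_X, pt_emb, pderiv_mul, hd, hX, mul_zero, map_zero, zero_add, mul_ite,
        mul_one, apply_ite axis, apply_ite (Polynomial.aeval ω), Finset.sum_ite_eq, Finset.mem_univ, if_true, hp,
        add_mul, Finset.sum_mul]
      rw [Finset.sum_eq_zero fun j _ => by rw [mul_right_comm, hsq, zero_mul], add_zero, mul_comm]

omit w in
theorem aeval_cubic (f : Polynomial A) :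
    ∃ s, Polynomial.aeval ω f = algebraMap A S (f.coeff 0) + algebraMap A S (f.coeff 1) * ω +
      algebraMap A S (f.coeff 2) * ω ^ 2 + s * ω ^ 3 := by
  refine ⟨Polynomial.aeval ω f.divX.divX.divX, ?_⟩
  have h : ∀ g : Polynomial A, Polynomial.aeval ω g = Polynomial.aeval ω g.divX * ω + algebraMap A S (g.coeff 0) :=
    fun g => by
      conv_lhs => rw [← Polynomial.divX_mul_X_add g]
      simp
  rw [h f, h f.divX, h f.divX.divX]
  simp only [Polynomial.coeff_divX]
  ring

/-- Expansion at points whose side coordinates have square zero and are killed by `ω²`. -/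
theorem aeval_pt (hsq : ∀ i j, w i * w j = 0) (hω : ∀ j, ω ^ 2 * w j = 0)
    (p : MvPolynomial (Coord (N + 1) r) A) :
    ∃ s, aeval (pt ω w) p = algebraMap A S (constantCoeff p) +
        algebraMap A S (constantCoeff (pderiv (Sum.inl 0) p)) * ω +
        algebraMap A S ((axis p).coeff 2) * ω ^ 2 + s * ω ^ 3 +
      ∑ j, w j * (algebraMap A S (constantCoeff (pderiv (emb j) p)) +
        algebraMap A S (constantCoeff (pderiv (Sum.inl 0) (pderiv (emb j) p))) * ω) := by
  obtain ⟨s, hs⟩ := aeval_cubic ω (axis p)
  refine ⟨s, ?_⟩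
  rw [aeval_axis ω w hsq, hs, (axis_coeff p).1, (axis_coeff p).2]
  refine congrArg _ (Finset.sum_congr rfl fun j _ => ?_)
  obtain ⟨t, ht⟩ := aeval_cubic ω (axis (pderiv (emb j) p))
  rw [ht, (axis_coeff _).1, (axis_coeff _).2]
  linear_combination (algebraMap A S ((axis (pderiv (emb j) p)).coeff 2) + t * ω) * hω j

end Expand

/-- Substituting the first coordinate by a parameter. -/
noncomputable def sbst {T : Type*} [CommRing T] [Algebra A T] (ω : T) :
    MvPolynomial (Coord (N + 1) r) A →ₐ[A] MvPolynomial (Coord N r) T :=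
  aeval (pt (MvPolynomial.C ω) MvPolynomial.X)

section Sbst

variable {T : Type*} [CommRing T] [Algebra A T] (ω : T)

theorem aeval_sbst {T' : Type*} [CommRing T'] [Algebra A T'] [Algebra T T'] [IsScalarTower A T T']
    (c : Coord N r → T') (p : MvPolynomial (Coord (N + 1) r) A) :
    aeval c (sbst ω p) = aeval (pt (algebraMap T T' ω) c) p := by
  have h := DFunLike.congr_fun
    (comp_aeval (R := A) (pt (MvPolynomial.C ω) MvPolynomial.X) ((aeval (R := T) c).restrictScalars A)) p
  simp only [AlgHom.comp_apply, AlgHom.restrictScalars_apply] at h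
  rw [sbst, h]
  congr 2
  refine (funext (forall_coord.2 ⟨?_, fun j => ?_⟩))
  · simp [pt_zero]
  · simp [pt_emb]

theorem eval_sbst (c : Coord N r → T) (p : MvPolynomial (Coord (N + 1) r) A) :
    eval c (sbst ω p) = aeval (pt ω c) p := by
  rw [← aeval_eq_eval, aeval_sbst]
  rfl

theorem pderiv_sbst (j : Coord N r) (p : MvPolynomial (Coord (N + 1) r) A) :
    pderiv j (sbst ω p) = sbst ω (pderiv (emb j) p) := by
  classical
  induction p using MvPolynomial.induction_on with
  | C a => simp [sbst, MvPolynomial.algebraMap_apply]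
  | add p q hp hq => simp [hp, hq]
  | mul_X p i hp =>
    revert i
    refine forall_coord.2 ⟨?_, fun k => ?_⟩
    · simp [sbst, pderiv_mul, pt_zero, Pi.single_apply, emb_ne, (emb_ne j).symm] at hp ⊢
      rw [hp]
    · simp [sbst, pderiv_mul, pt_emb, Pi.single_apply, emb_injective.eq_iff, apply_ite] at hp ⊢
      rw [hp]

end Sbst

end Groth.Agent.QuadHens
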