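import Mathlib
import Groth.Agent.Morse.Ordinary

/-!
Power series in finitely many variables: decompositions along variables, approximation by polynomials and
continuity of homomorphisms to Noetherian local rings.
-/

set_option autoImplicit false

namespace Groth.Agent.QuadHens

open MvPowerSeries IsLocalRing
open Finsupp (single)
open Groth.Agent.Morse (Ord)

universe u

variable {K : Type u} [CommRing K] {σ : Type}

/-- A series without terms free of the variables in `s` is a combination of these variables. -/
theorem exists_sum_X (s : Finset σ) : ∀ f : MvPowerSeries σ K, (∀ e : σ →₀ ℕ, (∀ i ∈ s, e i = 0) → coeff e f = 0) →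
    ∃ d : σ → MvPowerSeries σ K, f = ∑ i ∈ s, X i * d i ∧ ∀ j, Ord (j + 1) f → ∀ i, Ord j (d i) := by
  classical
  induction s using Finset.induction_on with
  | empty =>
    intro f hf
    exact ⟨0, by rw [Finset.sum_empty]; ext e; rw [map_zero]; exact hf e (by simp), fun j _ i e _ => map_zero _⟩
  | insert a s ha ih =>
    intro f hf
    let D : MvPowerSeries σ K := fun e => coeff (e + single a 1) f
    let f' : MvPowerSeries σ K := fun e => if e a = 0 then coeff e f else 0
    have hf' : ∀ e, coeff e f' = if e a = 0 then coeff e f else 0 := fun e => rfl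
    have hD : ∀ e, coeff e D = coeff (e + single a 1) f := fun e => rfl
    obtain ⟨d, hd, hdo⟩ := ih f' fun e he => by
      rw [hf']
      split_ifs with h
      · exact hf e fun i hi => (Finset.mem_insert.1 hi).elim (fun h' => h' ▸ h) (he i)
      · rfl
    refine ⟨Function.update d a D, ?_, fun j hj i => ?_⟩
    · rw [Finset.sum_insert ha, Function.update_self, Finset.sum_congr rfl fun i hi => by
        rw [Function.update_of_ne (fun h : i = a => ha (h ▸ hi))], ← hd]
      ext e
      rw [map_add, X, coeff_monomial_mul, hf', one_mul]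
      by_cases h : e a = 0
      · rw [if_neg (fun h' : single a 1 ≤ e => by
          have := h' a
          simp [h] at this), if_pos h, zero_add]
      · have h' : single a 1 ≤ e := Finsupp.single_le_iff.2 (Nat.one_le_iff_ne_zero.2 h)
        rw [if_pos h', if_neg h, add_zero, hD, tsub_add_cancel_of_le h']
    · by_cases h : i = a
      · subst h
        rw [Function.update_self]
        intro e he
        rw [hD]
        exact hj _ (by rw [map_add, Finsupp.degree_single]; omega)
      · rw [Function.update_of_ne h]
        refine hdo j (fun e he => ?_) i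
        rw [hf']
        split_ifs
        · exact hj e he
        · rfl

theorem exists_sum_X_univ [Fintype σ] (f : MvPowerSeries σ K) :
    ∃ d : σ → MvPowerSeries σ K, f = C (constantCoeff f) + ∑ i, X i * d i ∧ ∀ j, Ord (j + 1) f → ∀ i, Ord j (d i) := by
  classical
  obtain ⟨d, hd, hdo⟩ := exists_sum_X Finset.univ (f - C (constantCoeff f)) fun e he => by
    obtain rfl : e = 0 := Finsupp.ext fun i => he i (Finset.mem_univ i)
    simp
  refine ⟨d, by rw [← hd]; ring, fun j hj => hdo j fun e he => ?_⟩
  have h0 : constantCoeff f = 0 := by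
    rw [← coeff_zero_eq_constantCoeff_apply]; exact hj 0 (by simp)
  rw [h0, map_zero, sub_zero]
  exact hj e he

/-- Series of order at least `j` lie in the `j`-th power of the ideal of variables. -/
theorem mem_span_X_pow [Fintype σ] : ∀ (j : ℕ) (f : MvPowerSeries σ K), Ord j f →
    f ∈ Ideal.span (Set.range (X : σ → MvPowerSeries σ K)) ^ j
  | 0, f, _ => by simp
  | j + 1, f, hf => by
    obtain ⟨d, hd, hdo⟩ := exists_sum_X_univ f
    rw [hd, Morse.constantCoeff_of_ord (hf.mono (by omega)), map_zero, zero_add, pow_succ']
    exact Ideal.sum_mem _ fun i _ =>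
      Ideal.mul_mem_mul (Ideal.subset_span ⟨i, rfl⟩) (mem_span_X_pow j (d i) (hdo j hf i))

/-- Approximation by polynomials. -/
theorem exists_poly_approx [Fintype σ] : ∀ (j : ℕ) (f : MvPowerSeries σ K),
    ∃ p : MvPolynomial σ K, Ord j (f - (p : MvPowerSeries σ K))
  | 0, f => ⟨0, Morse.ord_zero_deg⟩
  | j + 1, f => by
    obtain ⟨d, hd, -⟩ := exists_sum_X_univ f
    choose p hp using fun i => exists_poly_approx j (d i)
    refine ⟨MvPolynomial.C (constantCoeff f) + ∑ i, MvPolynomial.X i * p i, ?_⟩
    have h : f - ((MvPolynomial.C (constantCoeff f) + ∑ i, MvPolynomial.X i * p i : MvPolynomial σ K) :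
        MvPowerSeries σ K) = ∑ i, X i * (d i - (p i : MvPowerSeries σ K)) := by
      nth_rewrite 1 [hd]
      rw [← MvPolynomial.coeToMvPowerSeries.ringHom_apply, map_add, map_sum]
      simp only [map_mul, MvPolynomial.coeToMvPowerSeries.ringHom_apply, MvPolynomial.coe_C, MvPolynomial.coe_X,
        mul_sub, Finset.sum_sub_distrib]
      ring
    rw [h]
    exact Ord.sum fun i _ => (add_comm 1 j) ▸ (Morse.ord_X i).mul (hp i)

/-- Homomorphisms to Noetherian local rings agreeing on the variables are equal. -/
theorem series_algHom_ext [Fintype σ] {S : Type u} [CommRing S] [IsLocalRing S] [IsNoetherianRing S] [Algebra K S]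
    (φ ψ : MvPowerSeries σ K →ₐ[K] S) (hm : ∀ i, φ (X i) ∈ maximalIdeal S) (h : ∀ i, φ (X i) = ψ (X i)) :
    φ = ψ := by
  have key : ∀ (j : ℕ) f, φ f - ψ f ∈ maximalIdeal S ^ j := by
    intro j
    induction j with
    | zero => simp
    | succ j ih =>
      intro f
      obtain ⟨d, hd, -⟩ := exists_sum_X_univ f
      have h1 : ∀ χ : MvPowerSeries σ K →ₐ[K] S,
          χ f = algebraMap K S (constantCoeff f) + ∑ i, χ (X i) * χ (d i) := fun χ => by
        conv_lhs => rw [hd]
        rw [map_add, map_sum, show (C (constantCoeff f) : MvPowerSeries σ K) =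
          algebraMap K (MvPowerSeries σ K) (constantCoeff f) from rfl, AlgHom.commutes]
        simp only [map_mul]
      rw [h1, h1, add_sub_add_left_eq_sub, ← Finset.sum_sub_distrib]
      refine Ideal.sum_mem _ fun i _ => ?_
      rw [← h i, ← mul_sub, pow_succ']
      exact Ideal.mul_mem_mul (hm i) (ih _)
  refine AlgHom.ext fun f => sub_eq_zero.1 ?_
  rw [← Ideal.mem_bot, ← Ideal.iInf_pow_eq_bot_of_isLocalRing (maximalIdeal S) (maximalIdeal.isMaximal S).ne_top]
  exact Ideal.mem_iInf.2 fun j => key j f

end Groth.Agent.QuadHens
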