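import Mathlib
import Groth.Agent.QuadHens.Series
import Groth.Agent.QuadHens.Model

/-!
Equations of a non-degenerate quadratic singularity in adapted coordinates over an algebraically closed field.
-/

set_option autoImplicit false
set_option linter.style.haveILetI false

namespace Groth.Agent.QuadHens

open MvPowerSeries IsLocalRing
open Finsupp (single)
open Groth.Agent.Morse (Ord)

universe u

section Hom

variable {K : Type u} [CommRing K] {σ τ : Type}

theorem ord_one_iff {f : MvPowerSeries σ K} : Ord 1 f ↔ constantCoeff f = 0 := by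
  refine ⟨Morse.constantCoeff_of_ord, fun h e he => ?_⟩
  obtain rfl : e = 0 := (Finsupp.degree_eq_zero_iff e).1 (by omega)
  rwa [coeff_zero_eq_constantCoeff_apply]

variable [Fintype σ]

/-- Subtracting the affine part leaves terms of order two. -/
theorem ord_two_sub (f : MvPowerSeries σ K) :
    Ord 2 (f - (C (constantCoeff f) + ∑ i, C (coeff (single i 1) f) * X i)) := by
  classical
  intro e he
  rw [map_sub, sub_eq_zero, map_add, map_sum]
  simp only [coeff_C_mul, coeff_X, coeff_C]
  rcases Nat.eq_zero_or_pos e.degree with h | h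
  · obtain rfl := (Finsupp.degree_eq_zero_iff e).1 h
    rw [if_pos rfl, Finset.sum_eq_zero fun i _ => by rw [if_neg (by
      intro h'; simpa using DFunLike.congr_fun h'.symm i), mul_zero], add_zero, coeff_zero_eq_constantCoeff_apply]
  · obtain ⟨i, e', rfl, he'⟩ := Morse.exists_single_add (n := 0) (show e.degree = 0 + 1 by omega)
    obtain rfl := (Finsupp.degree_eq_zero_iff e').1 he'
    rw [add_zero, if_neg (by intro h'; simpa using DFunLike.congr_fun h' i), zero_add,
      Finset.sum_eq_single i (fun j _ hj => by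
        rw [if_neg (fun h' => hj (Finsupp.single_left_injective one_ne_zero h').symm), mul_zero])
        (by simp), if_pos rfl, mul_one]

theorem ord_map (φ : MvPowerSeries σ K →ₐ[K] MvPowerSeries τ K) (h : ∀ i, Ord 1 (φ (X i))) :
    ∀ (j : ℕ) (f : MvPowerSeries σ K), Ord j f → Ord j (φ f)
  | 0, _, _ => Morse.ord_zero_deg
  | j + 1, f, hf => by
    obtain ⟨d, hd, hdo⟩ := exists_sum_X_univ f
    rw [hd, Morse.constantCoeff_of_ord (hf.mono (by omega)), map_zero, zero_add, map_sum]
    refine Ord.sum fun i _ => ?_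
    rw [map_mul, add_comm j 1]
    exact (h i).mul (ord_map φ h j (d i) (hdo j hf i))

theorem algHom_C (φ : MvPowerSeries σ K →ₐ[K] MvPowerSeries τ K) (c : K) : φ (C c) = C c := φ.commutes c

theorem constantCoeff_map (φ : MvPowerSeries σ K →ₐ[K] MvPowerSeries τ K) (h : ∀ i, Ord 1 (φ (X i)))
    (f : MvPowerSeries σ K) : constantCoeff (φ f) = constantCoeff f := by
  have h1 : Ord 1 (φ (f - C (constantCoeff f))) := ord_map φ h 1 _ (ord_one_iff.2 (by simp))
  rw [map_sub, algHom_C, ord_one_iff, map_sub, constantCoeff_C, sub_eq_zero] at h1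
  exact h1

/-- The linear part of an image. -/
theorem coeff_single_map (φ : MvPowerSeries σ K →ₐ[K] MvPowerSeries τ K) (h : ∀ i, Ord 1 (φ (X i)))
    (f : MvPowerSeries σ K) (b : τ) :
    coeff (single b 1) (φ f) = ∑ i, coeff (single i 1) f * coeff (single b 1) (φ (X i)) := by
  classical
  have h1 := ord_map φ h 2 _ (ord_two_sub f) (single b 1) (by rw [Finsupp.degree_single]; omega)
  rw [map_sub φ, map_sub (coeff _), sub_eq_zero, map_add φ, map_sum φ, algHom_C, map_add, map_sum, coeff_C,
    if_neg (by intro h'; simpa using DFunLike.congr_fun h' b), zero_add] at h1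
  rw [h1]
  exact Finset.sum_congr rfl fun i _ => by rw [map_mul φ, algHom_C, coeff_C_mul]

/-- Homomorphisms agreeing to first order agree on series of order two to second order. -/
theorem ord_three_sub (φ ψ : MvPowerSeries σ K →ₐ[K] MvPowerSeries τ K) (hφ : ∀ i, Ord 1 (φ (X i)))
    (hψ : ∀ i, Ord 1 (ψ (X i))) (h : ∀ i, Ord 2 (φ (X i) - ψ (X i))) (f : MvPowerSeries σ K) (hf : Ord 2 f) :
    Ord 3 (φ f - ψ f) := by
  obtain ⟨d, hd, hdo⟩ := exists_sum_X_univ f
  have hd1 := hdo 1 hf
  have hdiff : ∀ i, Ord 2 (φ (d i) - ψ (d i)) := fun i => by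
    obtain ⟨e, he, -⟩ := exists_sum_X_univ (d i)
    rw [he, Morse.constantCoeff_of_ord (hd1 i), map_zero, zero_add, map_sum, map_sum, ← Finset.sum_sub_distrib]
    refine Ord.sum fun l _ => ?_
    rw [map_mul, map_mul, show φ (X l) * φ (e l) - ψ (X l) * ψ (e l) =
      (φ (X l) - ψ (X l)) * φ (e l) + ψ (X l) * (φ (e l) - ψ (e l)) by ring]
    refine Ord.add ((h l).mul Morse.ord_zero_deg) ((hψ l).mul (b := 1) (ord_one_iff.2 ?_))
    rw [map_sub, constantCoeff_map φ hφ, constantCoeff_map ψ hψ, sub_self]
  rw [hd, Morse.constantCoeff_of_ord (hf.mono (by omega)), map_zero, zero_add, map_sum, map_sum,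
    ← Finset.sum_sub_distrib]
  refine Ord.sum fun i _ => ?_
  rw [map_mul, map_mul, show φ (X i) * φ (d i) - ψ (X i) * ψ (d i) =
      (φ (X i) - ψ (X i)) * φ (d i) + ψ (X i) * (φ (d i) - ψ (d i)) by ring]
  exact Ord.add ((h i).mul (ord_map φ hφ 1 _ (hd1 i))) ((hψ i).mul (hdiff i))

end Hom

section Field

variable {K : Type u} [Field K] {n : ℕ}

theorem polarMatrix_congr {a a' : Fin n → Fin n → K} (h : ∀ i j, i ≤ j → a i j = a' i j) :
    VanCyc.polarMatrix a = VanCyc.polarMatrix a' := by
  ext i j
  simp only [VanCyc.polarMatrix]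
  rcases lt_trichotomy i j with hij | hij | hij
  · rw [if_neg hij.ne, if_neg hij.ne, if_pos hij, if_pos hij, h i j hij.le]
  · subst hij; rw [if_pos rfl, if_pos rfl, h i i le_rfl]
  · rw [if_neg hij.ne', if_neg hij.ne', if_neg (not_lt.2 hij.le), if_neg (not_lt.2 hij.le), h j i hij.le]

theorem coeff_qval_X (q : Fin n → Fin n → K) {i j : Fin n} (hij : i ≤ j) :
    coeff (single i 1 + single j 1) (Morse.qval q (X : Fin n → MvPowerSeries (Fin n) K)) = q i j := by
  have h := Morse.coeff_quad_single_add q hij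
  rwa [show ((VanCyc.quadPoly q : MvPolynomial (Fin n) K) : MvPowerSeries (Fin n) K) = Morse.qval q X from by
    have h' := Morse.target_eq (q := q) (a := (0 : K))
    rwa [map_zero, add_zero, map_zero, add_zero] at h'] at h

/-- The quadratic table of a series. -/
noncomputable def pairTab (f : MvPowerSeries (Fin n) K) : Fin n → Fin n → K :=
  fun i j => coeff (single i 1 + single j 1) f

theorem ord_three_qval (f : MvPowerSeries (Fin n) K) (hf : Ord 2 f) :
    Ord 3 (f - Morse.qval (pairTab f) X) := by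
  intro e he
  rw [map_sub, sub_eq_zero]
  rcases Nat.lt_or_ge e.degree 2 with h | h
  · rw [hf e h]
    exact (Morse.Ord.sum (d := 2) (fun i _ => Morse.Ord.sum fun j _ => by
      split_ifs
      · exact ((Morse.ord_X i).mul_left _).mul (Morse.ord_X j)
      · exact Morse.Ord.zero) e h).symm
  · obtain ⟨i, j, hij, rfl⟩ := Morse.exists_pair (show e.degree = 2 by omega)
    rw [coeff_qval_X _ hij]
    rfl

theorem map_qval (φ : MvPowerSeries (Fin n) K →ₐ[K] MvPowerSeries (Fin n) K) (q : Fin n → Fin n → K) :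
    φ (Morse.qval q X) = Morse.qval q (fun i => φ (X i)) := by
  simp [Morse.qval, map_sum, apply_ite φ, algHom_C]

/-- A substitution with invertible linear part is bijective. -/
theorem subst_bijective_of_det (θ : Fin n → MvPowerSeries (Fin n) K) (hθ : ∀ i, Ord 1 (θ i))
    (hΛ : IsUnit (Matrix.of fun i b => coeff (single b 1) (θ i)).det) :
    Function.Bijective (subst (R := K) θ) := by
  classical
  set Λ : Matrix (Fin n) (Fin n) K := Matrix.of fun i b => coeff (single b 1) (θ i)
  let η : Fin n → MvPowerSeries (Fin n) K := fun i => ∑ s, C (Λ⁻¹ i s) * θ s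
  have hη : ∀ i, Ord 2 (η i - X i) := fun i => by
    intro e he
    have hlin : ∀ b, coeff (single b 1) (η i) = if i = b then 1 else 0 := fun b => by
      simp only [η, map_sum, coeff_C_mul]
      have : ∑ s, Λ⁻¹ i s * Λ s b = (1 : Matrix (Fin n) (Fin n) K) i b := by
        rw [← Matrix.mul_apply, Matrix.nonsing_inv_mul _ hΛ]
      exact this.trans Matrix.one_apply
    rcases Nat.eq_zero_or_pos e.degree with h | h
    · obtain rfl := (Finsupp.degree_eq_zero_iff e).1 h
      rw [coeff_zero_eq_constantCoeff_apply, map_sub, constantCoeff_X, sub_zero]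
      exact ord_one_iff.1 (Ord.sum fun s _ => (hθ s).mul_left _)
    · obtain ⟨b, e', rfl, he'⟩ := Morse.exists_single_add (n := 0) (show e.degree = 0 + 1 by omega)
      obtain rfl := (Finsupp.degree_eq_zero_iff e').1 he'
      rw [add_zero, map_sub, hlin, coeff_X, sub_eq_zero]
      exact if_congr ⟨fun h => by rw [h], fun h => (Finsupp.single_left_injective one_ne_zero h).symm⟩ rfl rfl
  have hbij : Function.Bijective (subst (R := K) η) := by
    have := Morse.subst_bijective hη
    simpa using this
  have hηs : HasSubst η := Morse.hasSubst_of_ord fun i => by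
    have := (hη i).mono (show 1 ≤ 2 by omega)
    have := this.add (Morse.ord_X i)
    simpa using this
  have hcomp : (fun f => subst η (subst (Morse.linSub Λ) f)) = subst (R := K) θ := by
    funext f
    rw [subst_comp_subst_apply (Morse.hasSubst_of_ord (Morse.ord_linSub Λ)) hηs]
    congr 1
    funext i
    rw [Morse.linSub, ← coe_substAlgHom hηs, map_sum]
    simp only [map_mul, coe_substAlgHom hηs, subst_C, subst_X hηs]
    simp only [η, Finset.mul_sum, ← mul_assoc, ← map_mul]
    rw [Finset.sum_comm]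
    have : ∀ t, ∑ s, C (Λ i s) * C (Λ⁻¹ s t) * θ t = C ((1 : Matrix (Fin n) (Fin n) K) i t) * θ t := fun t => by
      simp only [← map_mul]
      rw [← Finset.sum_mul, ← map_sum, ← Matrix.mul_apply, Matrix.mul_nonsing_inv _ hΛ]
    simp [this, Matrix.one_apply, apply_ite C, ite_mul]
  rw [← hcomp]
  exact hbij.comp (Morse.linSub_bijective Λ hΛ)

end Field

/-- The coefficient table of the restriction to `z = 0`. -/
noncomputable def resTab {R : Type u} [CommRing R] {m r : ℕ} (u : MvPolynomial (Coord m r) R) : Fin m → Fin m → R :=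
  fun a b => MvPolynomial.coeff (single a 1 + single b 1)
    (MvPolynomial.aeval (Sum.elim MvPolynomial.X (fun _ => (0 : MvPolynomial (Fin m) R))) u)

/-- `T` is a table of a quadratic form equivalent, up to a scalar, to that of `q`. -/
def TabSimilar {K : Type u} [Field K] {n : ℕ} (T q : Fin n → Fin n → K) : Prop :=
  ∃ (Λ : Matrix (Fin n) (Fin n) K) (c : K), IsUnit Λ.det ∧ c ≠ 0 ∧
    ∀ i j, i ≤ j → Morse.foldTab (Λ.transpose * Morse.triMatrix T * Λ) i j = c * q i j

theorem TabSimilar.polar {K : Type u} [Field K] {n : ℕ} {T q : Fin n → Fin n → K}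
    {Λ : Matrix (Fin n) (Fin n) K} {c : K}
    (h : ∀ i j, i ≤ j → Morse.foldTab (Λ.transpose * Morse.triMatrix T * Λ) i j = c * q i j) :
    Λ.transpose * VanCyc.polarMatrix T * Λ = c • VanCyc.polarMatrix q := by
  have hpol := polarMatrix_congr (a' := c • q) fun i j hij => (h i j hij)
  rw [Morse.polarMatrix_foldTab, Matrix.transpose_mul, Matrix.transpose_mul, Matrix.transpose_transpose,
    ← Matrix.mul_assoc, ← Matrix.add_mul, ← Matrix.mul_add, ← Morse.polarMatrix_eq] at hpol
  rw [hpol]
  ext i j
  simp only [VanCyc.polarMatrix, Matrix.smul_apply, Pi.smul_apply, smul_eq_mul]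
  split_ifs <;> ring

theorem TabSimilar.nondeg {K : Type u} [Field K] {n : ℕ} {T q : Fin n → Fin n → K} (h : TabSimilar T q)
    (hq : VanCyc.QuadNondeg q) : IsUnit (VanCyc.polarMatrix T).det := by
  obtain ⟨Λ, c, hΛ, hc, h⟩ := h
  have hdet : IsUnit (Λ.transpose * VanCyc.polarMatrix T * Λ).det := by
    rw [TabSimilar.polar h, Matrix.det_smul]
    exact ((isUnit_iff_ne_zero.2 hc).pow _).mul hq
  rw [Matrix.det_mul, Matrix.det_mul] at hdet
  exact isUnit_of_mul_isUnit_right (isUnit_of_mul_isUnit_left hdet)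

theorem TabSimilar.ord {K : Type u} [Field K] {n : ℕ} {T q : Fin n → Fin n → K} (h : TabSimilar T q)
    (hq : VanCyc.QuadOrd q) : VanCyc.QuadOrd T := by
  obtain ⟨Λ, c, hΛ, hc, h⟩ := h
  intro v hv hBv
  set w := Matrix.mulVec Λ⁻¹ v
  have hvw : Matrix.mulVec Λ w = v := by
    rw [Matrix.mulVec_mulVec, Matrix.mul_nonsing_inv _ hΛ, Matrix.one_mulVec]
  have hw : w = 0 := by
    refine hq w ?_ ?_
    · have h1 : c * VanCyc.quadEval q w = 0 := by
        have h2 : c * VanCyc.quadEval q w =
            dotProduct w (Matrix.mulVec (Λ.transpose * Morse.triMatrix T * Λ) w) := by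
          rw [dot_mulVec_eq_sum_tabd, VanCyc.quadEval, Finset.mul_sum]
          refine Finset.sum_congr rfl fun i _ => ?_
          rw [Finset.mul_sum]
          refine Finset.sum_congr rfl fun j _ => ?_
          split_ifs with hij
          · rw [show tabd (Λ.transpose * Morse.triMatrix T * Λ) i j = c * q i j from ?_]
            · ring
            · rw [← h i j hij]
              unfold tabd Morse.foldTab
              split_ifs with h' <;> simp_all
          · ring
        rw [h2, ← dot_conj, hvw, ← Morse.quadEval_eq_dotProduct, hv]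
      exact (mul_eq_zero.1 h1).resolve_left hc
    · have h1 : Matrix.mulVec (c • VanCyc.polarMatrix q) w = 0 := by
        rw [← TabSimilar.polar h, ← Matrix.mulVec_mulVec, hvw, ← Matrix.mulVec_mulVec, hBv, Matrix.mulVec_zero]
      rw [Matrix.smul_mulVec] at h1
      exact (smul_eq_zero.1 h1).resolve_left hc
  rw [← hvw, hw, Matrix.mulVec_zero]

set_option maxHeartbeats 1000000 in
/-- In coordinates `(x, z)` adapted to the tangent space, a non-degenerate quadratic singularity is cut out by
equations `g` with linear parts `z` and one more equation whose restriction to `z = 0` has non-degenerate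
quadratic part. -/
theorem core {K : Type u} [Field K] [IsAlgClosed K] {m r n : ℕ} (S : Set (MvPolynomial (Coord m r) K))
    (g : Fin r → MvPolynomial (Coord m r) K) (hgS : ∀ l, g l ∈ Ideal.span S)
    (hg0 : ∀ l, MvPolynomial.constantCoeff (g l) = 0)
    (hglin : ∀ l i, MvPolynomial.coeff (single i 1) (g l) = if i = Sum.inr l then 1 else 0)
    (hS0 : ∀ u ∈ S, MvPolynomial.constantCoeff u = 0)
    (hSlin : ∀ u ∈ S, ∀ a, MvPolynomial.coeff (single (Sum.inl a) 1) u = 0)
    (f : MvPowerSeries (Fin (n + 1)) K) (hf : VanCyc.NoLowTerms f) (hfq : ∃ i j, i ≤ j ∧ VanCyc.quadPart f i j ≠ 0)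
    (e : (MvPowerSeries (Coord m r) K ⧸
        Ideal.span ((fun p : MvPolynomial (Coord m r) K => (p : MvPowerSeries (Coord m r) K)) '' S)) ≃ₐ[K]
      (MvPowerSeries (Fin (n + 1)) K ⧸ Ideal.span {f})) :
    m = n + 1 ∧ ∃ u ∈ S, ∀ u0 : MvPolynomial (Coord m r) K, u0 - u ∈ Ideal.span (Set.range g) →
      (∀ i, MvPolynomial.coeff (single i 1) u0 = 0) →
      (∀ hmn : m = n + 1, TabSimilar (resTab u0) (fun a b => VanCyc.quadPart f (Fin.cast hmn a) (Fin.cast hmn b))) ∧
      ∀ v ∈ S, ∀ j : ℕ, v ∈ Ideal.span (insert u0 (Set.range g)) ⊔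
        MvPolynomial.idealOfVars (Coord m r) K ^ j := by
  classical
  set coe : MvPolynomial (Coord m r) K →+* MvPowerSeries (Coord m r) K := MvPolynomial.coeToMvPowerSeries.ringHom
  set Js : Ideal (MvPowerSeries (Coord m r) K) := Ideal.span (coe '' S) with hJs
  have hJmap : ∀ p ∈ Ideal.span S, coe p ∈ Js := fun p hp => by
    rw [hJs, ← Ideal.map_span]; exact Ideal.mem_map_of_mem _ hp
  -- straightening the equations `g`
  let h : Coord m r → MvPowerSeries (Coord m r) K := Sum.elim (fun _ => 0) fun l => coe (g l) - X (Sum.inr l)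
  have hh : ∀ i, Ord 2 (h i) := by
    rintro (a | l)
    · exact Morse.Ord.zero
    intro d hd
    change coeff d (coe (g l) - _) = 0
    rw [map_sub, sub_eq_zero, coeff_X, MvPolynomial.coeToMvPowerSeries.ringHom_apply, MvPolynomial.coeff_coe]
    rcases Nat.eq_zero_or_pos d.degree with h' | h'
    · obtain rfl := (Finsupp.degree_eq_zero_iff d).1 h'
      rw [if_neg (by intro h''; simpa using DFunLike.congr_fun h''.symm (Sum.inr l))]
      exact hg0 l
    · obtain ⟨i, d', rfl, hd'⟩ := Morse.exists_single_add (n := 0) (show d.degree = 0 + 1 by omega)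
      obtain rfl := (Finsupp.degree_eq_zero_iff d').1 hd'
      rw [add_zero, hglin]
      exact if_congr ⟨fun h => by rw [h], fun h => Finsupp.single_left_injective one_ne_zero h⟩ rfl rfl
  have hhs : HasSubst (fun i => X i + h i) := Morse.hasSubst_of_ord (Morse.ord_X_add hh)
  let E : MvPowerSeries (Coord m r) K ≃ₐ[K] MvPowerSeries (Coord m r) K :=
    AlgEquiv.ofBijective (substAlgHom hhs) (by rw [coe_substAlgHom hhs]; exact Morse.subst_bijective hh)
  have hE : ∀ i, E (X i) = X i + h i := fun i => by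
    change substAlgHom hhs (X i) = _
    rw [coe_substAlgHom hhs, subst_X hhs]
  have hEz : ∀ l, E (X (Sum.inr l)) = coe (g l) := fun l => by
    rw [hE]; exact add_sub_cancel _ _
  have hE1 : ∀ i, Ord 1 (E.toAlgHom (X i)) := fun i => by
    change Ord 1 (E (X i))
    rw [hE]; exact Morse.ord_X_add hh i
  have hEsymm1 : ∀ i, Ord 1 (E.symm.toAlgHom (X i)) := fun i => by
    rw [ord_one_iff, ← constantCoeff_map E.toAlgHom hE1]
    change constantCoeff (E (E.symm (X i))) = 0
    rw [AlgEquiv.apply_symm_apply, constantCoeff_X]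
  -- restriction to `z = 0` and its section
  have hvs : HasSubst (Sum.elim (X : Fin m → MvPowerSeries (Fin m) K) (fun _ : Fin r => 0)) :=
    hasSubst_of_constantCoeff_zero fun i => by rcases i with a | l <;> simp
  let res : MvPowerSeries (Coord m r) K →ₐ[K] MvPowerSeries (Fin m) K := substAlgHom hvs
  have hres : ∀ i, res (X i) = Sum.elim (X : Fin m → MvPowerSeries (Fin m) K) (fun _ => 0) i := fun i => by
    simp [res, coe_substAlgHom hvs, subst_X hvs]
  have hιs : HasSubst (fun a : Fin m => (X (Sum.inl a) : MvPowerSeries (Coord m r) K)) :=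
    hasSubst_of_constantCoeff_zero fun a => by simp
  let ι : MvPowerSeries (Fin m) K →ₐ[K] MvPowerSeries (Coord m r) K := substAlgHom hιs
  have hι : ∀ a, ι (X a) = X (Sum.inl a) := fun a => by simp [ι, coe_substAlgHom hιs, subst_X hιs]
  have hresι : ∀ x, res (ι x) = x := fun x => by
    have := series_algHom_ext (res.comp ι) (AlgHom.id K _) (fun a => by
      rw [AlgHom.comp_apply, hι, hres, Sum.elim_inl, mem_maximalIdeal, mem_nonunits_iff,
        MvPowerSeries.isUnit_iff_constantCoeff, constantCoeff_X]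
      exact not_isUnit_zero) (fun a => by simp [hι, hres])
    exact DFunLike.congr_fun this x
  let Zi : Ideal (MvPowerSeries (Coord m r) K) := Ideal.span (Set.range fun l => X (Sum.inr l))
  have hkerres : ∀ v, v - ι (res v) ∈ Zi := fun v => by
    haveI : Nontrivial (MvPowerSeries (Coord m r) K ⧸ Zi) := Ideal.Quotient.nontrivial_iff.2 fun hc => by
      have : Zi ≤ RingHom.ker (constantCoeff (σ := Coord m r) (R := K)) := Ideal.span_le.2 (by
        rintro _ ⟨l, rfl⟩; exact constantCoeff_X _)
      have h1 := this (hc ▸ Submodule.mem_top : (1 : MvPowerSeries (Coord m r) K) ∈ Zi)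
      rw [RingHom.mem_ker, map_one] at h1
      exact one_ne_zero h1
    haveI : IsLocalRing (MvPowerSeries (Coord m r) K ⧸ Zi) :=
      IsLocalRing.of_surjective' (Ideal.Quotient.mk Zi) Ideal.Quotient.mk_surjective
    haveI : IsLocalHom (Ideal.Quotient.mk Zi) := IsLocalHom.of_surjective _ Ideal.Quotient.mk_surjective
    have := series_algHom_ext (Ideal.Quotient.mkₐ K Zi) ((Ideal.Quotient.mkₐ K Zi).comp (ι.comp res))
      (fun i => map_nonunit (Ideal.Quotient.mk Zi) _ (by
        rw [mem_maximalIdeal, mem_nonunits_iff, MvPowerSeries.isUnit_iff_constantCoeff, constantCoeff_X]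
        exact not_isUnit_zero))
      (fun i => by
        rcases i with a | l
        · simp [hres, hι]
        · simp only [AlgHom.comp_apply, hres, Sum.elim_inr, map_zero]
          exact Ideal.Quotient.eq_zero_iff_mem.2 (Ideal.subset_span ⟨l, rfl⟩))
    exact Ideal.Quotient.eq.1 (DFunLike.congr_fun this v)
  let ρ : MvPowerSeries (Coord m r) K →ₐ[K] MvPowerSeries (Fin m) K := res.comp E.symm.toAlgHom
  let κ : MvPowerSeries (Fin m) K →ₐ[K] MvPowerSeries (Coord m r) K := E.toAlgHom.comp ι
  have hρ1 : ∀ i, Ord 1 (ρ (X i)) := fun i => ord_map res (fun j => by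
    rw [hres]; rcases j with a | l
    · exact Morse.ord_X a
    · exact Morse.Ord.zero) 1 _ (hEsymm1 i)
  have hρκ : ∀ x, ρ (κ x) = x := fun x => by
    change res (E.symm (E (ι x))) = x
    rw [AlgEquiv.symm_apply_apply, hresι]
  let Gi : Ideal (MvPowerSeries (Coord m r) K) := Ideal.span (Set.range fun l => coe (g l))
  have hκρ : ∀ v, v - κ (ρ v) ∈ Gi := fun v => by
    have h1 := Ideal.mem_map_of_mem E.toAlgHom.toRingHom (hkerres (E.symm v))
    rw [Ideal.map_span, ← Set.range_comp] at h1
    have h2 : (E.toAlgHom.toRingHom ∘ fun l => (X (Sum.inr l) : MvPowerSeries (Coord m r) K)) =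
        fun l => coe (g l) := funext hEz
    rw [h2] at h1
    change E (E.symm v - ι (res (E.symm v))) ∈ Gi at h1
    rwa [map_sub, AlgEquiv.apply_symm_apply] at h1
  have hρg : ∀ l, ρ (coe (g l)) = 0 := fun l => by
    change res (E.symm (coe (g l))) = 0
    rw [← hEz, AlgEquiv.symm_apply_apply, hres, Sum.elim_inr]
  have hGiJ : Gi ≤ Js := Ideal.span_le.2 (by rintro _ ⟨l, rfl⟩; exact hJmap _ (hgS l))
  have hρGi : ∀ v ∈ Gi, ρ v = 0 := fun v hv =>
    (Ideal.span_le.2 (by rintro _ ⟨l, rfl⟩; exact hρg l) : Gi ≤ RingHom.ker ρ.toRingHom) hv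
  let J' : Ideal (MvPowerSeries (Fin m) K) := Ideal.span (ρ '' (coe '' S))
  have hρJ : ∀ v ∈ Js, ρ v ∈ J' := fun v hv => by
    have := Ideal.mem_map_of_mem ρ.toRingHom hv
    rwa [Ideal.map_span] at this
  have hκJ : ∀ x ∈ J', κ x ∈ Js := fun x hx => by
    refine (Ideal.span_le.2 ?_ : J' ≤ Js.comap κ.toRingHom) hx
    rintro _ ⟨_, ⟨p, hp, rfl⟩, rfl⟩
    change κ (ρ (coe p)) ∈ Js
    have := Js.sub_mem (hJmap p (Ideal.subset_span hp)) (hGiJ (hκρ (coe p)))
    rwa [sub_sub_cancel] at this
  have hJ2 : ∀ x ∈ J', Ord 2 x := fun x hx => by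
    induction hx using Submodule.span_induction with
    | mem x hx =>
      obtain ⟨_, ⟨p, hp, rfl⟩, rfl⟩ := hx
      have hc : constantCoeff (coe p) = 0 := hS0 p hp
      have h1 : Ord 2 (coe p - ∑ l, C (coeff (single (Sum.inr l) 1) (coe p)) * coe (g l)) := by
        intro d hd
        rcases Nat.eq_zero_or_pos d.degree with h' | h'
        · obtain rfl := (Finsupp.degree_eq_zero_iff d).1 h'
          simp only [map_sub, map_sum, coeff_zero_eq_constantCoeff_apply, map_mul, hc]
          rw [Finset.sum_eq_zero fun l _ => by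
            rw [show constantCoeff (coe (g l)) = 0 from hg0 l, mul_zero], sub_zero]
        · obtain ⟨i, d', rfl, hd'⟩ := Morse.exists_single_add (n := 0) (show d.degree = 0 + 1 by omega)
          obtain rfl := (Finsupp.degree_eq_zero_iff d').1 hd'
          simp only [add_zero, map_sub, map_sum, coeff_C_mul]
          simp only [coe, MvPolynomial.coeToMvPowerSeries.ringHom_apply, MvPolynomial.coeff_coe, hglin]
          rcases i with a | l
          · simp [hSlin p hp a]
          · simp
      have h2 := ord_map ρ hρ1 2 _ h1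
      rw [map_sub ρ, map_sum ρ, Finset.sum_eq_zero fun l _ => by rw [map_mul ρ, hρg, mul_zero], sub_zero] at h2
      exact h2
    | zero => exact Morse.Ord.zero
    | add x y _ _ hx hy => exact hx.add hy
    | smul c x _ hx => exact hx.mul_left c
  -- the map to the normal form
  set R := MvPowerSeries (Fin (n + 1)) K ⧸ Ideal.span {f}
  have hfm : f ∈ maximalIdeal (MvPowerSeries (Fin (n + 1)) K) := by
    rw [mem_maximalIdeal, mem_nonunits_iff, MvPowerSeries.isUnit_iff_constantCoeff, hf.1]
    exact not_isUnit_zero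
  haveI : Nontrivial R := Ideal.Quotient.nontrivial_iff.2
    (ne_top_of_le_ne_top (maximalIdeal.isMaximal _).ne_top ((Ideal.span_singleton_le_iff_mem _).2 hfm))
  haveI : IsLocalRing R := IsLocalRing.of_surjective' (Ideal.Quotient.mk _) Ideal.Quotient.mk_surjective
  let π : MvPowerSeries (Fin (n + 1)) K →ₐ[K] R := Ideal.Quotient.mkₐ K _
  haveI : IsLocalHom (Ideal.Quotient.mk (Ideal.span {f})) := IsLocalHom.of_surjective _ Ideal.Quotient.mk_surjective
  let α : MvPowerSeries (Fin m) K →ₐ[K] R :=
    e.toAlgHom.comp ((Ideal.Quotient.mkₐ K Js).comp κ)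
  have hα : ∀ x, α x = 0 ↔ x ∈ J' := fun x => by
    change e (Ideal.Quotient.mk Js (κ x)) = 0 ↔ _
    refine (map_eq_zero_iff e e.injective).trans (Ideal.Quotient.eq_zero_iff_mem.trans ?_)
    exact ⟨fun hx => by simpa [hρκ] using hρJ _ hx, hκJ x⟩
  have hαsurj : Function.Surjective α := fun y => by
    obtain ⟨v, hv⟩ := Ideal.Quotient.mk_surjective (e.symm y)
    refine ⟨ρ v, ?_⟩
    change e (Ideal.Quotient.mk Js (κ (ρ v))) = y
    rw [show Ideal.Quotient.mk Js (κ (ρ v)) = Ideal.Quotient.mk Js v from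
      (Ideal.Quotient.eq.2 (hGiJ (hκρ v))).symm]
    exact (congrArg e hv).trans (e.apply_symm_apply y)
  choose θ hθ using fun a => Ideal.Quotient.mk_surjective (α (X a))
  have hθ1 : ∀ a, Ord 1 (θ a) := fun a => by
    rw [ord_one_iff]
    by_contra hc
    have hu : IsUnit (α (X a)) := by
      rw [← hθ]
      exact (MvPowerSeries.isUnit_iff_constantCoeff.2 (isUnit_iff_ne_zero.2 hc)).map _
    obtain ⟨y, hy⟩ := hαsurj ↑hu.unit⁻¹
    have h1 : X a * y - 1 ∈ J' := (hα _).1 (by rw [map_sub, map_mul, hy, map_one, IsUnit.mul_val_inv, sub_self])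
    have h2 := (hJ2 _ h1).mono (show 1 ≤ 2 by omega)
    rw [ord_one_iff] at h2
    simp at h2
  choose η hη using fun b => hαsurj (π (X b))
  have hη1 : ∀ b, Ord 1 (η b) := fun b => by
    rw [ord_one_iff]
    by_contra hc
    have hu : IsUnit (π (X b)) := by
      rw [← hη]
      exact (MvPowerSeries.isUnit_iff_constantCoeff.2 (isUnit_iff_ne_zero.2 hc)).map α
    have := (IsUnit.of_map (Ideal.Quotient.mk (Ideal.span {f})) _ hu)
    rw [MvPowerSeries.isUnit_iff_constantCoeff, constantCoeff_X] at this
    exact not_isUnit_zero this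
  have hθs : HasSubst θ := hasSubst_of_constantCoeff_zero fun a => Morse.constantCoeff_of_ord (hθ1 a)
  have hηs : HasSubst η := hasSubst_of_constantCoeff_zero fun a => Morse.constantCoeff_of_ord (hη1 a)
  let Φ : MvPowerSeries (Fin m) K →ₐ[K] MvPowerSeries (Fin (n + 1)) K := substAlgHom hθs
  let H : MvPowerSeries (Fin (n + 1)) K →ₐ[K] MvPowerSeries (Fin m) K := substAlgHom hηs
  have hΦX : ∀ a, Φ (X a) = θ a := fun a => by simp [Φ, coe_substAlgHom hθs, subst_X hθs]
  have hHX : ∀ b, H (X b) = η b := fun b => by simp [H, coe_substAlgHom hηs, subst_X hηs]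
  have hπΦ : π.comp Φ = α := series_algHom_ext _ _ (fun a => by
      rw [AlgHom.comp_apply, hΦX]
      refine map_nonunit (Ideal.Quotient.mk (Ideal.span {f})) _ ?_
      rw [mem_maximalIdeal, mem_nonunits_iff, MvPowerSeries.isUnit_iff_constantCoeff,
        Morse.constantCoeff_of_ord (hθ1 a)]
      exact not_isUnit_zero) fun a => by rw [AlgHom.comp_apply, hΦX]; exact hθ a
  have hαH : α.comp H = π := (series_algHom_ext _ _ (fun b => by
      refine map_nonunit (Ideal.Quotient.mk (Ideal.span {f})) _ ?_
      rw [mem_maximalIdeal, mem_nonunits_iff, MvPowerSeries.isUnit_iff_constantCoeff, constantCoeff_X]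
      exact not_isUnit_zero) fun b => by rw [AlgHom.comp_apply, hHX]; exact (hη b).symm).symm
  have hfspan : ∀ x, π x = 0 → Ord 2 x := fun x hx => by
    obtain ⟨c, rfl⟩ := Ideal.mem_span_singleton'.1 (Ideal.Quotient.eq_zero_iff_mem.1 hx)
    refine Morse.Ord.mul_left ?_ c
    intro d hd
    rcases Nat.eq_zero_or_pos d.degree with h' | h'
    · rw [(Finsupp.degree_eq_zero_iff d).1 h', coeff_zero_eq_constantCoeff_apply]; exact hf.1
    · obtain ⟨i, d', rfl, hd'⟩ := Morse.exists_single_add (n := 0) (show d.degree = 0 + 1 by omega)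
      rw [(Finsupp.degree_eq_zero_iff d').1 hd', add_zero]
      exact hf.2 i
  let Λ : Matrix (Fin m) (Fin (n + 1)) K := Matrix.of fun a b => coeff (single b 1) (θ a)
  let M : Matrix (Fin (n + 1)) (Fin m) K := Matrix.of fun b a => coeff (single a 1) (η b)
  have hMΛ : M * Λ = 1 := by
    ext b b'
    have h1 : Ord 2 (Φ (η b) - X b) := hfspan _ (by
      rw [map_sub, ← AlgHom.comp_apply, hπΦ, hη, sub_self])
    have h2 := h1 (single b' 1) (by rw [Finsupp.degree_single]; omega)
    rw [map_sub (coeff _), sub_eq_zero, coeff_single_map Φ (fun a => by rw [hΦX]; exact hθ1 a), coeff_X] at h2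
    rw [Matrix.mul_apply, Matrix.one_apply]
    refine (Finset.sum_congr rfl fun a _ => ?_).trans (h2.trans (if_congr ⟨fun h => ?_, fun h => ?_⟩ rfl rfl))
    · rw [hΦX]; rfl
    · exact (Finsupp.single_left_injective one_ne_zero h).symm
    · rw [h]
  have hΛM : Λ * M = 1 := by
    ext a a'
    have h1 : Ord 2 (H (θ a) - X a) := hJ2 _ ((hα _).1 (by
      rw [map_sub, ← AlgHom.comp_apply, hαH]
      exact sub_eq_zero.2 (hθ a)))
    have h2 := h1 (single a' 1) (by rw [Finsupp.degree_single]; omega)
    rw [map_sub (coeff _), sub_eq_zero, coeff_single_map H (fun b => by rw [hHX]; exact hη1 b), coeff_X] at h2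
    rw [Matrix.mul_apply, Matrix.one_apply]
    refine (Finset.sum_congr rfl fun b _ => ?_).trans (h2.trans (if_congr ⟨fun h => ?_, fun h => ?_⟩ rfl rfl))
    · rw [hHX]; rfl
    · exact (Finsupp.single_left_injective one_ne_zero h).symm
    · rw [h]
  have hmn : m = n + 1 := by
    have := LinearEquiv.finrank_eq (LinearEquiv.ofLinearMap (Matrix.toLin' M) (Matrix.toLin' Λ)
      (by rw [← Matrix.toLin'_mul, hMΛ, Matrix.toLin'_one]) (by rw [← Matrix.toLin'_mul, hΛM, Matrix.toLin'_one]))
    simpa using this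
  subst hmn
  refine ⟨rfl, ?_⟩
  have hΛdet : IsUnit Λ.det := (Matrix.isUnit_iff_isUnit_det _).1 (IsUnit.of_mul_eq_one_right M hMΛ)
  have hΦbij : Function.Bijective Φ := by
    simp only [Φ, coe_substAlgHom hθs]
    exact subst_bijective_of_det θ hθ1 hΛdet
  have hJΦ : ∀ x, x ∈ J' ↔ f ∣ Φ x := fun x => by
    rw [← hα, ← hπΦ, AlgHom.comp_apply, ← Ideal.mem_span_singleton]
    exact Ideal.Quotient.eq_zero_iff_mem
  have hf0 : f ≠ 0 := by
    rintro rfl
    obtain ⟨i, j, -, h⟩ := hfq
    exact h (by simp [VanCyc.quadPart])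
  obtain ⟨u, huS, c, hcu, hc⟩ : ∃ u ∈ S, ∃ c, Φ (ρ (coe u)) = c * f ∧ IsUnit c := by
    by_contra hno
    push Not at hno
    have hsub : ∀ x ∈ J', Φ x ∈ maximalIdeal (MvPowerSeries (Fin (n + 1)) K) * Ideal.span {f} := fun x hx => by
      refine (Ideal.span_le.2 ?_ :
        J' ≤ (maximalIdeal (MvPowerSeries (Fin (n + 1)) K) * Ideal.span {f}).comap Φ.toRingHom) hx
      rintro _ ⟨_, ⟨p, hp, rfl⟩, rfl⟩
      rw [SetLike.mem_coe, Ideal.mem_comap]
      change Φ (ρ (coe p)) ∈ _
      obtain ⟨c, hc⟩ := (hJΦ _).1 (hρJ _ (hJmap p (Ideal.subset_span hp)))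
      rw [hc, mul_comm f c]
      exact Ideal.mul_mem_mul ((mem_maximalIdeal _).2 (hno p hp c (hc.trans (mul_comm _ _))))
        (Ideal.mem_span_singleton_self f)
    obtain ⟨x, hx⟩ := hΦbij.2 f
    have h1 := hsub x ((hJΦ x).2 (hx.symm ▸ dvd_rfl))
    rw [hx, Ideal.mem_mul_span_singleton] at h1
    obtain ⟨a, ha, haf⟩ := h1
    obtain rfl : a = 1 := mul_right_cancel₀ hf0 (haf.trans (one_mul f).symm)
    exact (mem_maximalIdeal _).1 ha isUnit_one
  refine ⟨u, huS, fun u0 hu0 hu0lin => ?_⟩
  set G := ρ (coe u) with hG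
  have hρu0 : ρ (coe u0) = G := by
    rw [hG, ← sub_eq_zero, ← map_sub, ← map_sub]
    refine hρGi _ ?_
    have := Ideal.mem_map_of_mem coe hu0
    rwa [Ideal.map_span, ← Set.range_comp] at this
  have hu00 : MvPolynomial.constantCoeff u0 = 0 := by
    have h1 : Ideal.span (Set.range g) ≤ RingHom.ker (MvPolynomial.constantCoeff (σ := Coord (n + 1) r) (R := K)) :=
      Ideal.span_le.2 (by rintro _ ⟨l, rfl⟩; exact hg0 l)
    have h2 := h1 hu0
    rw [RingHom.mem_ker, map_sub, hS0 u huS, sub_zero] at h2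
    exact h2
  have hu02 : Ord 2 (coe u0) := by
    intro d hd
    rw [MvPolynomial.coeToMvPowerSeries.ringHom_apply, MvPolynomial.coeff_coe]
    rcases Nat.eq_zero_or_pos d.degree with h' | h'
    · rw [(Finsupp.degree_eq_zero_iff d).1 h']; exact hu00
    · obtain ⟨i, d', rfl, hd'⟩ := Morse.exists_single_add (n := 0) (show d.degree = 0 + 1 by omega)
      rw [(Finsupp.degree_eq_zero_iff d').1 hd', add_zero]
      exact hu0lin i
  have hG2 : Ord 2 G := hρu0 ▸ ord_map ρ hρ1 2 _ hu02
  refine ⟨?_, fun v hv j => ?_⟩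
  · -- quadratic parts
    have hrestr : res (coe u0) = ((MvPolynomial.aeval
        (Sum.elim MvPolynomial.X (fun _ : Fin r => (0 : MvPolynomial (Fin (n + 1)) K))) u0 :
          MvPolynomial (Fin (n + 1)) K) : MvPowerSeries (Fin (n + 1)) K) := by
      have h' : res.comp (MvPolynomial.coeToMvPowerSeries.algHom K) =
          (MvPolynomial.coeToMvPowerSeries.algHom K).comp (MvPolynomial.aeval
            (Sum.elim MvPolynomial.X (fun _ : Fin r => (0 : MvPolynomial (Fin (n + 1)) K)))) := by
        refine MvPolynomial.algHom_ext fun i => ?_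
        rcases i with a | l <;> simp [MvPolynomial.coeToMvPowerSeries.algHom_apply, hres]
      simpa [MvPolynomial.coeToMvPowerSeries.algHom_apply, coe] using DFunLike.congr_fun h' u0
    have hρres : Ord 3 (G - res (coe u0)) := by
      rw [← hρu0]
      refine ord_three_sub ρ res hρ1 (fun j => by
        rw [hres]; rcases j with a | l
        · exact Morse.ord_X a
        · exact Morse.Ord.zero) (fun i => ?_) _ hu02
      change Ord 2 (res (E.symm (X i)) - res (X i))
      rw [← map_sub]
      refine ord_map res (fun j => by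
        rw [hres]; rcases j with a | l
        · exact Morse.ord_X a
        · exact Morse.Ord.zero) 2 _ ?_
      have h1 : E.symm (X i) - X i = -E.symm (h i) := by
        rw [eq_neg_iff_add_eq_zero, sub_add_eq_add_sub, ← map_add, ← hE, AlgEquiv.symm_apply_apply, sub_self]
      rw [h1]
      exact (ord_map E.symm.toAlgHom hEsymm1 2 _ (hh i)).neg
    have htab : ∀ a b, a ≤ b → pairTab G a b = MvPolynomial.coeff (single a 1 + single b 1)
        (MvPolynomial.aeval (Sum.elim MvPolynomial.X (fun _ : Fin r => (0 : MvPolynomial (Fin (n + 1)) K))) u0) := by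
      intro a b _
      have h1 := hρres (single a 1 + single b 1) (by rw [map_add, Finsupp.degree_single, Finsupp.degree_single]; omega)
      rw [map_sub, sub_eq_zero, hrestr, MvPolynomial.coeff_coe] at h1
      exact h1
    intro _
    -- compare with `f`
    let qf := VanCyc.quadPart f
    set c0 := constantCoeff c
    have hΦ1 : ∀ a, Ord 1 (Φ (X a)) := fun a => by rw [hΦX]; exact hθ1 a
    have h3 : Ord 3 (Φ G - Morse.qval (pairTab G) (Morse.linSub Λ)) := by
      have hls : HasSubst (Morse.linSub Λ) := Morse.hasSubst_of_ord (Morse.ord_linSub Λ)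
      have hlX : ∀ a, substAlgHom (R := K) hls (X a) = Morse.linSub Λ a := fun a => by
        rw [coe_substAlgHom hls, subst_X hls]
      have h1 := ord_map Φ hΦ1 3 _ (ord_three_qval G hG2)
      have hq2 : Ord 2 (Morse.qval (pairTab G) (X : Fin (n + 1) → MvPowerSeries (Fin (n + 1)) K)) := by
        simpa using hG2.sub ((ord_three_qval G hG2).mono (show 2 ≤ 3 by omega))
      have h2 := ord_three_sub Φ (substAlgHom hls) hΦ1 (fun a => by rw [hlX]; exact Morse.ord_linSub Λ a)
        (fun a => by
          rw [hlX, hΦX]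
          intro d hd
          rw [map_sub, sub_eq_zero]
          rcases Nat.eq_zero_or_pos d.degree with h' | h'
          · rw [hθ1 a d (by omega), Morse.ord_linSub Λ a d (by omega)]
          · obtain ⟨i, d', rfl, hd'⟩ := Morse.exists_single_add (n := 0) (show d.degree = 0 + 1 by omega)
            rw [(Finsupp.degree_eq_zero_iff d').1 hd', add_zero]
            simp only [Morse.linSub, map_sum, coeff_C_mul, coeff_X]
            rw [Finset.sum_eq_single i (fun s _ hs => by
              rw [if_neg (fun h' => hs (Finsupp.single_left_injective one_ne_zero h').symm), mul_zero]) (by simp),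
              if_pos rfl, mul_one]
            rfl) _ hq2
      rw [map_qval (substAlgHom hls)] at h2
      simp only [hlX] at h2
      rw [map_sub] at h1
      simpa using h1.add h2
    rw [Morse.qval_linSub, hcu] at h3
    have hf3 : Ord 3 (f - Morse.qval qf X) := by
      have := Morse.ord_three_of_noLow hf
      rwa [Morse.target_eq, map_zero, add_zero] at this
    have hcf : Ord 3 (c * f - C c0 * Morse.qval qf X) := by
      have h1 : c * f - C c0 * Morse.qval qf X = (c - C c0) * f + C c0 * (f - Morse.qval qf X) := by ring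
      rw [h1]
      have hf2 : Ord 2 f := hfspan f (Ideal.Quotient.eq_zero_iff_mem.2 (Ideal.mem_span_singleton_self f))
      exact ((ord_one_iff.2 (by simp [c0])).mul hf2).add (hf3.mul_left _)
    have hkey : ∀ a b, a ≤ b →
        Morse.foldTab (Λ.transpose * Morse.triMatrix (pairTab G) * Λ) a b = (c0 • qf : Fin (n + 1) → Fin (n + 1) → K) a b := by
      intro a b hab
      have h4 := h3.sub hcf
      rw [show c * f - Morse.qval (Morse.foldTab (Λ.transpose * Morse.triMatrix (pairTab G) * Λ)) X -
        (c * f - C c0 * Morse.qval qf X) = C c0 * Morse.qval qf X -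
        Morse.qval (Morse.foldTab (Λ.transpose * Morse.triMatrix (pairTab G) * Λ)) X by ring] at h4
      have h5 := h4 (single a 1 + single b 1) (by rw [map_add, Finsupp.degree_single, Finsupp.degree_single]; omega)
      rw [map_sub, sub_eq_zero, coeff_C_mul, coeff_qval_X _ hab, coeff_qval_X _ hab] at h5
      exact h5.symm
    refine ⟨Λ, c0, hΛdet, (MvPowerSeries.isUnit_iff_constantCoeff.1 hc).ne_zero, fun i j hij => ?_⟩
    have htri : Morse.triMatrix (resTab u0) = Morse.triMatrix (pairTab G) := by
      ext a b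
      unfold Morse.triMatrix
      split_ifs with hab
      · exact (htab a b hab).symm
      · rfl
    rw [htri]
    exact hkey i j hij
  · -- generation
    obtain ⟨b, hb⟩ := (hJΦ _).1 (hρJ _ (hJmap v (Ideal.subset_span hv)))
    obtain ⟨cu, hcu'⟩ := hc
    obtain ⟨y, hy⟩ := hΦbij.2 (b * ↑cu⁻¹)
    have hv1 : ρ (coe v) = y * G := hΦbij.1 (by
      rw [hb, map_mul, hy, hcu, ← hcu']
      linear_combination (-(f * b)) * Units.inv_mul cu)
    have hv2 : coe v - κ y * coe u0 ∈ Gi := by
      have h1 : ρ (coe v - κ y * coe u0) = 0 := by rw [map_sub, map_mul, hρκ, hρu0, hv1, sub_self]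
      have h2 := hκρ (coe v - κ y * coe u0)
      rwa [h1, map_zero, sub_zero] at h2
    obtain ⟨d, hd⟩ := (Ideal.mem_span_range_iff_exists_fun).1 hv2
    choose p hp using fun l => exists_poly_approx j (d l)
    obtain ⟨p0, hp0⟩ := exists_poly_approx j (κ y)
    have hrest : Ord j (coe (v - p0 * u0 - ∑ l, p l * g l)) := by
      have : coe (v - p0 * u0 - ∑ l, p l * g l) = (κ y - coe p0) * coe u0 + ∑ l, (d l - coe (p l)) * coe (g l) := by
        simp only [map_sub, map_mul, map_sum, sub_mul, Finset.sum_sub_distrib]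
        linear_combination -hd
      rw [this]
      exact (hp0.mul Morse.ord_zero_deg).add (Ord.sum fun l _ => (hp l).mul Morse.ord_zero_deg)
    refine Submodule.mem_sup.2 ⟨p0 * u0 + ∑ l, p l * g l, ?_, v - p0 * u0 - ∑ l, p l * g l, ?_, by ring⟩
    · exact add_mem (Ideal.mul_mem_left _ _ (Ideal.subset_span (Set.mem_insert _ _)))
        (Ideal.sum_mem _ fun l _ => Ideal.mul_mem_left _ _ (Ideal.subset_span (Set.mem_insert_of_mem _ ⟨l, rfl⟩)))
    · rw [MvPolynomial.mem_pow_idealOfVars_iff']
      intro e he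
      have := hrest e he
      rwa [MvPolynomial.coeToMvPowerSeries.ringHom_apply, MvPolynomial.coeff_coe] at this

end Groth.Agent.QuadHens
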