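import Mathlib
import Groth.Prelude.Def_QuadSing
import Groth.Agent.Popescu.LocalModel
import Groth.Agent.Popescu.QuadModel

/-!
The completed local ring of the geometric closed fibre at a point, in affine coordinates.
-/

set_option autoImplicit false
set_option linter.style.haveILetI false
set_option backward.isDefEq.respectTransparency false

universe u

open IsLocalRing TensorProduct

namespace Groth.Agent.QuadHens

/-- An isomorphism of local algebras induces one of completions. -/
theorem completion_equiv_of_algEquiv {k B D : Type u} [CommRing k] [CommRing B] [IsLocalRing B] [CommRing D]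
    [IsLocalRing D] [Algebra k B] [Algebra k D] (e : B ≃ₐ[k] D) :
    Nonempty (AdicCompletion (maximalIdeal B) B ≃ₐ[k] AdicCompletion (maximalIdeal D) D) := by
  have hmax : (maximalIdeal B).map e.toRingEquiv = maximalIdeal D := by
    haveI := Ideal.map_isMaximal_of_equiv e.toRingEquiv (p := maximalIdeal B)
    exact eq_maximalIdeal this
  refine RigPts.adicCompletion_algEquiv e.toAlgHom (maximalIdeal B) (maximalIdeal D) (fun n b hb => ?_)
    (fun n b hb => ?_) (fun n d => ⟨e.symm d, by simp⟩)
  · rw [← hmax, ← Ideal.map_pow, Ideal.mem_comap]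
    exact Ideal.mem_map_of_mem e.toRingEquiv hb
  · rw [← hmax, ← Ideal.map_pow, Ideal.mem_map_of_equiv] at hb
    obtain ⟨c, hc, hcb⟩ := hb
    rwa [e.injective hcb] at hc

set_option maxHeartbeats 1000000 in
/-- The completion of the geometric closed fibre at a point is the quotient of the power series ring by the
equations, in coordinates centred at the point. -/
theorem exists_completion_equiv (A : Type u) [CommRing A] [IsLocalRing A] (B₀ : Type u) [CommRing B₀]
    [Algebra A B₀] (P : Ideal B₀) [P.IsPrime] {σ τ : Type} [Fintype τ] (π : MvPolynomial σ A →ₐ[A] B₀)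
    (hπ : Function.Surjective π) (χ : B₀ →ₐ[A] AlgebraicClosure (ResidueField A))
    (hχ : ∀ b, χ b = 0 ↔ b ∈ P)
    (θ : MvPolynomial σ (AlgebraicClosure (ResidueField A)) ≃ₐ[AlgebraicClosure (ResidueField A)]
      MvPolynomial τ (AlgebraicClosure (ResidueField A)))
    (hθ : ∀ i, MvPolynomial.constantCoeff (θ (MvPolynomial.X i)) = χ (π (MvPolynomial.X i))) :
    letI := (VanCyc.fibHom A (Localization.AtPrime P)).toAlgebra
    ∃ (M : Ideal (AlgebraicClosure (ResidueField A) ⊗[ResidueField A] VanCyc.fibQuot A (Localization.AtPrime P)))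
      (_ : M.IsMaximal),
      Nonempty ((MvPowerSeries τ (AlgebraicClosure (ResidueField A)) ⧸ Ideal.span
          ((fun p : MvPolynomial τ (AlgebraicClosure (ResidueField A)) =>
            (p : MvPowerSeries τ (AlgebraicClosure (ResidueField A)))) ''
            ((fun u => θ (MvPolynomial.map (algebraMap A (AlgebraicClosure (ResidueField A))) u)) '' {u | π u = 0})))
        ≃ₐ[AlgebraicClosure (ResidueField A)]
        AdicCompletion (R := Localization.AtPrime M) (maximalIdeal (Localization.AtPrime M)) (Localization.AtPrime M)) := by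
  letI := (VanCyc.fibHom A (Localization.AtPrime P)).toAlgebra
  set k := ResidueField A
  set K := AlgebraicClosure k
  set L := Localization.AtPrime P
  set O := VanCyc.fibQuot A L
  let cls : B₀ → O := fun b => Ideal.Quotient.mk _ (algebraMap B₀ L b)
  have hkO : ∀ a : A, algebraMap k O (residue A a) = Ideal.Quotient.mk _ (algebraMap A L a) := fun a => rfl
  -- evaluation at the point
  let χL : L →ₐ[A] K := IsLocalization.liftAlgHom (M := P.primeCompl) (f := χ)
    fun y => isUnit_iff_ne_zero.2 fun h => y.2 ((hχ _).1 h)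
  have hχL : ∀ b, χL (algebraMap B₀ L b) = χ b := fun b => IsLocalization.lift_eq _ b
  have hAK : ∀ a ∈ maximalIdeal A, algebraMap A K a = 0 := fun a ha => by
    rw [IsScalarTower.algebraMap_apply A k K, show algebraMap A k a = 0 from (residue_eq_zero_iff a).2 ha, map_zero]
  let ε₀ : O →ₐ[k] K :=
    { Ideal.Quotient.lift ((maximalIdeal A).map (algebraMap A L)) χL.toRingHom (fun y hy => by
        refine (Ideal.map_le_iff_le_comap.2 (fun a ha => ?_) : _ ≤ RingHom.ker χL.toRingHom) hy
        change χL (algebraMap A L a) = 0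
        rw [AlgHom.commutes, hAK a ha]) with
      commutes' := fun c => by
        obtain ⟨a, rfl⟩ := residue_surjective c
        rw [hkO]
        change χL (algebraMap A L a) = _
        rw [AlgHom.commutes, IsScalarTower.algebraMap_apply A k K]
        rfl }
  let ε : K ⊗[k] O →ₐ[K] K := Algebra.TensorProduct.lift (Algebra.ofId K K) ε₀ fun x y => Commute.all _ _
  have hε : ∀ o, ε (1 ⊗ₜ o) = ε₀ o := fun o => by simp [ε]
  let M : Ideal (K ⊗[k] O) := RingHom.ker ε
  haveI hM : M.IsMaximal := RingHom.ker_isMaximal_of_surjective _ fun c => ⟨algebraMap K _ c, ε.commutes c⟩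
  refine ⟨M, hM, ?_⟩
  -- the polynomial ring maps to the fibre
  let ν : MvPolynomial τ K →ₐ[K] K ⊗[k] O :=
    (MvPolynomial.aeval fun i => (1 : K) ⊗ₜ[k] cls (π (MvPolynomial.X i))).comp θ.symm.toAlgHom
  have hν : ∀ u : MvPolynomial σ A, ν (θ (MvPolynomial.map (algebraMap A K) u)) = (1 : K) ⊗ₜ[k] cls (π u) := by
    intro u
    change MvPolynomial.aeval _ (θ.symm (θ _)) = _
    rw [AlgEquiv.symm_apply_apply]
    induction u using MvPolynomial.induction_on with
    | C a =>
      rw [MvPolynomial.map_C, MvPolynomial.aeval_C, show π (MvPolynomial.C a) = algebraMap A B₀ a from π.commutes a,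
        IsScalarTower.algebraMap_apply A k K, show algebraMap A k a = residue A a from rfl]
      simp only [cls]
      rw [← IsScalarTower.algebraMap_apply A B₀ L, ← hkO, Algebra.TensorProduct.algebraMap_apply,
        Algebra.algebraMap_self, RingHom.id_apply, ← Algebra.TensorProduct.tmul_one_eq_one_tmul]
    | add p q hp hq => simp only [map_add, hp, hq, cls, TensorProduct.tmul_add]
    | mul_X p i hp =>
      simp only [map_mul, MvPolynomial.map_X, MvPolynomial.aeval_X, hp]
      rw [Algebra.TensorProduct.tmul_mul_tmul, one_mul]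
      simp only [cls, map_mul]
  let cc : MvPolynomial τ K →ₐ[K] K := MvPolynomial.aeval fun _ => (0 : K)
  have hcc : ∀ p, cc p = MvPolynomial.constantCoeff p := fun p => by
    simp [cc, MvPolynomial.aeval_zero']
  have hεν : ε.comp ν = cc := by
    have h : (ε.comp ν).comp θ.toAlgHom = cc.comp θ.toAlgHom := MvPolynomial.algHom_ext fun i => by
      have := hν (MvPolynomial.X i)
      rw [MvPolynomial.map_X] at this
      change ε (ν (θ (MvPolynomial.X i))) = cc (θ (MvPolynomial.X i))
      rw [this, hε, hcc, hθ]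
      exact hχL _
    refine AlgHom.ext fun p => ?_
    have := DFunLike.congr_fun h (θ.symm p)
    change ε (ν (θ (θ.symm p))) = cc (θ (θ.symm p)) at this
    rw [AlgEquiv.apply_symm_apply] at this
    exact this
  let I₀ : Ideal (MvPolynomial τ K) := MvPolynomial.idealOfVars τ K
  haveI : I₀.IsMaximal := Popescu.idealOfVars_isMaximal τ K
  have hI₀ : ∀ p, p ∈ I₀ ↔ cc p = 0 := fun p => by
    rw [hcc, show I₀ = I₀ ^ 1 from (pow_one _).symm, MvPolynomial.mem_pow_idealOfVars_iff']
    refine ⟨fun h => h 0 (by simp), fun h e he => ?_⟩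
    obtain rfl : e = 0 := (Finsupp.degree_eq_zero_iff e).1 (by omega)
    exact h
  let gens : Set (MvPolynomial τ K) :=
    (fun u => θ (MvPolynomial.map (algebraMap A K) u)) '' {u | π u = 0}
  let J : Ideal (MvPolynomial τ K) := Ideal.span gens
  have hνJ : ∀ p ∈ J, ν p = 0 := fun p hp => by
    refine (Ideal.span_le.2 ?_ : J ≤ RingHom.ker ν.toRingHom) hp
    rintro _ ⟨u, hu, rfl⟩
    change ν _ = 0
    rw [hν, show π u = 0 from hu]
    simp [cls]
  have hJ : J ≤ I₀ := fun p hp => by
    rw [hI₀, ← hεν, AlgHom.comp_apply, hνJ p hp, map_zero]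
  set p₀ := I₀.map (Ideal.Quotient.mk J)
  haveI hp₀m : p₀.IsMaximal :=
    Ideal.IsMaximal.map_of_surjective_of_ker_le Ideal.Quotient.mk_surjective (by rw [Ideal.mk_ker]; exact hJ)
  set Lp := Localization.AtPrime p₀
  have hmem₀ : ∀ p, Ideal.Quotient.mk J p ∈ p₀ ↔ p ∈ I₀ := fun p => by
    rw [← Ideal.mem_comap, Ideal.comap_map_of_surjective' _ Ideal.Quotient.mk_surjective, Ideal.mk_ker,
      sup_eq_left.2 hJ]
  have hunit₀ : ∀ p, cc p ≠ 0 → IsUnit (algebraMap (MvPolynomial τ K ⧸ J) Lp (Ideal.Quotient.mk J p)) :=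
    fun p hp => IsLocalization.map_units Lp
      (⟨Ideal.Quotient.mk J p, fun h => hp ((hI₀ p).1 ((hmem₀ p).1 h))⟩ : p₀.primeCompl)
  let Q := Localization.AtPrime M
  let F : (MvPolynomial τ K ⧸ J) →ₐ[K] Q :=
    (IsScalarTower.toAlgHom K (K ⊗[k] O) Q).comp (Ideal.Quotient.liftₐ J ν hνJ)
  have hF : ∀ p, F (Ideal.Quotient.mk J p) = algebraMap _ Q (ν p) := fun p => rfl
  let F' : Lp →ₐ[K] Q := IsLocalization.liftAlgHom (M := p₀.primeCompl) (f := F) fun y => by
    obtain ⟨p, hp⟩ := Ideal.Quotient.mk_surjective (y : MvPolynomial τ K ⧸ J)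
    rw [← hp, hF]
    refine IsLocalization.map_units Q (⟨ν p, fun h => y.2 ?_⟩ : M.primeCompl)
    rw [← hp, SetLike.mem_coe, hmem₀, hI₀, ← hεν]
    exact h
  have hF' : ∀ y, F' (algebraMap _ Lp y) = F y := fun y => IsLocalization.lift_eq _ y
  -- back
  let ψ : MvPolynomial σ A →ₐ[A] Lp :=
    (((IsScalarTower.toAlgHom K (MvPolynomial τ K ⧸ J) Lp).comp
      ((Ideal.Quotient.mkₐ K J).comp θ.toAlgHom)).restrictScalars A).comp
      (MvPolynomial.mapAlgHom (Algebra.ofId A K))
  have hψ : ∀ u, ψ u = algebraMap _ Lp (Ideal.Quotient.mk J (θ (MvPolynomial.map (algebraMap A K) u))) :=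
    fun u => rfl
  let β₀ : B₀ →ₐ[A] Lp := AlgHom.liftOfSurjective (C := Lp) π hπ ψ (by
    intro u hu
    change ψ u = 0
    rw [hψ, Ideal.Quotient.eq_zero_iff_mem.2 (show θ (MvPolynomial.map (algebraMap A K) u) ∈ J from
      Ideal.subset_span ⟨u, hu, rfl⟩), map_zero])
  have hβ₀ : ∀ u, β₀ (π u) = ψ u := fun u => AlgHom.liftOfSurjective_apply _ _ _ _ u
  have hθu : ∀ u : MvPolynomial σ A, cc (θ (MvPolynomial.map (algebraMap A K) u)) = χ (π u) := fun u => by
    rw [← hεν, AlgHom.comp_apply, hν, hε]
    exact hχL _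
  let β₁ : L →ₐ[A] Lp := IsLocalization.liftAlgHom (M := P.primeCompl) (f := β₀) fun y => by
    obtain ⟨u, hu⟩ := hπ y
    rw [← hu, hβ₀, hψ]
    exact hunit₀ _ (by rw [hθu, hu]; exact fun h => y.2 ((hχ _).1 h))
  have hβ₁ : ∀ b, β₁ (algebraMap B₀ L b) = β₀ b := fun b => IsLocalization.lift_eq _ b
  let β₂ : O →ₐ[k] Lp :=
    { Ideal.Quotient.lift ((maximalIdeal A).map (algebraMap A L)) β₁.toRingHom (fun y hy => by
        refine (Ideal.map_le_iff_le_comap.2 (fun a ha => ?_) : _ ≤ RingHom.ker β₁.toRingHom) hy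
        change β₁ (algebraMap A L a) = 0
        rw [AlgHom.commutes, IsScalarTower.algebraMap_apply A K Lp, hAK a ha, map_zero]) with
      commutes' := fun c => by
        obtain ⟨a, rfl⟩ := residue_surjective c
        rw [hkO]
        change β₁ (algebraMap A L a) = _
        rw [AlgHom.commutes, IsScalarTower.algebraMap_apply A k Lp]
        rfl }
  let β : K ⊗[k] O →ₐ[K] Lp := Algebra.TensorProduct.lift (Algebra.ofId K Lp) β₂ fun x y => Commute.all _ _
  have hβν : ∀ p, β (ν p) = algebraMap _ Lp (Ideal.Quotient.mk J p) := by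
    have h : (β.comp ν).comp θ.toAlgHom =
        ((IsScalarTower.toAlgHom K (MvPolynomial τ K ⧸ J) Lp).comp (Ideal.Quotient.mkₐ K J)).comp θ.toAlgHom :=
      MvPolynomial.algHom_ext fun i => by
        have h1 := hν (MvPolynomial.X i)
        have h2 := hψ (MvPolynomial.X i)
        rw [MvPolynomial.map_X] at h1 h2
        change β (ν (θ (MvPolynomial.X i))) = algebraMap _ Lp (Ideal.Quotient.mk J (θ (MvPolynomial.X i)))
        rw [h1]
        simp only [β, Algebra.TensorProduct.lift_tmul, map_one, one_mul]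
        change β₁ (algebraMap B₀ L (π (MvPolynomial.X i))) = _
        rw [hβ₁, hβ₀, h2]
    intro p
    have := DFunLike.congr_fun h (θ.symm p)
    change β (ν (θ (θ.symm p))) = algebraMap _ Lp (Ideal.Quotient.mk J (θ (θ.symm p))) at this
    rw [AlgEquiv.apply_symm_apply] at this
    exact this
  let κp : Lp →ₐ[K] K := IsLocalization.liftAlgHom (M := p₀.primeCompl)
    (f := Ideal.Quotient.liftₐ J cc fun p hp => (hI₀ p).1 (hJ hp)) fun y => by
      obtain ⟨p, hp⟩ := Ideal.Quotient.mk_surjective (y : MvPolynomial τ K ⧸ J)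
      rw [← hp]
      refine isUnit_iff_ne_zero.2 fun h => y.2 ?_
      rw [← hp, SetLike.mem_coe, hmem₀, hI₀]
      exact h
  have hκp : ∀ p, κp (algebraMap _ Lp (Ideal.Quotient.mk J p)) = cc p := fun p => IsLocalization.lift_eq _ _
  have hκβ : κp.comp β = ε := Algebra.TensorProduct.ext (Subsingleton.elim _ _) (by
    refine AlgHom.ext fun o => ?_
    obtain ⟨y, rfl⟩ := Ideal.Quotient.mk_surjective o
    have h1 : ((κp.restrictScalars A).comp β₁).comp (IsScalarTower.toAlgHom A B₀ L) =
        χL.comp (IsScalarTower.toAlgHom A B₀ L) := by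
      refine AlgHom.ext fun b => ?_
      obtain ⟨u, rfl⟩ := hπ b
      simp only [AlgHom.comp_apply, IsScalarTower.coe_toAlgHom', AlgHom.coe_restrictScalars']
      rw [hβ₁, hβ₀, hψ, hκp, hθu, hχL]
    have h2 : (κp.restrictScalars A).comp β₁ = χL :=
      AlgHom.coe_ringHom_injective (IsLocalization.ringHom_ext P.primeCompl
        (congrArg AlgHom.toRingHom h1))
    simp only [AlgHom.comp_apply, AlgHom.coe_restrictScalars', Algebra.TensorProduct.includeRight_apply]
    simp only [β, Algebra.TensorProduct.lift_tmul, map_one, one_mul, hε]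
    exact DFunLike.congr_fun h2 y)
  let G : Q →ₐ[K] Lp := IsLocalization.liftAlgHom (M := M.primeCompl) (f := β) fun z => by
    refine notMem_maximalIdeal.1 fun h => z.2 ?_
    have hle : maximalIdeal Lp ≤ RingHom.ker κp.toRingHom := by
      rw [← eq_maximalIdeal (RingHom.ker_isMaximal_of_surjective κp.toRingHom fun c =>
        ⟨algebraMap K Lp c, κp.commutes c⟩)]
    change ε z.1 = 0
    rw [← hκβ]
    exact hle h
  have hG : ∀ z, G (algebraMap _ Q z) = β z := fun z => IsLocalization.lift_eq _ z
  have h₁ : G.comp F' = AlgHom.id K Lp := AlgHom.coe_ringHom_injective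
    (IsLocalization.ringHom_ext p₀.primeCompl (RingHom.ext fun y => by
      obtain ⟨p, rfl⟩ := Ideal.Quotient.mk_surjective y
      change G (F' (algebraMap _ Lp (Ideal.Quotient.mk J p))) = _
      rw [hF', hF, hG, hβν]
      rfl))
  have h₂ : F'.comp G = AlgHom.id K Q := by
    have h3 : (F'.comp G).comp (IsScalarTower.toAlgHom K (K ⊗[k] O) Q) = IsScalarTower.toAlgHom K (K ⊗[k] O) Q := by
      refine Algebra.TensorProduct.ext (Subsingleton.elim _ _) (AlgHom.ext fun o => ?_)
      obtain ⟨y, rfl⟩ := Ideal.Quotient.mk_surjective o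
      let g₁ : L →ₐ[A] Q := (F'.restrictScalars A).comp β₁
      let g₂ : L →+* Q := (algebraMap (K ⊗[k] O) Q).comp
        ((Algebra.TensorProduct.includeRight (R := k) (A := K) (B := O)).toRingHom.comp (Ideal.Quotient.mk _))
      have hg : g₁.toRingHom = g₂ := IsLocalization.ringHom_ext P.primeCompl (RingHom.ext fun b => by
        obtain ⟨u, rfl⟩ := hπ b
        change F' (β₁ (algebraMap B₀ L (π u))) = algebraMap _ Q ((1 : K) ⊗ₜ[k] cls (π u))
        rw [hβ₁, hβ₀, hψ, hF', hF, hν])
      simp only [AlgHom.comp_apply, AlgHom.coe_restrictScalars', Algebra.TensorProduct.includeRight_apply,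
        IsScalarTower.coe_toAlgHom']
      rw [hG]
      simp only [β, Algebra.TensorProduct.lift_tmul, map_one, one_mul]
      exact RingHom.congr_fun hg y
    exact AlgHom.coe_ringHom_injective (IsLocalization.ringHom_ext M.primeCompl (congrArg AlgHom.toRingHom h3))
  let eLQ : Lp ≃ₐ[K] Q := AlgEquiv.ofAlgHom F' G h₂ h₁
  obtain ⟨E₁⟩ := completion_equiv_of_algEquiv (k := K) (B := Lp) (D := Q) eLQ
  obtain ⟨E₂⟩ := Popescu.completion_localization_quotient (k := K) I₀ J hJ
  let E₃ : (MvPowerSeries τ K ⧸ Ideal.span ((fun p : MvPolynomial τ K => (p : MvPowerSeries τ K)) '' gens)) ≃ₐ[K]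
      (AdicCompletion I₀ (MvPolynomial τ K) ⧸ J.map (algebraMap _ (AdicCompletion I₀ (MvPolynomial τ K)))) :=
    Ideal.quotientEquivAlg _ _ ((MvPowerSeries.toAdicCompletionAlgEquiv τ K).restrictScalars K) (by
      rw [Ideal.map_span, Ideal.map_span]
      congr 1
      ext z
      simp only [Set.mem_image, exists_exists_and_eq_and]
      constructor
      · rintro ⟨p, hp, rfl⟩
        exact ⟨p, hp, MvPowerSeries.toAdicCompletion_coe p⟩
      · rintro ⟨p, hp, rfl⟩
        exact ⟨p, hp, (MvPowerSeries.toAdicCompletion_coe p).symm⟩)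
  exact ⟨(E₃.trans E₂.symm).trans E₁⟩

end Groth.Agent.QuadHens
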