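import Mathlib
import Groth.Agent.QuadHens.Calculus
import Groth.Agent.QuadHens.Core
import Groth.Agent.QuadHens.Geometry

/-!
Equations of an algebra at a point whose geometric closed fibre is a non-degenerate quadratic singularity.
-/

set_option autoImplicit false
set_option linter.style.haveILetI false

universe u

open IsLocalRing MvPolynomial TensorProduct

namespace Groth.Agent.QuadHens

/-- An algebraic closure of the residue field. -/
abbrev KK (A : Type u) [CommRing A] [IsLocalRing A] : Type u := AlgebraicClosure (ResidueField A)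

variable {A : Type u} [CommRing A] [IsLocalRing A] {B₀ : Type u} [CommRing B₀] [Algebra A B₀] {σ : Type}

/-- The linear part at a point. -/
noncomputable def jac (π : MvPolynomial σ A →ₐ[A] B₀) (χ : B₀ →ₐ[A] KK A) (u : MvPolynomial σ A) (i : σ) : KK A :=
  χ (π (pderiv i u))

theorem eval_point (π : MvPolynomial σ A →ₐ[A] B₀) (χ : B₀ →ₐ[A] KK A) (u : MvPolynomial σ A) :
    eval (fun i => χ (π (X i))) (MvPolynomial.map (algebraMap A (KK A)) u) = χ (π u) := by
  rw [eval_map, ← MvPolynomial.aeval_def]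
  exact (DFunLike.congr_fun (aeval_unique (χ.comp π)) u).symm

theorem jac_mul (π : MvPolynomial σ A →ₐ[A] B₀) (χ : B₀ →ₐ[A] KK A) (p g : MvPolynomial σ A) (hg : π g = 0)
    (i : σ) : jac π χ (p * g) i = χ (π p) * jac π χ g i := by
  simp [jac, pderiv_mul, hg]

theorem jac_sub (π : MvPolynomial σ A →ₐ[A] B₀) (χ : B₀ →ₐ[A] KK A) (p g : MvPolynomial σ A) (i : σ) :
    jac π χ (p - g) i = jac π χ p i - jac π χ g i := by simp [jac]

theorem jac_sum {ι : Type*} (π : MvPolynomial σ A →ₐ[A] B₀) (χ : B₀ →ₐ[A] KK A) (s : Finset ι)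
    (p : ι → MvPolynomial σ A) (i : σ) : jac π χ (∑ l ∈ s, p l) i = ∑ l ∈ s, jac π χ (p l) i := by simp [jac]

set_option maxHeartbeats 1000000 in
/-- At a point whose geometric closed fibre is a quadratic singularity, with `g` cutting out the
tangent space as the graph of a linear map, there is one more equation: its differential vanishes at the point,
its Hessian on the tangent space is non-degenerate, and together with `g` it generates all equations. -/
theorem analysis_gen (P : Ideal B₀) [P.IsPrime] {m r n : ℕ} (π : MvPolynomial (Coord m r) A →ₐ[A] B₀)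
    (hπ : Function.Surjective π) (χ : B₀ →ₐ[A] KK A) (hχ : ∀ b, χ b = 0 ↔ b ∈ P)
    (g : Fin r → MvPolynomial (Coord m r) A) (hg : ∀ l, π (g l) = 0)
    (hgz : ∀ l l', jac π χ (g l) (Sum.inr l') = if l = l' then 1 else 0)
    (hspan : ∀ u, π u = 0 → ∀ a, jac π χ u (Sum.inl a) = ∑ l, jac π χ u (Sum.inr l) * jac π χ (g l) (Sum.inl a))
    (Pf : MvPowerSeries (Fin (n + 1)) (KK A) → Prop) (hlow : ∀ f, Pf f → VanCyc.NoLowTerms f)
    (hne : ∀ f, Pf f → ∃ i j, i ≤ j ∧ VanCyc.quadPart f i j ≠ 0)
    (hq : letI := (VanCyc.fibHom A (Localization.AtPrime P)).toAlgebra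
      ∀ (M : Ideal (KK A ⊗[ResidueField A] VanCyc.fibQuot A (Localization.AtPrime P))) [M.IsMaximal],
        ∃ f, Pf f ∧ Nonempty (AdicCompletion (R := Localization.AtPrime M)
          (maximalIdeal (Localization.AtPrime M)) (Localization.AtPrime M) ≃ₐ[KK A]
            (MvPowerSeries (Fin (n + 1)) (KK A) ⧸ Ideal.span {f}))) :
    ∃ g0 : MvPolynomial (Coord m r) A, π g0 = 0 ∧ m = n + 1 ∧ (∀ i, jac π χ g0 i = 0) ∧
      ((∀ f, Pf f → VanCyc.QuadNondeg (VanCyc.quadPart f)) →
        (∀ v : Coord m r → KK A, (∀ l, v (Sum.inr l) = -∑ a, jac π χ (g l) (Sum.inl a) * v (Sum.inl a)) →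
          (∀ i, ∑ j, χ (π (pderiv j (pderiv i g0))) * v j = 0) → v = 0) ∧
        ((∀ l a, jac π χ (g l) (Sum.inl a) = 0) →
          IsUnit (Matrix.of fun a b => χ (π (pderiv (Sum.inl a) (pderiv (Sum.inl b) g0)))).det)) ∧
      ((∀ i, χ (π (X i)) = 0) → (∀ l a, jac π χ (g l) (Sum.inl a) = 0) →
        ∃ f, Pf f ∧ ∀ hmn : m = n + 1, TabSimilar (resTab (MvPolynomial.map (algebraMap A (KK A)) g0))
          (fun a b => VanCyc.quadPart f (Fin.cast hmn a) (Fin.cast hmn b))) ∧
      ((∀ i, χ (π (X i)) = 0) → (∀ l a, jac π χ (g l) (Sum.inl a) = 0) → ∀ u, π u = 0 → ∀ j : ℕ,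
        MvPolynomial.map (algebraMap A (KK A)) u ∈
          Ideal.span (insert (MvPolynomial.map (algebraMap A (KK A)) g0)
            (Set.range fun l => MvPolynomial.map (algebraMap A (KK A)) (g l))) ⊔
          idealOfVars (Coord m r) (KK A) ^ j) := by
  classical
  let α : Coord m r → KK A := fun i => χ (π (X i))
  let S : Fin r → Fin m → KK A := fun l a => jac π χ (g l) (Sum.inl a)
  let ℓ : Coord m r → MvPolynomial (Coord m r) (KK A) :=
    Sum.elim (fun a => X (Sum.inl a) + C (α (Sum.inl a)))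
      (fun l => X (Sum.inr l) + C (α (Sum.inr l)) - ∑ a, C (S l a) * X (Sum.inl a))
  let ℓ' : Coord m r → MvPolynomial (Coord m r) (KK A) :=
    Sum.elim (fun a => X (Sum.inl a) - C (α (Sum.inl a)))
      (fun l => X (Sum.inr l) - C (α (Sum.inr l)) + ∑ a, C (S l a) * (X (Sum.inl a) - C (α (Sum.inl a))))
  let θ : MvPolynomial (Coord m r) (KK A) ≃ₐ[KK A] MvPolynomial (Coord m r) (KK A) :=
    AlgEquiv.ofAlgHom (aeval ℓ) (aeval ℓ')
      (MvPolynomial.algHom_ext fun i => by
        rcases i with a | l <;> simp [ℓ, ℓ', map_sum, MvPolynomial.algebraMap_eq] <;> ring)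
      (MvPolynomial.algHom_ext fun i => by
        rcases i with a | l <;> simp [ℓ, ℓ', map_sum, MvPolynomial.algebraMap_eq] <;> ring)
  have hℓc : ∀ i, constantCoeff (ℓ i) = α i := fun i => by
    rcases i with a | l <;> simp [ℓ, map_sum]
  have hθX : ∀ i, θ (X i) = ℓ i := fun i => aeval_X ℓ i
  let T : MvPolynomial (Coord m r) A → MvPolynomial (Coord m r) (KK A) :=
    fun u => θ (MvPolynomial.map (algebraMap A (KK A)) u)
  have hT : ∀ u, T u = aeval ℓ (MvPolynomial.map (algebraMap A (KK A)) u) := fun u => rfl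
  have hTc : ∀ u, constantCoeff (T u) = χ (π u) := fun u => by
    rw [hT, constantCoeff_aeval, funext hℓc, eval_point]
  let L : Coord m r → Coord m r → KK A := fun i j => coeff (Finsupp.single j 1) (ℓ i)
  have hTl : ∀ u j, coeff (Finsupp.single j 1) (T u) = ∑ i, jac π χ u i * L i j := fun u j => by
    rw [hT, coeff_single_aeval, funext hℓc]
    refine Finset.sum_congr rfl fun i _ => ?_
    rw [MvPolynomial.pderiv_map, eval_point]
    rfl
  have hLd : ∀ i j, L i j = constantCoeff (pderiv j (ℓ i)) := fun i j => coeff_single_eq _ _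
  have hLx : ∀ u a, ∑ i, jac π χ u i * L i (Sum.inl a) =
      jac π χ u (Sum.inl a) - ∑ l, jac π χ u (Sum.inr l) * S l a := fun u a => by
    rw [Fintype.sum_sum_type, sub_eq_add_neg, ← Finset.sum_neg_distrib]
    congr 1
    · rw [Finset.sum_eq_single a]
      · simp [hLd, ℓ]
      · intro b _ hb
        simp [hLd, ℓ, pderiv_X, Pi.single_apply, hb, hb.symm]
      · simp
    · refine Finset.sum_congr rfl fun l _ => ?_
      simp [hLd, ℓ, map_sum, pderiv_X, Pi.single_apply, apply_ite constantCoeff]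
  have hLz : ∀ u l', ∑ i, jac π χ u i * L i (Sum.inr l') = jac π χ u (Sum.inr l') := fun u l' => by
    rw [Fintype.sum_sum_type, Finset.sum_eq_zero (fun a _ => by
      simp [hLd, ℓ]), zero_add, Finset.sum_eq_single l']
    · simp [hLd, ℓ, map_sum]
    · intro b _ hb
      simp [hLd, ℓ, map_sum, pderiv_X, Pi.single_apply, hb, hb.symm]
    · simp
  -- the normal form of the completed fibre
  letI := (VanCyc.fibHom A (Localization.AtPrime P)).toAlgebra
  obtain ⟨M, hM, ⟨e₁⟩⟩ := exists_completion_equiv A B₀ P π hπ χ hχ θ (fun i => by rw [hθX, hℓc])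
  haveI := hM
  obtain ⟨f, hf, ⟨e₂⟩⟩ := hq M
  have hgl : ∀ l i, coeff (Finsupp.single i 1) (T (g l)) = if i = Sum.inr l then 1 else 0 := fun l i => by
    rw [hTl]
    rcases i with a | l'
    · rw [hLx]
      simp [hgz, S, ite_mul]
    · rw [hLz, hgz]
      exact if_congr ⟨fun h => h ▸ rfl, fun h => (Sum.inr_injective h).symm⟩ rfl rfl
  obtain ⟨hmn, u', ⟨u, hu, rfl⟩, hcore⟩ := core (T '' {u | π u = 0}) (fun l => T (g l))
    (fun l => Ideal.subset_span ⟨g l, hg l, rfl⟩) (fun l => by rw [hTc, hg, map_zero]) hgl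
    (by rintro _ ⟨u, hu, rfl⟩; rw [hTc, show π u = 0 from hu, map_zero])
    (by
      rintro _ ⟨u, hu, rfl⟩ a
      rw [hTl, hLx, hspan u hu a, sub_self])
    f (hlow f hf) (hne f hf) (e₁.trans e₂)
  let g0 := u - ∑ l, pderiv (Sum.inr l) u * g l
  have hg0 : π g0 = 0 := by simp [g0, map_sum, hg, show π u = 0 from hu]
  have hjac0 : ∀ i, jac π χ g0 i = 0 := fun i => by
    simp only [g0, jac_sub, jac_sum, jac_mul π χ _ _ (hg _)]
    change _ - ∑ l, jac π χ u (Sum.inr l) * _ = 0
    rcases i with a | l'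
    · rw [hspan u hu a, sub_self]
    · simp [hgz, mul_ite]
  have hmem : T g0 - T u ∈ Ideal.span (Set.range fun l => T (g l)) := by
    simp only [T, g0, map_sub, map_sum, map_mul, sub_sub_cancel_left]
    exact Ideal.neg_mem_iff _ |>.2 (Ideal.sum_mem _ fun l _ => Ideal.mul_mem_left _ _ (Ideal.subset_span ⟨l, rfl⟩))
  have hlin0 : ∀ i, coeff (Finsupp.single i 1) (T g0) = 0 := fun i => by
    rw [hTl]; simp [hjac0]
  obtain ⟨hdet, hgen⟩ := hcore (T g0) hmem hlin0
  -- the restriction to the tangent space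
  let ρ : Coord m r → MvPolynomial (Fin m) (KK A) :=
    Sum.elim (fun a => X a + C (α (Sum.inl a))) (fun l => C (α (Sum.inr l)) - ∑ a, C (S l a) * X a)
  let H : Coord m r → Coord m r → KK A := fun i j => χ (π (pderiv j (pderiv i g0)))
  let Lr : Coord m r → Fin m → KK A := Sum.elim (fun b a => if b = a then 1 else 0) (fun l a => -S l a)
  have hrest : aeval (Sum.elim X (fun _ => (0 : MvPolynomial (Fin m) (KK A)))) (T g0) =
      aeval ρ (MvPolynomial.map (algebraMap A (KK A)) g0) := by
    rw [hT, ← AlgHom.comp_apply, comp_aeval]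
    congr 2
    funext i
    rcases i with a | l <;> simp [ℓ, ρ, map_sum, MvPolynomial.algebraMap_eq]
  have hρc : ∀ i, constantCoeff (ρ i) = α i := fun i => by rcases i with a | l <;> simp [ρ, map_sum]
  have hρd : ∀ a i, pderiv a (ρ i) = C (Lr i a) := fun a i => by
    rcases i with b | l
    · simp [ρ, Lr, pderiv_X, Pi.single_apply, apply_ite C]
    · simp [ρ, Lr, map_sum, pderiv_X, Pi.single_apply, mul_ite, Finset.sum_ite_eq']
  have hHess : ∀ a b, constantCoeff (pderiv a (pderiv b (aeval ρ (MvPolynomial.map (algebraMap A (KK A)) g0)))) =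
      ∑ i, ∑ j, Lr i b * H i j * Lr j a := fun a b => by
    rw [pderiv_aeval, map_sum, map_sum]
    refine Finset.sum_congr rfl fun i _ => ?_
    rw [hρd, pderiv_mul, pderiv_C, mul_zero, add_zero, pderiv_aeval, map_mul, map_sum, constantCoeff_C,
      Finset.sum_mul]
    refine Finset.sum_congr rfl fun j _ => ?_
    rw [hρd, map_mul, constantCoeff_C, constantCoeff_aeval, funext hρc, MvPolynomial.pderiv_map,
      MvPolynomial.pderiv_map, eval_point]
    ring
  set W : Matrix (Fin m) (Fin m) (KK A) := fun a b => ∑ i, ∑ j, Lr i b * H i j * Lr j a with hW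
  subst hmn
  have hθ : (∀ i, χ (π (X i)) = 0) → (∀ l a, jac π χ (g l) (Sum.inl a) = 0) → ∀ p, θ p = p := fun hα hS p => by
    have : θ.toAlgHom = AlgHom.id (KK A) _ := MvPolynomial.algHom_ext fun i => by
      change θ (X i) = X i
      rw [hθX]
      rcases i with a | l <;> simp [ℓ, α, hα, S, hS]
    exact DFunLike.congr_fun this p
  refine ⟨g0, hg0, rfl, hjac0, fun hnd => ?_, fun hα hS => ⟨f, hf, fun h => ?_⟩, fun hα hS u hu j => ?_⟩
  · have hWdet : IsUnit W.det := by
      have hd : IsUnit (VanCyc.polarMatrix (resTab (T g0))).det := (hdet rfl).nondeg (hnd f hf)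
      unfold resTab at hd
      rw [hrest, polarMatrix_coeff] at hd
      rwa [show W = fun a b => constantCoeff (pderiv a (pderiv b (aeval ρ
        (MvPolynomial.map (algebraMap A (KK A)) g0)))) from funext fun a => funext fun b => (hHess a b).symm]
    refine ⟨fun v hv hHv => ?_, fun hS => ?_⟩
    · have hvL : ∀ i, v i = ∑ a, Lr i a * v (Sum.inl a) := fun i => by
        rcases i with b | l
        · simp [Lr, ite_mul]
        · simp [Lr, hv, S]
      have h0 : Matrix.vecMul (fun a => v (Sum.inl a)) W = 0 := funext fun b => by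
        rw [Matrix.vecMul, dotProduct, Pi.zero_apply]
        have h : ∑ a, v (Sum.inl a) * W a b = ∑ i, Lr i b * ∑ j, H i j * v j := by
          conv_rhs => enter [2, i, 2, 2, j]; rw [hvL j]
          simp only [hW, Finset.mul_sum]
          rw [Finset.sum_comm]
          refine Finset.sum_congr rfl fun i _ => ?_
          rw [Finset.sum_comm]
          refine Finset.sum_congr rfl fun j _ => Finset.sum_congr rfl fun a _ => ?_
          ring
        rw [h]
        exact Finset.sum_eq_zero fun i _ => by rw [show ∑ j, H i j * v j = 0 from hHv i, mul_zero]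
      have hx : (fun a => v (Sum.inl a)) = 0 := by
        by_contra hc
        exact hWdet.ne_zero (Matrix.exists_vecMul_eq_zero_iff.1 ⟨_, hc, h0⟩)
      funext i
      rw [hvL]
      exact Finset.sum_eq_zero fun a _ => by rw [congrFun hx a, Pi.zero_apply, mul_zero]
    · convert hWdet using 2
      ext a b
      simp [hW, Lr, S, hS, H, Fintype.sum_sum_type]
  · have := hdet rfl
    simpa [T, hθ hα hS] using this
  · have := hgen (T u) ⟨u, hu, rfl⟩ j
    simpa [T, hθ hα hS] using this

/-- At a point whose geometric closed fibre is a non-degenerate quadratic singularity, with `g` cutting out the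
tangent space as the graph of a linear map, there is one more equation: its differential vanishes at the point,
its Hessian on the tangent space is non-degenerate, and together with `g` it generates all equations. -/
theorem analysis (P : Ideal B₀) [P.IsPrime] {m r n : ℕ} (π : MvPolynomial (Coord m r) A →ₐ[A] B₀)
    (hπ : Function.Surjective π) (χ : B₀ →ₐ[A] KK A) (hχ : ∀ b, χ b = 0 ↔ b ∈ P)
    (g : Fin r → MvPolynomial (Coord m r) A) (hg : ∀ l, π (g l) = 0)
    (hgz : ∀ l l', jac π χ (g l) (Sum.inr l') = if l = l' then 1 else 0)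
    (hspan : ∀ u, π u = 0 → ∀ a, jac π χ u (Sum.inl a) = ∑ l, jac π χ u (Sum.inr l) * jac π χ (g l) (Sum.inl a))
    (hq : VanCyc.IsNondegQuadPt (VanCyc.fibHom A (Localization.AtPrime P)) n) :
    ∃ g0 : MvPolynomial (Coord m r) A, π g0 = 0 ∧ m = n + 1 ∧ (∀ i, jac π χ g0 i = 0) ∧
      (∀ v : Coord m r → KK A, (∀ l, v (Sum.inr l) = -∑ a, jac π χ (g l) (Sum.inl a) * v (Sum.inl a)) →
        (∀ i, ∑ j, χ (π (pderiv j (pderiv i g0))) * v j = 0) → v = 0) ∧
      ((∀ l a, jac π χ (g l) (Sum.inl a) = 0) →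
        IsUnit (Matrix.of fun a b => χ (π (pderiv (Sum.inl a) (pderiv (Sum.inl b) g0)))).det) ∧
      ((∀ i, χ (π (X i)) = 0) → (∀ l a, jac π χ (g l) (Sum.inl a) = 0) → ∀ u, π u = 0 → ∀ j : ℕ,
        MvPolynomial.map (algebraMap A (KK A)) u ∈
          Ideal.span (insert (MvPolynomial.map (algebraMap A (KK A)) g0)
            (Set.range fun l => MvPolynomial.map (algebraMap A (KK A)) (g l))) ⊔
          idealOfVars (Coord m r) (KK A) ^ j) := by
  obtain ⟨g0, h1, h2, h3, h4, -, h6⟩ := analysis_gen P π hπ χ hχ g hg hgz hspan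
    (fun f : MvPowerSeries (Fin (n + 1)) (KK A) => VanCyc.NondegQuadSeries f) (fun f hf => hf.1)
    (fun f hf => by
      by_contra hc
      push Not at hc
      have h0 : VanCyc.polarMatrix (VanCyc.quadPart f) = 0 := by
        rw [polarMatrix_congr (a' := fun _ _ => 0) hc]
        ext i j; simp [VanCyc.polarMatrix]
      have hd := hf.2
      rw [VanCyc.QuadNondeg, h0, Matrix.det_zero] at hd
      exact not_isUnit_zero hd) hq
  obtain ⟨h4, h5⟩ := h4 fun f hf => hf.2
  exact ⟨g0, h1, h2, h3, h4, h5, h6⟩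

end Groth.Agent.QuadHens
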