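import Mathlib
import Groth.Prelude.Def_Hensel
import Groth.Agent.Hensel.HenselizationProps

/-!
Maps out of a henselization of a point of an algebra presented by finitely many equations, and
isomorphisms of such henselizations from natural correspondences of points.
-/

set_option autoImplicit false
set_option linter.style.haveILetI false

namespace Groth.Agent.QuadHens

universe u

open IsLocalRing MvPolynomial

variable {A : Type u} [CommRing A] [IsLocalRing A]

/-- `B`, presented by `π`, is near the rational point `P` the zero locus of the equations `F`. -/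
structure Pres {B : Type u} [CommRing B] [Algebra A B] {σ : Type} (π : MvPolynomial σ A →ₐ[A] B) (P : Ideal B)
    (F : Set (MvPolynomial σ A)) : Prop where
  surj : Function.Surjective π
  mem_iff : ∀ p, π p ∈ P ↔ constantCoeff p ∈ maximalIdeal A
  vanish : ∀ f ∈ F, π f = 0
  gen : ∀ f, π f = 0 → ∃ s, constantCoeff s ∉ maximalIdeal A ∧ s * f ∈ Ideal.span F

/-- The zeros of `F` in the maximal ideal. -/
def IsPt {σ : Type} (F : Set (MvPolynomial σ A)) {T : Type u} [CommRing T] [IsLocalRing T] [Algebra A T]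
    (X : σ → T) : Prop :=
  (∀ i, X i ∈ maximalIdeal T) ∧ ∀ f ∈ F, aeval X f = 0

theorem residue_aeval {σ : Type} {T : Type u} [CommRing T] [IsLocalRing T] [Algebra A T] {X : σ → T}
    (hX : ∀ i, X i ∈ maximalIdeal T) (p : MvPolynomial σ A) :
    residue T (aeval X p) = residue T (algebraMap A T (constantCoeff p)) := by
  have h : ((IsScalarTower.toAlgHom A T (ResidueField T)).comp (aeval X)) = aeval (fun _ => (0 : ResidueField T)) := by
    refine MvPolynomial.algHom_ext fun i => ?_
    simp only [AlgHom.comp_apply, aeval_X]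
    exact (residue_eq_zero_iff _).2 (hX _)
  have h2 := DFunLike.congr_fun h p
  rw [AlgHom.comp_apply, aeval_zero', IsScalarTower.algebraMap_apply A T (ResidueField T)] at h2
  exact h2

section

variable {B : Type u} [CommRing B] [Algebra A B] {σ : Type} {π : MvPolynomial σ A →ₐ[A] B} {P : Ideal B}
  [P.IsPrime] {F : Set (MvPolynomial σ A)} (hp : Pres π P F) (Bh : Type u) [CommRing Bh] [IsLocalRing Bh]
  [Algebra (Localization.AtPrime P) Bh] [IsLocalHom (algebraMap (Localization.AtPrime P) Bh)]
  [_root_.Hensel.IsHenselization (Localization.AtPrime P) Bh] [Algebra A Bh]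
  [IsScalarTower A (Localization.AtPrime P) Bh]

/-- The tautological point of the henselization. -/
noncomputable def taut (π : MvPolynomial σ A →ₐ[A] B) (i : σ) : Bh :=
  algebraMap (Localization.AtPrime P) Bh (algebraMap B (Localization.AtPrime P) (π (X i)))

theorem algebraMap_aeval (p : MvPolynomial σ A) :
    aeval (taut (P := P) Bh π) p = algebraMap (Localization.AtPrime P) Bh (algebraMap B _ (π p)) := by
  have h : aeval (taut (P := P) Bh π) =
      ((IsScalarTower.toAlgHom A (Localization.AtPrime P) Bh).comp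
        (IsScalarTower.toAlgHom A B (Localization.AtPrime P))).comp π := by
    refine MvPolynomial.algHom_ext fun i => ?_
    rw [aeval_X]
    rfl
  exact DFunLike.congr_fun h p

include hp in
theorem isLocalHom_base : IsLocalHom (algebraMap A Bh) := by
  refine ⟨fun a ha => ?_⟩
  by_contra hna
  rw [IsScalarTower.algebraMap_apply A (Localization.AtPrime P) Bh] at ha
  have h1 := ha.of_map
  rw [IsScalarTower.algebraMap_apply A B (Localization.AtPrime P), IsLocalization.AtPrime.isUnit_to_map_iff _ P] at h1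
  refine h1 ?_
  have h2 := (hp.mem_iff (C a)).2 (by rw [constantCoeff_C]; exact hna)
  rwa [show π (C a) = algebraMap A B a from π.commutes a] at h2

include hp in
theorem isPt_taut : IsPt F (taut (P := P) Bh π) := by
  refine ⟨fun i => map_nonunit _ _ ?_, fun f hf => ?_⟩
  · rw [IsLocalization.AtPrime.to_map_mem_maximal_iff _ P]
    exact (hp.mem_iff _).2 (by rw [constantCoeff_X]; exact Ideal.zero_mem _)
  · rw [algebraMap_aeval, hp.vanish f hf, map_zero, map_zero]

include hp in
/-- The henselization corepresents points. -/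
theorem existsUnique_hom {T : Type u} [CommRing T] [HenselianLocalRing T] [Algebra A T]
    [IsLocalHom (algebraMap A T)] (X : σ → T) (hX : IsPt F X) :
    ∃ θ : Bh →ₐ[A] T, (∀ i, θ (taut (P := P) Bh π i) = X i) ∧ (∀ b ∈ maximalIdeal Bh, θ b ∈ maximalIdeal T) ∧
      ∀ θ' : Bh →ₐ[A] T, (∀ i, θ' (taut (P := P) Bh π i) = X i) → θ' = θ := by
  have hker : ∀ f, π f = 0 → aeval X f = 0 := fun f hf => by
    obtain ⟨s, hs, hsf⟩ := hp.gen f hf
    have h1 : aeval X (s * f) = 0 := by
      have h2 : Ideal.span F ≤ RingHom.ker (aeval (R := A) X).toRingHom := Ideal.span_le.2 fun g hg => hX.2 g hg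
      exact h2 hsf
    rw [map_mul] at h1
    refine (IsUnit.mul_right_eq_zero ?_).1 h1
    refine notMem_maximalIdeal.1 fun h => ?_
    rw [← residue_eq_zero_iff, residue_aeval hX.1, residue_eq_zero_iff] at h
    exact h (IsUnit.map _ (notMem_maximalIdeal.1 hs))
  let φ₀ : B →ₐ[A] T := AlgHom.liftOfSurjective π hp.surj (aeval X) fun f hf => hker f hf
  have hφ₀ : ∀ p, φ₀ (π p) = aeval X p := fun p => AlgHom.liftOfSurjective_apply _ _ _ _ p
  have hu : ∀ y : P.primeCompl, IsUnit (φ₀ y) := fun y => by
    obtain ⟨p, hy⟩ := hp.surj y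
    rw [← hy, hφ₀]
    refine notMem_maximalIdeal.1 fun h => y.2 ?_
    rw [← residue_eq_zero_iff, residue_aeval hX.1, residue_eq_zero_iff] at h
    rw [← hy, SetLike.mem_coe, hp.mem_iff]
    by_contra hc
    exact h (IsUnit.map _ (notMem_maximalIdeal.1 hc))
  let φ : Localization.AtPrime P →ₐ[A] T := IsLocalization.liftAlgHom (M := P.primeCompl) (f := φ₀) hu
  have hφ : ∀ y, φ (algebraMap B _ y) = φ₀ y := fun y => IsLocalization.lift_eq _ y
  haveI hφloc : IsLocalHom φ.toRingHom := ⟨fun z hz => by
    obtain ⟨⟨y, s⟩, hys⟩ := IsLocalization.surj P.primeCompl z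
    have h1 : IsUnit (φ₀ y) := by
      rw [← hφ, ← hys, map_mul]
      exact hz.mul ((IsLocalization.map_units _ s).map φ)
    have h2 : y ∉ P := fun hy => by
      obtain ⟨p, rfl⟩ := hp.surj y
      rw [hφ₀] at h1
      have h3 : residue T (aeval X p) = 0 := by
        rw [residue_aeval hX.1, residue_eq_zero_iff]
        exact map_nonunit _ _ ((hp.mem_iff p).1 hy)
      exact (h1.map (residue T)).ne_zero h3
    exact isUnit_of_mul_isUnit_left (hys ▸ IsLocalization.map_units _ (⟨y, h2⟩ : P.primeCompl))⟩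
  obtain ⟨g, hg, huniq⟩ := ‹_root_.Hensel.IsHenselization (Localization.AtPrime P) Bh›.universal T φ.toRingHom hφloc
  let θ : Bh →ₐ[A] T :=
    { g with
      commutes' := fun a => by
        rw [IsScalarTower.algebraMap_apply A (Localization.AtPrime P) Bh]
        exact (RingHom.congr_fun hg _).trans (φ.commutes a) }
  refine ⟨θ, fun i => ?_, fun b hb => ?_, fun θ' hθ' => ?_⟩
  · change g (algebraMap _ Bh _) = _
    rw [← RingHom.comp_apply, hg]
    change φ (algebraMap B _ _) = _
    rw [hφ, hφ₀, aeval_X]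
  · have h1 : maximalIdeal Bh ≤ (maximalIdeal T).comap g := by
      rw [← Hensel.henselization_map_maximalIdeal (Localization.AtPrime P) Bh, Ideal.map_le_iff_le_comap]
      intro z hz
      rw [Ideal.mem_comap, Ideal.mem_comap, ← RingHom.comp_apply, hg]
      exact map_nonunit φ.toRingHom z hz
    exact h1 hb
  · refine AlgHom.coe_ringHom_injective ?_
    refine huniq _ (IsLocalization.ringHom_ext P.primeCompl (RingHom.ext fun y => ?_))
    obtain ⟨p, rfl⟩ := hp.surj y
    change θ' (algebraMap _ Bh (algebraMap B _ (π p))) = φ (algebraMap B _ (π p))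
    rw [hφ, hφ₀, ← algebraMap_aeval (P := P) Bh p, ← AlgHom.comp_apply, MvPolynomial.comp_aeval]
    congr 1
    exact congrArg _ (funext hθ')

end

/-- Natural one-to-one correspondences of points give isomorphisms of henselizations. -/
theorem equiv_of_rel {B B' : Type u} [CommRing B] [Algebra A B] [CommRing B'] [Algebra A B'] {σ τ : Type}
    {π : MvPolynomial σ A →ₐ[A] B} {P : Ideal B} [P.IsPrime] {F : Set (MvPolynomial σ A)} (hp : Pres π P F)
    {π' : MvPolynomial τ A →ₐ[A] B'} {P' : Ideal B'} [P'.IsPrime] {F' : Set (MvPolynomial τ A)}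
    (hp' : Pres π' P' F')
    (Bh : Type u) [CommRing Bh] [IsLocalRing Bh] [Algebra (Localization.AtPrime P) Bh]
    [IsLocalHom (algebraMap (Localization.AtPrime P) Bh)]
    [_root_.Hensel.IsHenselization (Localization.AtPrime P) Bh] [Algebra A Bh]
    [IsScalarTower A (Localization.AtPrime P) Bh]
    (C : Type u) [CommRing C] [IsLocalRing C] [Algebra (Localization.AtPrime P') C]
    [IsLocalHom (algebraMap (Localization.AtPrime P') C)]
    [_root_.Hensel.IsHenselization (Localization.AtPrime P') C] [Algebra A C]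
    [IsScalarTower A (Localization.AtPrime P') C]
    (R : ∀ (T : Type u) [CommRing T] [HenselianLocalRing T] [Algebra A T] [IsLocalHom (algebraMap A T)],
      (σ → T) → (τ → T) → Prop)
    (hfwd : ∀ (T : Type u) [CommRing T] [HenselianLocalRing T] [Algebra A T] [IsLocalHom (algebraMap A T)]
      (X : σ → T), IsPt F X → ∃ Y, IsPt F' Y ∧ R T X Y)
    (hbwd : ∀ (T : Type u) [CommRing T] [HenselianLocalRing T] [Algebra A T] [IsLocalHom (algebraMap A T)]
      (Y : τ → T), IsPt F' Y → ∃ X, IsPt F X ∧ R T X Y)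
    (hright : ∀ (T : Type u) [CommRing T] [HenselianLocalRing T] [Algebra A T] [IsLocalHom (algebraMap A T)]
      (X : σ → T) (Y Y' : τ → T), R T X Y → R T X Y' → Y = Y')
    (hleft : ∀ (T : Type u) [CommRing T] [HenselianLocalRing T] [Algebra A T] [IsLocalHom (algebraMap A T)]
      (X X' : σ → T) (Y : τ → T), R T X Y → R T X' Y → X = X')
    (hmap : ∀ (T T' : Type u) [CommRing T] [HenselianLocalRing T] [Algebra A T] [IsLocalHom (algebraMap A T)]
      [CommRing T'] [HenselianLocalRing T'] [Algebra A T'] [IsLocalHom (algebraMap A T')]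
      (f : T →ₐ[A] T'), (∀ t ∈ maximalIdeal T, f t ∈ maximalIdeal T') → ∀ (X : σ → T) (Y : τ → T), R T X Y →
        R T' (f ∘ X) (f ∘ Y)) :
    Nonempty (Bh ≃ₐ[A] C) := by
  haveI : HenselianLocalRing Bh := ‹_root_.Hensel.IsHenselization (Localization.AtPrime P) Bh›.henselian
  haveI : HenselianLocalRing C := ‹_root_.Hensel.IsHenselization (Localization.AtPrime P') C›.henselian
  haveI := isLocalHom_base hp Bh
  haveI := isLocalHom_base hp' C
  have hx := isPt_taut hp Bh
  have hy := isPt_taut hp' C
  obtain ⟨Y, hY, hR⟩ := hfwd Bh _ hx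
  obtain ⟨X, hX, hR'⟩ := hbwd C _ hy
  obtain ⟨θ, hθ, hθm, -⟩ := existsUnique_hom hp Bh X hX
  obtain ⟨θ', hθ', hθ'm, -⟩ := existsUnique_hom hp' C Y hY
  have hθX : θ ∘ taut (P := P) Bh π = X := funext hθ
  have hθY : θ' ∘ taut (P := P') C π' = Y := funext hθ'
  have h1 : θ'.comp θ = AlgHom.id A Bh := by
    have h := hmap C Bh θ' hθ'm _ _ hR'
    rw [hθY] at h
    have h' := hleft _ _ _ _ h hR
    obtain ⟨χ, -, -, hu⟩ := existsUnique_hom hp Bh (taut (P := P) Bh π) hx
    rw [hu (θ'.comp θ) fun i => ?_, hu (AlgHom.id A Bh) fun i => rfl]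
    rw [AlgHom.comp_apply, hθ]
    exact congrFun h' i
  have h2 : θ.comp θ' = AlgHom.id A C := by
    have h := hmap Bh C θ hθm _ _ hR
    rw [hθX] at h
    have h' := hright _ _ _ _ h hR'
    obtain ⟨χ, -, -, hu⟩ := existsUnique_hom hp' C (taut (P := P') C π') hy
    rw [hu (θ.comp θ') fun i => ?_, hu (AlgHom.id A C) fun i => rfl]
    rw [AlgHom.comp_apply, hθ']
    exact congrFun h' i
  exact ⟨AlgEquiv.ofAlgHom θ θ' h2 h1⟩

end Groth.Agent.QuadHens
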