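import Mathlib
import Groth.Agent.QuadHens.Analysis
import Groth.Agent.QuadHens.Points

/-!
Equations of a flat algebra at a rational point from equations of its closed fibre over an algebraically closed
field.
-/

set_option autoImplicit false
set_option linter.style.haveILetI false

universe u

open IsLocalRing MvPolynomial

namespace Groth.Agent.QuadHens

variable {k K : Type u} [Field k] [Field K] [Algebra k K] {σ : Type}

/-- Apply a linear map to the coefficients. -/
noncomputable def coeffMap (lam : K →ₗ[k] k) (p : MvPolynomial σ K) : MvPolynomial σ k :=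
  ∑ e ∈ p.support, monomial e (lam (coeff e p))

theorem coeff_coeffMap (lam : K →ₗ[k] k) (p : MvPolynomial σ K) (e : σ →₀ ℕ) :
    coeff e (coeffMap lam p) = lam (coeff e p) := by
  classical
  simp only [coeffMap, coeff_sum, coeff_monomial, Finset.sum_ite_eq', mem_support_iff]
  split_ifs with h
  · rfl
  · rw [not_not.1 h, map_zero]

/-- Membership in an ideal modulo high order descends along a field extension. -/
theorem mem_sup_pow_of_map {ι : Type*} [Fintype ι] (F : ι → MvPolynomial σ k) (u : MvPolynomial σ k) (j : ℕ)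
    (h : MvPolynomial.map (algebraMap k K) u ∈
      Ideal.span (Set.range fun i => MvPolynomial.map (algebraMap k K) (F i)) ⊔ idealOfVars σ K ^ j) :
    u ∈ Ideal.span (Set.range F) ⊔ idealOfVars σ k ^ j := by
  classical
  obtain ⟨p, hp, w, hw, hpw⟩ := Submodule.mem_sup.1 h
  obtain ⟨a, rfl⟩ := Ideal.mem_span_range_iff_exists_fun.1 hp
  obtain ⟨lam, hlam⟩ := LinearMap.exists_leftInverse_of_injective (Algebra.linearMap k K)
    (LinearMap.ker_eq_bot.2 (algebraMap k K).injective)
  have hl : ∀ c : k, lam (algebraMap k K c) = c := fun c => DFunLike.congr_fun hlam c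
  refine Submodule.mem_sup.2 ⟨∑ i, coeffMap lam (a i) * F i,
    Ideal.sum_mem _ fun i _ => Ideal.mul_mem_left _ _ (Ideal.subset_span ⟨i, rfl⟩), coeffMap lam w, ?_, ?_⟩
  · rw [mem_pow_idealOfVars_iff'] at hw ⊢
    intro e he
    rw [coeff_coeffMap, hw e he, map_zero]
  · ext e
    have h1 := congrArg (fun q => lam (coeff e q)) hpw
    simp only [coeff_add, coeff_map, map_add, hl, coeff_sum, map_sum] at h1
    rw [coeff_add, coeff_sum, coeff_coeffMap, ← h1]
    congr 1
    refine Finset.sum_congr rfl fun i _ => ?_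
    rw [coeff_mul, coeff_mul, map_sum]
    refine Finset.sum_congr rfl fun q _ => ?_
    rw [coeff_coeffMap, coeff_map, mul_comm (coeff q.1 (a i)), ← Algebra.smul_def, map_smul, smul_eq_mul, mul_comm]

/-- Krull's intersection theorem for an ideal in a Noetherian local ring. -/
theorem mem_of_forall_mem_sup_pow {R : Type u} [CommRing R] [IsLocalRing R] [IsNoetherianRing R] (G : Ideal R)
    (z : R) (h : ∀ j : ℕ, z ∈ G ⊔ maximalIdeal R ^ j) : z ∈ G := by
  by_cases htop : G = ⊤
  · rw [htop]; exact Submodule.mem_top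
  haveI : Nontrivial (R ⧸ G) := Ideal.Quotient.nontrivial_iff.2 htop
  haveI : IsLocalRing (R ⧸ G) := IsLocalRing.of_surjective' (Ideal.Quotient.mk G) Ideal.Quotient.mk_surjective
  have hne : (maximalIdeal R).map (Ideal.Quotient.mk G) ≠ ⊤ := fun hc => by
    have := congrArg (Ideal.comap (Ideal.Quotient.mk G)) hc
    rw [Ideal.comap_map_of_surjective' _ Ideal.Quotient.mk_surjective, Ideal.mk_ker, Ideal.comap_top] at this
    exact (maximalIdeal.isMaximal R).ne_top (top_le_iff.1 (this ▸ sup_le le_rfl (le_maximalIdeal htop)))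
  rw [← Ideal.Quotient.eq_zero_iff_mem, ← Ideal.mem_bot, ← Ideal.iInf_pow_eq_bot_of_isLocalRing _ hne]
  refine Ideal.mem_iInf.2 fun j => ?_
  have h2 := Ideal.mem_map_of_mem (Ideal.Quotient.mk G) (h j)
  rwa [Ideal.map_sup, Ideal.map_quotient_self, bot_sup_eq, Ideal.map_pow] at h2

/-- Nakayama's lemma at a prime. -/
theorem nakayama_at_prime {R : Type u} [CommRing R] (O : Ideal R) [O.IsPrime] (G K m₀ : Ideal R) (hK : K.FG)
    (hm : m₀ ≤ O) (h : ∀ u ∈ K, ∃ s, s ∉ O ∧ s * u ∈ G ⊔ m₀ * K) (u : R) (hu : u ∈ K) :
    ∃ s, s ∉ O ∧ s * u ∈ G := by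
  suffices key : ∀ (L : Type u) [CommRing L] [Algebra R L] [IsLocalization.AtPrime L O] [IsLocalRing L],
      K.map (algebraMap R L) ≤ G.map (algebraMap R L) by
    exact (IsLocalization.algebraMap_mem_map_algebraMap_iff O.primeCompl (Localization.AtPrime O) _ _).1
      (key (Localization.AtPrime O) (Ideal.mem_map_of_mem _ hu))
  intro L _ _ _ _
  refine Submodule.le_of_le_smul_of_le_jacobson_bot (I := m₀.map (algebraMap R L)) (hK.map _) ?_ ?_
  · refine le_trans ?_ (IsLocalRing.maximalIdeal_le_jacobson _)
    rw [Ideal.map_le_iff_le_comap]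
    exact fun a ha => (IsLocalization.AtPrime.to_map_mem_maximal_iff L O a).2 (hm ha)
  · rw [Ideal.map_le_iff_le_comap]
    intro v hv
    obtain ⟨s, hs, hsv⟩ := h v hv
    have h2 := Ideal.mem_map_of_mem (algebraMap R L) hsv
    rw [Ideal.map_sup, Ideal.map_mul, map_mul] at h2
    rw [Ideal.mem_comap, smul_eq_mul]
    exact (Ideal.unit_mul_mem_iff_mem _ (IsLocalization.map_units L (⟨s, hs⟩ : O.primeCompl))).1 h2

set_option maxHeartbeats 1000000 in
/-- Equations of the closed fibre of a flat algebra at a rational point, up to completion over a field extension,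
are equations of the algebra. -/
theorem pres_of_fibre {A : Type u} [CommRing A] [IsLocalRing A] {B : Type u} [CommRing B] [Algebra A B]
    [Fintype σ] [Algebra A K] [Algebra (ResidueField A) K] [IsScalarTower A (ResidueField A) K]
    (π : MvPolynomial σ A →ₐ[A] B) (hπ : Function.Surjective π) (hker : (RingHom.ker π.toRingHom).FG) (P : Ideal B)
    [P.IsPrime] (hmem : ∀ p, π p ∈ P ↔ constantCoeff p ∈ maximalIdeal A) [Module.Flat A (Localization.AtPrime P)]
    {ι : Type} [Fintype ι] (F : ι → MvPolynomial σ A) (hF : ∀ i, π (F i) = 0)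
    (hgen : ∀ u, π u = 0 → ∀ j : ℕ, MvPolynomial.map (algebraMap A K) u ∈
      Ideal.span (Set.range fun i => MvPolynomial.map (algebraMap A K) (F i)) ⊔ idealOfVars σ K ^ j) :
    Pres π P (Set.range F) := by
  classical
  set red : MvPolynomial σ A →+* MvPolynomial σ (ResidueField A) := MvPolynomial.map (residue A) with hred
  let 𝔤 : Ideal (MvPolynomial σ A) := Ideal.span (Set.range F)
  set Ik : Ideal (MvPolynomial σ (ResidueField A)) := idealOfVars σ (ResidueField A)
  haveI hIk : Ik.IsMaximal := Popescu.idealOfVars_isMaximal σ (ResidueField A)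
  have hIk_mem : ∀ p, p ∈ Ik ↔ constantCoeff p = 0 := fun p => by
    rw [show Ik = Ik ^ 1 from (pow_one _).symm, mem_pow_idealOfVars_iff']
    refine ⟨fun h => h 0 (by simp), fun h e he => ?_⟩
    obtain rfl : e = 0 := (Finsupp.degree_eq_zero_iff e).1 (by omega)
    exact h
  -- the closed fibre
  have hstep : ∀ u, π u = 0 → ∃ s, constantCoeff s ∉ maximalIdeal A ∧
      s * u ∈ 𝔤 ⊔ (maximalIdeal A).map MvPolynomial.C := by
    intro u hu
    have hj : ∀ j, red u ∈ Ideal.span (Set.range fun i => red (F i)) ⊔ Ik ^ j := fun j => by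
      refine mem_sup_pow_of_map (K := K) _ _ _ ?_
      have hcomp : ∀ p, MvPolynomial.map (algebraMap (ResidueField A) K) (red p) =
          MvPolynomial.map (algebraMap A K) p := fun p => by
        rw [hred, MvPolynomial.map_map]
        exact congrArg (fun f => MvPolynomial.map f p) (IsScalarTower.algebraMap_eq A (ResidueField A) K).symm
      simp only [hcomp]
      exact hgen u hu j
    set Lk := Localization.AtPrime Ik
    haveI : IsNoetherianRing Lk := IsLocalization.isNoetherianRing Ik.primeCompl Lk inferInstance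
    set G := (Ideal.span (Set.range fun i => red (F i))).map (algebraMap _ Lk)
    have hu' : algebraMap _ Lk (red u) ∈ G := by
      refine mem_of_forall_mem_sup_pow G _ fun j => ?_
      have h1 := Ideal.mem_map_of_mem (algebraMap _ Lk) (hj j)
      rwa [Ideal.map_sup, Ideal.map_pow, Localization.AtPrime.map_eq_maximalIdeal] at h1
    obtain ⟨s, hs, hsu⟩ := (IsLocalization.algebraMap_mem_map_algebraMap_iff Ik.primeCompl Lk _ _).1 hu'
    obtain ⟨s', hs'⟩ := MvPolynomial.map_surjective (residue A) residue_surjective s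
    refine ⟨s', fun h => hs ?_, ?_⟩
    · rw [SetLike.mem_coe, hIk_mem, ← hs', MvPolynomial.constantCoeff_map, residue_eq_zero_iff]
      exact h
    · have h3 : red (s' * u) ∈ (Ideal.span (Set.range F)).map red := by
        rw [map_mul, show red s' = s from hs', Ideal.map_span, ← Set.range_comp]
        exact hsu
      rw [← Ideal.mem_comap, Ideal.comap_map_of_surjective' red (MvPolynomial.map_surjective _ residue_surjective),
        hred, MvPolynomial.ker_map, IsLocalRing.ker_residue] at h3
      exact h3
  -- flatness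
  have hflat : ∀ w, π w = 0 → w ∈ (maximalIdeal A).map (MvPolynomial.C : A →+* MvPolynomial σ A) →
      ∃ s, constantCoeff s ∉ maximalIdeal A ∧
        s * w ∈ (maximalIdeal A).map MvPolynomial.C * RingHom.ker π.toRingHom := by
    intro w hw hwm
    obtain ⟨nn, c, gg, hcg⟩ := Submodule.mem_span_set'.1 hwm
    choose a ha hag using fun i => (gg i).2
    let x : Fin nn → Localization.AtPrime P := fun i => algebraMap B _ (π (c i))
    have hrel : ∑ i, a i • x i = 0 := by
      have h := congrArg (fun p => algebraMap B (Localization.AtPrime P) (π p)) hcg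
      simp only [smul_eq_mul, map_sum, map_mul, hw, map_zero] at h
      rw [← h]
      refine Finset.sum_congr rfl fun i _ => ?_
      rw [← hag, show π (C (a i)) = algebraMap A B (a i) from π.commutes _, Algebra.smul_def,
        IsScalarTower.algebraMap_apply A B (Localization.AtPrime P), mul_comm]
    obtain ⟨κ, aa, y, hxy, hay⟩ := Module.Flat.isTrivialRelation_of_sum_smul_eq_zero
      (R := A) (M := Localization.AtPrime P) (f := a) (x := x) hrel
    obtain ⟨b, hb⟩ := IsLocalization.exist_integer_multiples_of_finite P.primeCompl y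
    choose qb hqb using hb
    choose q hq using fun l => hπ (qb l)
    obtain ⟨t, ht⟩ := hπ (b : B)
    let e : Fin nn → MvPolynomial σ A := fun i => t * c i - ∑ l, C (aa i l) * q l
    have he : ∀ i, algebraMap B (Localization.AtPrime P) (π (e i)) = 0 := fun i => by
      simp only [e, map_sub, map_mul, map_sum, ht, hq, hqb, Algebra.smul_def]
      rw [sub_eq_zero, show algebraMap B (Localization.AtPrime P) (π (c i)) = x i from rfl, hxy i, Finset.mul_sum]
      refine Finset.sum_congr rfl fun l _ => ?_
      rw [show π (C (aa i l)) = algebraMap A B (aa i l) from π.commutes _, Algebra.smul_def,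
        ← IsScalarTower.algebraMap_apply, mul_left_comm]
    choose d hd using fun i => (IsLocalization.map_eq_zero_iff P.primeCompl (Localization.AtPrime P) _).1 (he i)
    choose t' ht' using fun i => hπ (d i : B)
    let T' := ∏ i, t' i
    refine ⟨T' * t, ?_, ?_⟩
    · rw [← hmem, map_mul, map_prod, ht]
      intro h
      rcases (Ideal.IsPrime.mem_or_mem inferInstance h) with h | h
      · obtain ⟨i, -, hi⟩ := Ideal.IsPrime.prod_mem_iff.1 h
        rw [ht'] at hi
        exact (d i).2 hi
      · exact b.2 h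
    · have hwe : T' * t * w = ∑ i, C (a i) * (T' * e i) := by
        have hz : ∑ i, C (a i) * ∑ l, C (aa i l) * q l = (0 : MvPolynomial σ A) := by
          simp only [Finset.mul_sum, ← mul_assoc, ← map_mul]
          rw [Finset.sum_comm]
          refine Finset.sum_eq_zero fun l _ => ?_
          rw [← Finset.sum_mul, ← map_sum,
            show ∑ i, a i * aa i l = 0 from by simpa [smul_eq_mul] using hay l, map_zero, zero_mul]
        simp only [e, mul_sub, Finset.sum_sub_distrib]
        rw [show ∑ i, C (a i) * (T' * ∑ l, C (aa i l) * q l) = T' * ∑ i, C (a i) * ∑ l, C (aa i l) * q l by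
          rw [Finset.mul_sum]; exact Finset.sum_congr rfl fun i _ => by ring, hz, mul_zero, sub_zero, ← hcg,
          Finset.mul_sum]
        refine Finset.sum_congr rfl fun i _ => ?_
        rw [smul_eq_mul, ← hag]
        ring
      rw [hwe]
      refine Ideal.sum_mem _ fun i _ => Ideal.mul_mem_mul (Ideal.mem_map_of_mem _ (ha i)) ?_
      rw [RingHom.mem_ker]
      change π (T' * e i) = 0
      rw [show T' = t' i * ∏ j ∈ Finset.univ.erase i, t' j from (Finset.mul_prod_erase _ _ (Finset.mem_univ i)).symm,
        mul_right_comm, map_mul, map_mul, ht', hd i, zero_mul]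
  -- Nakayama
  haveI : (P.comap π).IsPrime := Ideal.IsPrime.comap _
  have hmemO : ∀ p, p ∉ P.comap π ↔ constantCoeff p ∉ maximalIdeal A := fun p => not_congr (hmem p)
  have h𝔤 : 𝔤 ≤ RingHom.ker π.toRingHom := Ideal.span_le.2 (by rintro _ ⟨i, rfl⟩; exact hF i)
  refine ⟨hπ, hmem, fun f hf => ?_, fun u hu => ?_⟩
  · obtain ⟨i, rfl⟩ := hf
    exact hF i
  have key : ∀ u ∈ RingHom.ker π.toRingHom, ∃ s, s ∉ P.comap π ∧
      s * u ∈ 𝔤 ⊔ (maximalIdeal A).map (MvPolynomial.C : A →+* MvPolynomial σ A) * RingHom.ker π.toRingHom := by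
    intro u hu
    obtain ⟨s, hs, hsu⟩ := hstep u hu
    obtain ⟨e₁, he₁, w, hw, hew⟩ := Submodule.mem_sup.1 hsu
    have hπw : π w = 0 := by
      have h1 : π (s * u) = π (e₁ + w) := by rw [hew]
      rw [map_mul, show π u = 0 from hu, mul_zero, map_add, show π e₁ = 0 from h𝔤 he₁, zero_add] at h1
      exact h1.symm
    obtain ⟨s', hs', hsw⟩ := hflat w hπw hw
    refine ⟨s' * s, fun h => ?_, ?_⟩
    · rcases Ideal.IsPrime.mem_or_mem inferInstance h with h | h
      · exact (hmemO s').2 hs' h
      · exact (hmemO s).2 hs h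
    · rw [show s' * s * u = s' * e₁ + s' * w by rw [mul_assoc, ← hew, mul_add]]
      exact Submodule.add_mem_sup (Ideal.mul_mem_left _ _ he₁) hsw
  obtain ⟨s, hs, hsu⟩ := nakayama_at_prime (P.comap π) 𝔤 (RingHom.ker π.toRingHom)
    ((maximalIdeal A).map (MvPolynomial.C : A →+* MvPolynomial σ A)) hker
    (Ideal.map_le_iff_le_comap.2 fun a ha => (hmem _).2 (by rwa [constantCoeff_C])) key u hu
  exact ⟨s, (hmemO s).1 hs, hsu⟩

end Groth.Agent.QuadHens
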