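import Mathlib
import Groth.Agent.QuadHens.Analysis

/-!
Adapted coordinates at a point and rationality of a non-degenerate quadratic point with purely inseparable
residue field.
-/

set_option autoImplicit false
set_option linter.style.haveILetI false

universe u

open IsLocalRing MvPolynomial

namespace Groth.Agent.QuadHens

variable {A : Type u} [CommRing A] [IsLocalRing A] {B₀ : Type u} [CommRing B₀] [Algebra A B₀]

/-- Rows spanning a finite-dimensional space can be completed to a square invertible submatrix. -/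
theorem exists_minor {K : Type*} [Field K] {r N : ℕ} (J : Matrix (Fin r) (Fin N) K)
    (hJ : LinearIndependent K fun l => J l) :
    ∃ z : Fin r → Fin N, Function.Injective z ∧ IsUnit (Matrix.of fun l l' => J l (z l')).det := by
  classical
  have hspan : Submodule.span K (Set.range fun i => (fun l => J l i)) = ⊤ := by
    by_contra hne
    obtain ⟨φ, hφ, hle⟩ := Submodule.exists_dual_map_eq_bot_of_lt_top (lt_top_iff_ne_top.2 hne) inferInstance
    refine hφ (LinearMap.ext fun x => ?_)
    have hz : ∀ i, φ (fun l => J l i) = 0 := fun i => by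
      have h : φ (fun l => J l i) ∈ Submodule.map φ (Submodule.span K (Set.range fun i => (fun l => J l i))) :=
        Submodule.mem_map_of_mem (Submodule.subset_span ⟨i, rfl⟩)
      rw [hle] at h
      exact (Submodule.mem_bot K).1 h
    have hpi : ∀ y : Fin r → K, φ y = ∑ l, y l * φ (Pi.single l 1) := fun y => by
      conv_lhs => rw [pi_eq_sum_univ' y]
      simp
    have h0 : ∀ l, φ (Pi.single l 1) = 0 := Fintype.linearIndependent_iff.1 hJ _ (funext fun i => by
      rw [Finset.sum_apply, Pi.zero_apply, ← hz i, hpi]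
      exact Finset.sum_congr rfl fun l _ => mul_comm _ _)
    rw [hpi]
    simp [h0]
  obtain ⟨b, hbs, hb, hbi⟩ := exists_linearIndependent K (Set.range fun i => (fun l => J l i))
  rw [hspan] at hb
  haveI : Fintype b := hbi.setFinite.fintype
  let B := Module.Basis.mk hbi (by rw [Subtype.range_coe]; exact hb.ge)
  have hcard : Fintype.card b = r := by
    rw [← Module.finrank_eq_card_basis B, Module.finrank_pi]
    simp
  let c : Fin r ≃ b := (Fintype.equivFinOfCardEq hcard).symm
  choose z hz using fun l => hbs (c l).2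
  have hinj : Function.Injective z := fun l l' h => c.injective (Subtype.ext (by rw [← hz l, ← hz l', h]))
  refine ⟨z, hinj, ?_⟩
  have h1 : LinearIndependent K (Matrix.of fun l l' => J l (z l')).col := by
    have h2 : (Matrix.of fun l l' => J l (z l')).col = (fun x : b => (x : Fin r → K)) ∘ c := funext fun l' => hz l'
    rw [h2]
    exact hbi.comp c c.injective
  exact (Matrix.isUnit_iff_isUnit_det _).1 (Matrix.linearIndependent_cols_iff_isUnit.1 h1)

/-- Coordinates adapted to the tangent space at a point. -/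
theorem exists_adapted (P : Ideal B₀) [P.IsMaximal] {N : ℕ} (π : MvPolynomial (Fin N) A →ₐ[A] B₀)
    (hπ : Function.Surjective π) (χ : B₀ →ₐ[A] KK A) (hχ : ∀ b, χ b = 0 ↔ b ∈ P) :
    ∃ (m r : ℕ) (e : Fin N ≃ Coord m r) (g : Fin r → MvPolynomial (Coord m r) A),
      (∀ l, π.comp (rename e.symm) (g l) = 0) ∧
      (∀ l l', jac (π.comp (rename e.symm)) χ (g l) (Sum.inr l') = if l = l' then 1 else 0) ∧
      ∀ u, π.comp (rename e.symm) u = 0 → ∀ a, jac (π.comp (rename e.symm)) χ u (Sum.inl a) =
        ∑ l, jac (π.comp (rename e.symm)) χ u (Sum.inr l) * jac (π.comp (rename e.symm)) χ (g l) (Sum.inl a) := by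
  classical
  obtain ⟨b, hbs, hb, hbi⟩ := exists_linearIndependent (KK A) ((fun u => jac π χ u) '' {u | π u = 0})
  haveI : Fintype b := hbi.setFinite.fintype
  set r := Fintype.card b
  let c : Fin r ≃ b := (Fintype.equivFin b).symm
  choose g hg hgj using fun l => hbs (c l).2
  let J : Matrix (Fin r) (Fin N) (KK A) := fun l i => jac π χ (g l) i
  have hJ : LinearIndependent (KK A) fun l => J l := by
    have h : (fun l => J l) = (fun x : b => (x : Fin N → KK A)) ∘ c := funext hgj
    rw [h]
    exact hbi.comp c c.injective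
  obtain ⟨z, hz, hdet⟩ := exists_minor J hJ
  -- the residue field at the point
  letI := Ideal.Quotient.field P
  let χb : B₀ ⧸ P →+* KK A := Ideal.Quotient.lift P χ.toRingHom fun x hx => (hχ x).2 hx
  let Jκ : Matrix (Fin r) (Fin r) (B₀ ⧸ P) := fun l l' => Ideal.Quotient.mk P (π (pderiv (z l') (g l)))
  have hJκ : χb.mapMatrix Jκ = Matrix.of fun l l' => J l (z l') := rfl
  have hdetκ : IsUnit Jκ.det := by
    rw [isUnit_iff_ne_zero]
    intro h
    have h2 := congrArg χb h
    rw [RingHom.map_det, hJκ, map_zero] at h2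
    exact hdet.ne_zero h2
  choose Q hQ using fun l s => (Ideal.Quotient.mk_surjective.comp hπ) (Jκ⁻¹ l s)
  let g' : Fin r → MvPolynomial (Fin N) A := fun l => ∑ s, Q l s * g s
  have hg' : ∀ l, π (g' l) = 0 := fun l => by simp [g', map_sum, show ∀ s, π (g s) = 0 from hg]
  have hjg' : ∀ l i, jac π χ (g' l) i = ∑ s, χb (Jκ⁻¹ l s) * J s i := fun l i => by
    rw [jac_sum]
    refine Finset.sum_congr rfl fun s _ => ?_
    rw [jac_mul π χ _ _ (hg s), ← hQ]
    rfl
  have hz' : ∀ l l', jac π χ (g' l) (z l') = if l = l' then 1 else 0 := fun l l' => by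
    rw [hjg', ← Matrix.one_apply, show (1 : Matrix (Fin r) (Fin r) (KK A)) = χb.mapMatrix Jκ⁻¹ * χb.mapMatrix Jκ by
      rw [← map_mul, Matrix.nonsing_inv_mul _ hdetκ, map_one], hJκ, Matrix.mul_apply]
    rfl
  have hspan : ∀ u, π u = 0 → ∀ i, jac π χ u i = ∑ l, jac π χ u (z l) * jac π χ (g' l) i := fun u hu i => by
    have hmem : jac π χ u ∈ Submodule.span (KK A) (Set.range fun l => J l) := by
      have h : (Set.range fun l => J l) = b := by
        rw [show (fun l => J l) = (fun x : b => (x : Fin N → KK A)) ∘ c from funext hgj, Set.range_comp,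
          c.range_eq_univ, Set.image_univ, Subtype.range_coe]
      rw [h, hb]
      exact Submodule.subset_span ⟨u, hu, rfl⟩
    obtain ⟨d, hd⟩ := (Submodule.mem_span_range_iff_exists_fun _).1 hmem
    have hd' : ∀ i, jac π χ u i = ∑ s, d s * J s i := fun i => by
      rw [← hd, Finset.sum_apply]
      rfl
    simp only [hjg', hd']
    refine (Eq.trans ?_ ((Finset.sum_congr rfl fun l _ => Finset.sum_mul_sum _ _ _ _).trans
      (Finset.sum_comm.trans (Finset.sum_congr rfl fun s _ => Finset.sum_comm))).symm)
    refine Finset.sum_congr rfl fun s _ => ?_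
    have hkey : ∀ s', ∑ l, J s (z l) * χb (Jκ⁻¹ l s') = if s = s' then 1 else 0 := fun s' => by
      rw [← Matrix.one_apply, show (1 : Matrix (Fin r) (Fin r) (KK A)) = χb.mapMatrix Jκ * χb.mapMatrix Jκ⁻¹ by
        rw [← map_mul, Matrix.mul_nonsing_inv _ hdetκ, map_one], hJκ, Matrix.mul_apply]
      rfl
    have h2 : ∀ s', ∑ l, d s * J s (z l) * (χb (Jκ⁻¹ l s') * J s' i) =
        d s * (if s = s' then 1 else 0) * J s' i := fun s' => by
      rw [← hkey, Finset.mul_sum, Finset.sum_mul]
      exact Finset.sum_congr rfl fun l _ => by ring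
    rw [Finset.sum_congr rfl fun s' _ => h2 s']
    simp [ite_mul]
  -- complete to an equivalence
  let C := {i : Fin N // i ∉ Set.range z}
  let x : Fin (Fintype.card C) → Fin N := fun a => ((Fintype.equivFin C).symm a : C)
  have hbij : Function.Bijective (Sum.elim x z) := by
    refine ⟨fun p q hpq => ?_, fun i => ?_⟩
    · rcases p with a | l <;> rcases q with a' | l' <;> simp only [Sum.elim_inl, Sum.elim_inr] at hpq
      · rw [(Fintype.equivFin C).symm.injective (Subtype.ext hpq)]
      · exact absurd ⟨l', hpq.symm⟩ ((Fintype.equivFin C).symm a).2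
      · exact absurd ⟨l, hpq⟩ ((Fintype.equivFin C).symm a').2
      · rw [hz hpq]
    · by_cases hi : i ∈ Set.range z
      · obtain ⟨l, rfl⟩ := hi
        exact ⟨Sum.inr l, rfl⟩
      · exact ⟨Sum.inl (Fintype.equivFin C ⟨i, hi⟩), by simp [x]⟩
  let e : Fin N ≃ Coord (Fintype.card C) r := (Equiv.ofBijective _ hbij).symm
  have hj : ∀ u i, jac (π.comp (rename e.symm)) χ u i = jac π χ (rename e.symm u) (e.symm i) := fun u i => by
    simp only [jac, AlgHom.comp_apply, pderiv_rename e.symm.injective]
  refine ⟨_, r, e, fun l => rename e (g' l), fun l => ?_, fun l l' => ?_, fun u hu a => ?_⟩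
  · rw [AlgHom.comp_apply, rename_rename, Equiv.symm_comp_self, rename_id_apply, hg']
  · rw [hj, rename_rename, Equiv.symm_comp_self, rename_id_apply]
    exact hz' l l'
  · simp only [hj, rename_rename, Equiv.symm_comp_self, rename_id_apply]
    exact hspan _ hu _

set_option maxHeartbeats 1000000 in
/-- A non-degenerate quadratic point with purely inseparable residue field is rational. -/
theorem rational_of_nondeg [Algebra.FiniteType A B₀] (P : Ideal B₀) [P.IsMaximal]
    (hP : (maximalIdeal A).map (algebraMap A B₀) ≤ P)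
    (hPi : ∀ y : B₀, ∃ (e : ℕ) (c : A), y ^ ringExpChar (ResidueField A) ^ e - algebraMap A B₀ c ∈ P) {n : ℕ}
    (hq : VanCyc.IsNondegQuadPt (VanCyc.fibHom A (Localization.AtPrime P)) n) (y : B₀) :
    ∃ c : A, y - algebraMap A B₀ c ∈ P := by
  classical
  obtain ⟨N, π₀, hπ₀⟩ := Algebra.FiniteType.iff_quotient_mvPolynomial''.1 ‹Algebra.FiniteType A B₀›
  letI := Ideal.Quotient.field P
  let κ := B₀ ⧸ P
  letI : Algebra (ResidueField A) κ := (Ideal.Quotient.lift (maximalIdeal A) (algebraMap A κ) fun a ha =>
    Ideal.Quotient.eq_zero_iff_mem.2 (hP (Ideal.mem_map_of_mem _ ha))).toAlgebra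
  haveI : IsScalarTower A (ResidueField A) κ := IsScalarTower.of_algebraMap_eq fun a => rfl
  haveI : IsPurelyInseparable (ResidueField A) κ := by
    rw [isPurelyInseparable_iff_pow_mem (ResidueField A) (ringExpChar (ResidueField A))]
    intro x
    obtain ⟨b, rfl⟩ := Ideal.Quotient.mk_surjective x
    obtain ⟨e, c, hc⟩ := hPi b
    refine ⟨e, residue A c, ?_⟩
    rw [← map_pow]
    exact (Ideal.Quotient.eq.2 hc).symm
  haveI : Algebra.FiniteType A κ := inferInstance
  haveI : Algebra.FiniteType (ResidueField A) κ := Algebra.FiniteType.of_restrictScalars_finiteType A _ κ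
  let χκ : κ →ₐ[ResidueField A] KK A := IsAlgClosed.lift
  let χ : B₀ →ₐ[A] KK A := (χκ.restrictScalars A).comp (Ideal.Quotient.mkₐ A P)
  have hχ : ∀ b, χ b = 0 ↔ b ∈ P := fun b =>
    (map_eq_zero_iff χκ χκ.injective).trans Ideal.Quotient.eq_zero_iff_mem
  obtain ⟨m, r, e, g, hg, hgz, hspan⟩ := exists_adapted P π₀ hπ₀ χ hχ
  set π := π₀.comp (rename e.symm)
  have hπ : Function.Surjective π := hπ₀.comp (rename_surjective _ e.symm.surjective)
  obtain ⟨g0, hg0, -, hjac0, hH, -, -⟩ := analysis P π hπ χ hχ g hg hgz hspan hq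
  -- differentials
  let x : Coord m r → κ := fun i => Ideal.Quotient.mk P (π (X i))
  have hx : ∀ u, aeval x u = Ideal.Quotient.mk P (π u) := fun u =>
    (DFunLike.congr_fun (aeval_unique ((Ideal.Quotient.mkₐ A P).comp π)) u).symm
  let D : Derivation A κ (KaehlerDifferential (ResidueField A) κ) :=
    (KaehlerDifferential.D (ResidueField A) κ).restrictScalars A
  have hD : ∀ u, D (Ideal.Quotient.mk P (π u)) = ∑ i, Ideal.Quotient.mk P (π (pderiv i u)) • D (x i) := fun u => by
    rw [← hx, derivation_aeval]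
    simp only [hx]
  have hDx : ∀ i, D (x i) = 0 := by
    intro i
    refine (Module.forall_dual_apply_eq_zero_iff κ _).1 fun φ => ?_
    let v : Coord m r → KK A := fun j => χκ (φ (D (x j)))
    have hpush : ∀ u, π u = 0 ∨ χ (π u) = 0 → ∑ j, jac π χ u j * v j = 0 := fun u hu => by
      have hmk : Ideal.Quotient.mk P (π u) = 0 := by
        rcases hu with hu | hu
        · rw [hu, map_zero]
        · exact Ideal.Quotient.eq_zero_iff_mem.2 ((hχ _).1 hu)
      have h := hD u
      rw [hmk, map_zero] at h
      have h2 := congrArg (fun w => χκ (φ w)) h.symm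
      simp only [map_sum, map_smul, smul_eq_mul, map_mul, map_zero] at h2
      exact h2
    have hv : ∀ l, v (Sum.inr l) = -∑ a, jac π χ (g l) (Sum.inl a) * v (Sum.inl a) := fun l => by
      have h := hpush (g l) (Or.inl (hg l))
      rw [Fintype.sum_sum_type] at h
      simp only [hgz, ite_mul, one_mul, zero_mul, Finset.sum_ite_eq, Finset.mem_univ, if_true] at h
      exact eq_neg_of_add_eq_zero_right h
    have hv0 := hH v hv fun j => hpush (pderiv j g0) (Or.inr (hjac0 j))
    exact (map_eq_zero_iff χκ χκ.injective).1 (congrFun hv0 i)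
  haveI : Algebra.FormallyUnramified (ResidueField A) κ := by
    refine ⟨subsingleton_of_forall_eq 0 fun w => ?_⟩
    have hw : w ∈ Submodule.span κ (Set.range (KaehlerDifferential.D (ResidueField A) κ)) := by
      rw [KaehlerDifferential.span_range_derivation]; exact Submodule.mem_top
    refine (Submodule.mem_bot κ).1 ((Submodule.span_le.2 ?_) hw)
    rintro _ ⟨z, rfl⟩
    obtain ⟨b, rfl⟩ := Ideal.Quotient.mk_surjective z
    obtain ⟨u, rfl⟩ := hπ b
    change D (Ideal.Quotient.mk P (π u)) ∈ (⊥ : Submodule κ _)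
    rw [hD, Submodule.mem_bot]
    simp [hDx]
  haveI : Algebra.IsSeparable (ResidueField A) κ := Algebra.FormallyUnramified.isSeparable (ResidueField A) κ
  obtain ⟨c, hc⟩ := IsPurelyInseparable.surjective_algebraMap_of_isSeparable (ResidueField A) κ
    (Ideal.Quotient.mk P y)
  obtain ⟨a, rfl⟩ := residue_surjective c
  exact ⟨a, Ideal.Quotient.eq.1 hc.symm⟩

end Groth.Agent.QuadHens
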