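import Mathlib
import Groth.Agent.QuadHens.Select
import Groth.Agent.QuadHens.Descend

/-!
Normal form data of a flat family with a non-degenerate quadratic point in the closed fibre.
-/

set_option autoImplicit false
set_option linter.style.haveILetI false

universe u

open IsLocalRing MvPolynomial

namespace Groth.Agent.QuadHens

variable {A : Type u} [CommRing A] [IsLocalRing A] {B : Type u} [CommRing B] [Algebra A B]

/-- The equations of normal form data. -/
noncomputable def NF.eqs {n r : ℕ} (D : NF A n r) : Set (MvPolynomial (Coord n r) A) :=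
  insert (D.g0 MvPolynomial.X) (Set.range (D.g MvPolynomial.X))

theorem NF.isPt_eqs_iff {n r : ℕ} (D : NF A n r) {T : Type u} [CommRing T] [IsLocalRing T] [Algebra A T]
    (Y : Coord n r → T) :
    IsPt D.eqs Y ↔ (∀ i, Y i ∈ maximalIdeal T) ∧ D.g0 Y = 0 ∧ ∀ l, D.g Y l = 0 := by
  have h : (aeval (R := A) Y) ∘ MvPolynomial.X = Y := funext (aeval_X Y)
  simp only [IsPt, NF.eqs, Set.forall_mem_insert, Set.forall_mem_range, D.g0_map, D.g_map, h]

theorem eval_zero_fun {R : Type*} [CommRing R] {σ : Type*} (p : MvPolynomial σ R) :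
    eval (fun _ => 0) p = constantCoeff p := eval₂_zero'_apply _ _

theorem polarMatrix_tabd {n : ℕ} (M : Matrix (Fin n) (Fin n) A) :
    VanCyc.polarMatrix (tabd M) = M + M.transpose := by
  ext i j
  rcases lt_trichotomy i j with h | h | h
  · simp [VanCyc.polarMatrix, tabd, h.ne, h]
  · subst h; simp [VanCyc.polarMatrix, tabd, two_mul]
  · simp [VanCyc.polarMatrix, tabd, h.ne', h.ne, not_lt.2 h.le, add_comm]

theorem cc_pderiv_sum {σ : Type} [Fintype σ] (d : σ → MvPolynomial σ A) (j : σ) :
    constantCoeff (pderiv j (∑ i, X i * d i)) = constantCoeff (d j) := by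
  classical
  simp [map_sum, pderiv_mul, pderiv_X, Pi.single_apply, apply_ite constantCoeff, ite_mul]

theorem cc_pderiv_pderiv_sum {σ : Type} [Fintype σ] (d : σ → MvPolynomial σ A) (i j : σ) :
    constantCoeff (pderiv i (pderiv j (∑ l, X l * d l))) =
      constantCoeff (pderiv i (d j)) + constantCoeff (pderiv j (d i)) := by
  classical
  simp [map_sum, pderiv_mul, pderiv_X, Pi.single_apply, apply_ite constantCoeff, apply_ite (pderiv i), ite_mul,
    Finset.sum_add_distrib, add_comm]

/-- A change of coordinates sending each variable to itself plus a constant commutes with derivatives. -/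
theorem pderiv_shift {σ : Type} [Fintype σ] (c : σ → A) (p : MvPolynomial σ A) (i : σ) :
    pderiv i (aeval (fun j => X j + C (c j)) p) = aeval (fun j => X j + C (c j)) (pderiv i p) := by
  classical
  rw [pderiv_aeval, Finset.sum_eq_single i]
  · simp [pderiv_X]
  · intro j _ hj
    simp [pderiv_X, Pi.single_apply, hj, Ne.symm hj]
  · simp

theorem aeval_aeval_self {R : Type u} [CommRing R] {σ : Type} (ℓ ℓ' : σ → MvPolynomial σ R)
    (h : ∀ i, aeval ℓ (ℓ' i) = X i) (p : MvPolynomial σ R) : aeval ℓ (aeval ℓ' p) = p := by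
  induction p using MvPolynomial.induction_on with
  | C a => simp only [aeval_C, MvPolynomial.algebraMap_eq]
  | add p q hp hq => simp only [map_add, hp, hq]
  | mul_X p i hp => simp only [map_mul, aeval_X, hp, h]

/-- `w = (c, μ)` is a critical point of `g₀` on the zero locus of `g₁`, `μ` being the multipliers. -/
def IsCrit {A : Type u} [CommRing A] {n r : ℕ} (g₀ : MvPolynomial (Coord n r) A)
    (g₁ : Fin r → MvPolynomial (Coord n r) A) (w : Coord n r ⊕ Fin r → A) : Prop :=
  (∀ i, eval (w ∘ Sum.inl) (pderiv i g₀) - ∑ l, w (Sum.inr l) * eval (w ∘ Sum.inl) (pderiv i (g₁ l)) = 0) ∧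
    ∀ l, eval (w ∘ Sum.inl) (g₁ l) = 0

set_option maxHeartbeats 1000000 in
/-- There is exactly one critical point in the maximal ideal. -/
theorem existsUnique_crit {A : Type u} [CommRing A] [HenselianLocalRing A] {n r : ℕ}
    {g₀ : MvPolynomial (Coord n r) A} {g₁ : Fin r → MvPolynomial (Coord n r) A}
    (hgxr : ∀ l a, residue A (constantCoeff (pderiv (Sum.inl a) (g₁ l))) = 0)
    (hgzr : ∀ l l', residue A (constantCoeff (pderiv (Sum.inr l') (g₁ l))) = if l = l' then 1 else 0)
    (hg₁c : ∀ l, residue A (constantCoeff (g₁ l)) = 0)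
    (hg₀1 : ∀ i, residue A (constantCoeff (pderiv i g₀)) = 0)
    (Hx : Matrix (Fin n) (Fin n) (ResidueField A))
    (hHdef : ∀ a b, Hx a b = residue A (constantCoeff (pderiv (Sum.inl a) (pderiv (Sum.inl b) g₀))))
    (hHx : IsUnit Hx.det) :
    ∃! w : Coord n r ⊕ Fin r → A, IsCrit g₀ g₁ w ∧ ∀ i, w i ∈ maximalIdeal A := by
  classical
  let G : Coord n r ⊕ Fin r → MvPolynomial (Coord n r ⊕ Fin r) A :=
    Sum.elim (fun i => rename Sum.inl (pderiv i g₀) - ∑ l, X (Sum.inr l) * rename Sum.inl (pderiv i (g₁ l)))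
      (fun l => rename Sum.inl (g₁ l))
  have hdual : ∀ (v : Coord n r ⊕ Fin r → ResidueField A) p,
      eval₂ (dualMap A) (dualPt v) (rename Sum.inl p) = TrivSqZeroExt.inl (residue A (constantCoeff p)) +
        TrivSqZeroExt.inr (∑ j, residue A (constantCoeff (pderiv j p)) * v (Sum.inl j)) := fun v p => by
    rw [eval₂_rename, show dualPt v ∘ Sum.inl = dualPt (fun j => v (Sum.inl j)) from rfl, eval₂_dualPt]
    simp only [eval_zero_fun]
  obtain ⟨b, ⟨hb0, hbm⟩, huniq⟩ := existsUnique_zero G (fun i => by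
      rcases i with i | l
      · simp only [G, Sum.elim_inl, map_sub, map_sum, map_mul, eval_X, zero_mul, Finset.sum_const_zero, sub_zero,
          eval_rename]
        exact (residue_eq_zero_iff _).1 ((congrArg _ (eval_zero_fun _)).trans (hg₀1 i))
      · simp only [G, Sum.elim_inr, eval_rename]
        exact (residue_eq_zero_iff _).1 ((congrArg _ (eval_zero_fun _)).trans (hg₁c l)))
    fun v hv => by
      have hvz : ∀ l, v (Sum.inl (Sum.inr l)) = 0 := fun l => by
        have h := congrArg TrivSqZeroExt.snd ((hdual v (g₁ l)).symm.trans (hv (Sum.inr l)))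
        simpa [Fintype.sum_sum_type, hgxr, hgzr, ite_mul] using h
      have hrow : ∀ i, (∑ j, residue A (constantCoeff (pderiv j (pderiv i g₀))) * v (Sum.inl j)) -
          ∑ l, v (Sum.inr l) * residue A (constantCoeff (pderiv i (g₁ l))) = 0 := fun i => by
        have h := hv (Sum.inl i)
        simp only [G, Sum.elim_inl, ← coe_eval₂Hom, map_sub, map_sum, map_mul, eval₂Hom_X', dualPt] at h
        simp only [coe_eval₂Hom] at h
        have h1 := congrArg TrivSqZeroExt.snd h
        simp only [show (fun i => (TrivSqZeroExt.inr (v i) : DualNumber (ResidueField A))) = dualPt v from rfl,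
          hdual, hg₀1, TrivSqZeroExt.snd_sub, TrivSqZeroExt.snd_sum] at h1
        simpa using h1
      have hvx : ∀ a, v (Sum.inl (Sum.inl a)) = 0 := by
        have h0 : Matrix.vecMul (fun a => v (Sum.inl (Sum.inl a))) Hx = 0 := funext fun b => by
          have h := hrow (Sum.inl b)
          simp only [Fintype.sum_sum_type, hvz, hgxr, mul_zero, Finset.sum_const_zero, add_zero, sub_zero] at h
          rw [Matrix.vecMul, dotProduct, Pi.zero_apply, ← h]
          simp only [hHdef]
          exact Finset.sum_congr rfl fun a _ => mul_comm _ _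
        by_contra hc
        push Not at hc
        obtain ⟨a, ha⟩ := hc
        exact hHx.ne_zero (Matrix.exists_vecMul_eq_zero_iff.1 ⟨_, fun h => ha (congrFun h a), h0⟩)
      funext i
      rcases i with (a | l) | l
      · exact hvx a
      · exact hvz l
      · have h := hrow (Sum.inr l)
        simpa [Fintype.sum_sum_type, hvz, hvx, hgzr, mul_ite] using h
  have hiff : ∀ w, IsCrit g₀ g₁ w ↔ ∀ i, eval w (G i) = 0 := fun w => by
    simp [IsCrit, G, Sum.forall, eval_rename]
  exact ⟨b, ⟨(hiff b).2 hb0, hbm⟩, fun w hw => huniq w ⟨(hiff w).1 hw.1, hw.2⟩⟩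

set_option maxHeartbeats 1000000 in
/-- Equations with the right first and second order terms become normal form data after translating to a
critical point. -/
theorem exists_nf {A : Type u} [CommRing A] [HenselianLocalRing A] {n r : ℕ}
    {g₀ : MvPolynomial (Coord n r) A} {g₁ : Fin r → MvPolynomial (Coord n r) A}
    (hgxr : ∀ l a, residue A (constantCoeff (pderiv (Sum.inl a) (g₁ l))) = 0)
    (hgzr : ∀ l l', residue A (constantCoeff (pderiv (Sum.inr l') (g₁ l))) = if l = l' then 1 else 0)
    (hg₁c : ∀ l, residue A (constantCoeff (g₁ l)) = 0)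
    (hg₀1 : ∀ i, residue A (constantCoeff (pderiv i g₀)) = 0)
    (Hx : Matrix (Fin n) (Fin n) (ResidueField A))
    (hHdef : ∀ a b, Hx a b = residue A (constantCoeff (pderiv (Sum.inl a) (pderiv (Sum.inl b) g₀))))
    (hHx : IsUnit Hx.det)
    (hg₀c0 : residue A (constantCoeff g₀) = 0) (b : Coord n r ⊕ Fin r → A) (hbm : ∀ i, b i ∈ maximalIdeal A)
    (hb : IsCrit g₀ g₁ b) :
    ∃ D : NF A n r,
      (∀ l, D.g MvPolynomial.X l = aeval (fun i => X i + C (b (Sum.inl i))) (g₁ l)) ∧
      D.g0 MvPolynomial.X = aeval (fun i => X i + C (b (Sum.inl i))) g₀ -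
        ∑ l, C (b (Sum.inr l)) * aeval (fun i => X i + C (b (Sum.inl i))) (g₁ l) ∧
      D.b = eval (fun i => b (Sum.inl i)) g₀ := by
  classical
  let c : Coord n r → A := fun i => b (Sum.inl i)
  let μ : Fin r → A := fun l => b (Sum.inr l)
  have hgc : ∀ l, eval c (g₁ l) = 0 := hb.2
  have hcrit : ∀ i, eval c (pderiv i g₀) - ∑ l, μ l * eval c (pderiv i (g₁ l)) = 0 := hb.1
  have hevc : ∀ p, residue A (eval c p) = residue A (constantCoeff p) := fun p => by
    have h := residue_aeval (A := A) (fun i => hbm (Sum.inl i)) p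
    rwa [Algebra.algebraMap_self, RingHom.id_apply, aeval_eq_eval] at h
  -- translate to the critical point
  let τ : MvPolynomial (Coord n r) A →ₐ[A] MvPolynomial (Coord n r) A := aeval fun i => X i + C (c i)
  have hτc : ∀ p, constantCoeff (τ p) = eval c p := fun p => by
    rw [constantCoeff_aeval]
    congr 2
    funext i
    simp
  have hτd : ∀ p i, pderiv i (τ p) = τ (pderiv i p) := fun p i => pderiv_shift c p i
  let g₂ : Fin r → MvPolynomial (Coord n r) A := fun l => τ (g₁ l)
  let g₀₂ := τ g₀ - ∑ l, C (μ l) * g₂ l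
  have hd1 : ∀ i, constantCoeff (pderiv i g₀₂) = 0 := fun i => by
    simp only [g₀₂, g₂, map_sub, map_sum, pderiv_C_mul, map_mul, constantCoeff_C, hτd, hτc]
    simpa [MvPolynomial.smul_eq_C_mul, hτc] using hcrit i
  have hd2 : ∀ a b, residue A (constantCoeff (pderiv a (pderiv b g₀₂))) =
      residue A (constantCoeff (pderiv a (pderiv b g₀))) := fun a b => by
    have h0 : ∀ l, residue A (μ l) = 0 := fun l => (residue_eq_zero_iff _).2 (hbm _)
    simp only [g₀₂, g₂, map_sub, map_sum, pderiv_C_mul, MvPolynomial.smul_eq_C_mul, map_mul, constantCoeff_C, hτd,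
      hτc, hevc, h0, zero_mul, Finset.sum_const_zero, sub_zero]
  choose dE hdE using fun l => exists_decomp (g₂ l)
  have hg₂0 : ∀ l, constantCoeff (g₂ l) = 0 := fun l => (hτc _).trans (hgc l)
  obtain ⟨d0, hd0⟩ := exists_decomp g₀₂
  have hcd0 : ∀ i, constantCoeff (d0 i) = 0 := fun i => by
    have h := hd1 i
    rw [hd0, map_add, map_add, pderiv_C, map_zero, zero_add, cc_pderiv_sum] at h
    exact h
  choose dP hdP using fun i => exists_decomp (d0 i)
  have hdP' : ∀ i, d0 i = ∑ j, X j * dP i j := fun i => by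
    conv_lhs => rw [hdP i]
    rw [hcd0, map_zero, zero_add]
  let Mx : Matrix (Fin n) (Fin n) A :=
    fun a b => constantCoeff (dP (Sum.inl a) (Sum.inl b))
  have hhess : ∀ a b, constantCoeff (pderiv (Sum.inl a) (pderiv (Sum.inl b) g₀₂)) = Mx a b + Mx b a := fun a b => by
    rw [hd0, map_add, map_add, pderiv_C, map_zero, zero_add, cc_pderiv_pderiv_sum, hdP', hdP', cc_pderiv_sum,
      cc_pderiv_sum, add_comm]
  have hnd : VanCyc.QuadNondeg (tabd Mx) := by
    rw [VanCyc.QuadNondeg, polarMatrix_tabd]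
    refine notMem_maximalIdeal.1 fun h => hHx.ne_zero ?_
    rw [← (residue_eq_zero_iff _).2 h, RingHom.map_det]
    congr 1
    ext a b
    simp only [hHdef, RingHom.mapMatrix_apply, Matrix.map_apply, Matrix.add_apply,
      Matrix.transpose_apply, ← hhess, hd2]
  have hg₀c : constantCoeff g₀₂ ∈ maximalIdeal A := by
    rw [← residue_eq_zero_iff]
    have h0 : ∀ l, residue A (μ l) = 0 := fun l => (residue_eq_zero_iff _).2 (hbm _)
    simp only [g₀₂, g₂, map_sub, map_sum, map_mul, constantCoeff_C, hτc, hevc, h0, zero_mul, Finset.sum_const_zero,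
      sub_zero]
    exact hg₀c0
  let D : NF A n r :=
    { E := Matrix.of fun l i => dE l i
      P := Matrix.of fun i j => dP i j
      a := tabd Mx
      b := constantCoeff g₀₂
      hb := hg₀c
      ha := hnd
      hEx := fun l a => by
        rw [Matrix.of_apply, ← cc_pderiv_sum (dE l) (Sum.inl a), ← residue_eq_zero_iff]
        rw [show (∑ i, X i * dE l i) = g₂ l by
          conv_rhs => rw [hdE l, hg₂0, map_zero, zero_add], hτd, hτc, hevc]
        exact hgxr l a
      hEz := fun l l' => by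
        rw [Matrix.of_apply, ← cc_pderiv_sum (dE l) (Sum.inr l'), ← residue_eq_zero_iff, map_sub]
        rw [show (∑ i, X i * dE l i) = g₂ l by
          conv_rhs => rw [hdE l, hg₂0, map_zero, zero_add], hτd, hτc, hevc, hgzr,
          apply_ite (residue A), map_one, map_zero, sub_self]
      hP := fun i j _ => by
        simp only [Matrix.of_apply]
        rw [show (fun a b => constantCoeff (dP (Sum.inl a) (Sum.inl b))) = Mx from rfl, sub_self]
        exact Ideal.zero_mem _ }
  have hDg : D.g MvPolynomial.X = g₂ := funext fun l => by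
    conv_rhs => rw [hdE l, hg₂0, map_zero, zero_add]
    simp [NF.g, D, Matrix.mulVec, dotProduct, mul_comm]
  have hDg0 : D.g0 MvPolynomial.X = g₀₂ := by
    conv_rhs => rw [hd0]
    simp only [NF.g0, D, dotProduct, Matrix.mulVec, Matrix.map_apply, Matrix.of_apply, aeval_X_left_apply, hdP',
      MvPolynomial.algebraMap_eq]
    refine congrArg₂ (· + ·) rfl ?_
    refine Finset.sum_congr rfl fun i _ => ?_
    rw [Finset.mul_sum, Finset.mul_sum]
    exact Finset.sum_congr rfl fun j _ => by ring
  refine ⟨D, fun l => congrFun hDg l, hDg0, ?_⟩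
  change constantCoeff g₀₂ = eval c g₀
  simp only [g₀₂, g₂, map_sub, map_sum, map_mul, constantCoeff_C, hτc, hgc, mul_zero, Finset.sum_const_zero, sub_zero]

set_option maxHeartbeats 1000000 in
/-- Equations with the right first and second order terms give normal form data after translating to the critical
point. -/
theorem normalForm_of_eqs {A : Type u} [CommRing A] [HenselianLocalRing A] {B : Type u} [CommRing B] [Algebra A B]
    {P : Ideal B} {n r : ℕ} {π₂ : MvPolynomial (Coord (n + 1) r) A →ₐ[A] B}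
    {g₀ : MvPolynomial (Coord (n + 1) r) A} {g₁ : Fin r → MvPolynomial (Coord (n + 1) r) A}
    (hpres : Pres π₂ P (insert g₀ (Set.range g₁)))
    (hgxr : ∀ l a, residue A (constantCoeff (pderiv (Sum.inl a) (g₁ l))) = 0)
    (hgzr : ∀ l l', residue A (constantCoeff (pderiv (Sum.inr l') (g₁ l))) = if l = l' then 1 else 0)
    (hg₁c : ∀ l, residue A (constantCoeff (g₁ l)) = 0) (hg₀c0 : residue A (constantCoeff g₀) = 0)
    (hg₀1 : ∀ i, residue A (constantCoeff (pderiv i g₀)) = 0)
    (Hx : Matrix (Fin (n + 1)) (Fin (n + 1)) (ResidueField A))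
    (hHdef : ∀ a b, Hx a b = residue A (constantCoeff (pderiv (Sum.inl a) (pderiv (Sum.inl b) g₀))))
    (hHx : IsUnit Hx.det) :
    ∃ (π : MvPolynomial (Coord (n + 1) r) A →ₐ[A] B) (D : NF A (n + 1) r), Pres π P D.eqs := by
  classical
  have hg₀ : π₂ g₀ = 0 := hpres.vanish _ (Set.mem_insert _ _)
  have hg₁ : ∀ l, π₂ (g₁ l) = 0 := fun l => hpres.vanish _ (Set.mem_insert_of_mem _ ⟨l, rfl⟩)
  obtain ⟨b, ⟨hb, hbm⟩, -⟩ := existsUnique_crit hgxr hgzr hg₁c hg₀1 Hx hHdef hHx
  obtain ⟨D, hDg, hDg0, -⟩ := exists_nf hgxr hgzr hg₁c hg₀1 Hx hHdef hHx hg₀c0 b hbm hb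
  let c : Coord (n + 1) r → A := fun i => b (Sum.inl i)
  let μ : Fin r → A := fun l => b (Sum.inr l)
  have hevc : ∀ p, residue A (eval c p) = residue A (constantCoeff p) := fun p => by
    have h := residue_aeval (A := A) (fun i => hbm (Sum.inl i)) p
    rwa [Algebra.algebraMap_self, RingHom.id_apply, aeval_eq_eval] at h
  let τ : MvPolynomial (Coord (n + 1) r) A →ₐ[A] MvPolynomial (Coord (n + 1) r) A := aeval fun i => X i + C (c i)
  let τ' : MvPolynomial (Coord (n + 1) r) A →ₐ[A] MvPolynomial (Coord (n + 1) r) A := aeval fun i => X i - C (c i)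
  have hττ' : ∀ p, τ (τ' p) = p := aeval_aeval_self _ _ fun i => by simp
  have hτ'τ : ∀ p, τ' (τ p) = p := aeval_aeval_self _ _ fun i => by simp
  have hτc : ∀ p, constantCoeff (τ p) = eval c p := fun p => by
    rw [constantCoeff_aeval]
    congr 2
    funext i
    simp
  let π₃ := π₂.comp τ'
  let g₂ : Fin r → MvPolynomial (Coord (n + 1) r) A := fun l => τ (g₁ l)
  let g₀₂ := τ g₀ - ∑ l, C (μ l) * g₂ l
  replace hDg : D.g MvPolynomial.X = g₂ := funext hDg
  replace hDg0 : D.g0 MvPolynomial.X = g₀₂ := hDg0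
  refine ⟨π₃, D, ⟨fun y => ?_, fun p => ?_, fun f hf => ?_, fun f hf => ?_⟩⟩
  · obtain ⟨p, rfl⟩ := hpres.surj y
    exact ⟨τ p, congrArg π₂ (hτ'τ p)⟩
  · rw [AlgHom.comp_apply, hpres.mem_iff, ← residue_eq_zero_iff, ← residue_eq_zero_iff]
    conv_rhs => rw [← hττ' p, hτc, hevc]
  · simp only [NF.eqs, hDg, hDg0, Set.mem_insert_iff, Set.mem_range] at hf
    rcases hf with rfl | ⟨l, rfl⟩
    · simp [π₃, g₀₂, g₂, map_sum, hτ'τ, hg₀, hg₁]
    · simp [π₃, g₂, hτ'τ, hg₁]
  · obtain ⟨t, ht, htf⟩ := hpres.gen (τ' f) hf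
    refine ⟨τ t, fun h => ht ?_, ?_⟩
    · rw [← residue_eq_zero_iff] at h ⊢
      rwa [hτc, hevc] at h
    · have h := Ideal.mem_map_of_mem τ htf
      rw [map_mul, hττ', Ideal.map_span, Set.image_insert_eq, ← Set.range_comp] at h
      refine Ideal.span_le.2 ?_ h
      rw [NF.eqs, hDg, hDg0, Set.insert_subset_iff]
      refine ⟨?_, ?_⟩
      · have : τ g₀ = g₀₂ + ∑ l, C (μ l) * g₂ l := by simp [g₀₂]
        rw [SetLike.mem_coe, this]
        exact add_mem (Ideal.subset_span (Set.mem_insert _ _)) (Ideal.sum_mem _ fun l _ =>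
          Ideal.mul_mem_left _ _ (Ideal.subset_span (Set.mem_insert_of_mem _ ⟨l, rfl⟩)))
      · rintro _ ⟨l, rfl⟩
        exact Ideal.subset_span (Set.mem_insert_of_mem _ ⟨l, rfl⟩)


set_option maxHeartbeats 1000000 in
/-- Coordinates at a rational point in which the tangent space of the closed fibre is a coordinate subspace. -/
theorem exists_straight {A : Type u} [CommRing A] [IsLocalRing A] {B : Type u} [CommRing B] [Algebra A B]
    [Algebra.FinitePresentation A B] (P : Ideal B) [P.IsMaximal]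
    (hP : (maximalIdeal A).map (algebraMap A B) ≤ P) (hrat : ∀ y : B, ∃ c : A, y - algebraMap A B c ∈ P) :
    ∃ (m r : ℕ) (π : MvPolynomial (Coord m r) A →ₐ[A] B) (χ : B →ₐ[A] KK A)
      (g : Fin r → MvPolynomial (Coord m r) A), Function.Surjective π ∧ (∀ b, χ b = 0 ↔ b ∈ P) ∧
      (∀ p, χ (π p) = algebraMap A (KK A) (constantCoeff p)) ∧
      (∀ p, π p ∈ P ↔ constantCoeff p ∈ maximalIdeal A) ∧ (∀ l, π (g l) = 0) ∧
      (∀ l a, jac π χ (g l) (Sum.inl a) = 0) ∧
      (∀ l l', jac π χ (g l) (Sum.inr l') = if l = l' then 1 else 0) ∧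
      ∀ u, π u = 0 → ∀ a, jac π χ u (Sum.inl a) = ∑ l, jac π χ u (Sum.inr l) * jac π χ (g l) (Sum.inl a) := by
  classical
  obtain ⟨N, π₀', hπ₀', -⟩ := Algebra.FinitePresentation.out (R := A) (A := B)
  choose c0 hc0 using fun i => hrat (π₀' (X i))
  let π₀ : MvPolynomial (Fin N) A →ₐ[A] B := aeval fun i => π₀' (X i) - algebraMap A B (c0 i)
  have hπ₀ : Function.Surjective π₀ := fun y => by
    obtain ⟨p, rfl⟩ := hπ₀' y
    refine ⟨aeval (fun i => X i + C (c0 i)) p, ?_⟩
    rw [← AlgHom.comp_apply, comp_aeval]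
    conv_rhs => rw [aeval_unique π₀']
    congr 1
    refine congrArg _ (funext fun i => ?_)
    simp [π₀]
  have hAm : ∀ a, algebraMap A B a ∈ P ↔ a ∈ maximalIdeal A := fun a =>
    ⟨fun h => by
      by_contra hc
      exact Ideal.IsMaximal.ne_top inferInstance
        (Ideal.eq_top_of_isUnit_mem _ h ((notMem_maximalIdeal.1 hc).map _)),
      fun h => hP (Ideal.mem_map_of_mem _ h)⟩
  have hmem₀ : ∀ p, π₀ p ∈ P ↔ constantCoeff p ∈ maximalIdeal A := fun p => by
    obtain ⟨d, hd⟩ := exists_decomp p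
    have h1 : π₀ (C (constantCoeff p) + ∑ i, X i * d i) - algebraMap A B (constantCoeff p) ∈ P := by
      rw [map_add, show π₀ (C (constantCoeff p)) = algebraMap A B (constantCoeff p) from π₀.commutes _,
        add_sub_cancel_left, map_sum]
      refine Ideal.sum_mem _ fun i _ => ?_
      rw [map_mul, show π₀ (X i) = π₀' (X i) - algebraMap A B (c0 i) from aeval_X _ i]
      exact Ideal.mul_mem_right _ _ (hc0 i)
    rw [← hd] at h1
    rw [← hAm]
    exact ⟨fun h => by simpa using P.sub_mem h h1, fun h => by simpa using P.add_mem h h1⟩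
  -- the point
  let χ : B →ₐ[A] KK A := AlgHom.liftOfSurjective π₀ hπ₀ (aeval fun _ => (0 : KK A)) fun p hp => by
    change aeval (fun _ => (0 : KK A)) p = 0
    rw [aeval_zero', IsScalarTower.algebraMap_apply A (ResidueField A) (KK A),
      show algebraMap A (ResidueField A) (constantCoeff p) = 0 from (residue_eq_zero_iff _).2 ((hmem₀ p).1 (by
        rw [show π₀ p = 0 from hp]; exact P.zero_mem)), map_zero]
  have hχ₀ : ∀ p, χ (π₀ p) = algebraMap A (KK A) (constantCoeff p) := fun p => by
    rw [AlgHom.liftOfSurjective_apply, aeval_zero']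
  have hzero : ∀ a : A, algebraMap A (KK A) a = 0 ↔ residue A a = 0 := fun a => by
    rw [IsScalarTower.algebraMap_apply A (ResidueField A) (KK A), map_eq_zero_iff _ (RingHom.injective _)]
    rfl
  have hχ : ∀ b, χ b = 0 ↔ b ∈ P := fun b => by
    obtain ⟨p, rfl⟩ := hπ₀ b
    rw [hχ₀, hzero, residue_eq_zero_iff, hmem₀]
  obtain ⟨m, r, e, g, hg, hgz, hspan⟩ := exists_adapted P π₀ hπ₀ χ hχ
  set π₁ := π₀.comp (rename e.symm)
  have hχ₁ : ∀ p, χ (π₁ p) = algebraMap A (KK A) (constantCoeff p) := fun p => by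
    rw [AlgHom.comp_apply, hχ₀, constantCoeff_rename]
  have hπ₁ : Function.Surjective π₁ := hπ₀.comp (rename_surjective _ e.symm.surjective)
  -- straighten the tangent space
  let s : Fin r → Fin m → A := fun l a => constantCoeff (pderiv (Sum.inl a) (g l))
  let ℓ : Coord m r → MvPolynomial (Coord m r) A :=
    Sum.elim (fun a => X (Sum.inl a)) (fun l => X (Sum.inr l) - ∑ a, C (s l a) * X (Sum.inl a))
  let ℓ' : Coord m r → MvPolynomial (Coord m r) A :=
    Sum.elim (fun a => X (Sum.inl a)) (fun l => X (Sum.inr l) + ∑ a, C (s l a) * X (Sum.inl a))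
  have hll : ∀ p, aeval ℓ (aeval ℓ' p) = p := aeval_aeval_self ℓ ℓ' fun i => by
    rcases i with a | l <;> simp [ℓ, ℓ', map_sum, MvPolynomial.algebraMap_eq]
  have hll' : ∀ p, aeval ℓ' (aeval ℓ p) = p := aeval_aeval_self ℓ' ℓ fun i => by
    rcases i with a | l <;> simp [ℓ, ℓ', map_sum, MvPolynomial.algebraMap_eq]
  let π₂ := π₁.comp (aeval ℓ')
  have hπ₂ : Function.Surjective π₂ := fun y => by
    obtain ⟨p, rfl⟩ := hπ₁ y
    exact ⟨aeval ℓ p, congrArg π₁ (hll' p)⟩
  have hℓc : ∀ i, constantCoeff (ℓ i) = 0 := fun i => by rcases i with a | l <;> simp [ℓ, map_sum]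
  have hℓ'c : ∀ i, constantCoeff (ℓ' i) = 0 := fun i => by rcases i with a | l <;> simp [ℓ', map_sum]
  have hχ₂ : ∀ p, χ (π₂ p) = algebraMap A (KK A) (constantCoeff p) := fun p => by
    rw [AlgHom.comp_apply, hχ₁, constantCoeff_aeval, funext hℓ'c, eval_zero_fun]
  have hj1 : ∀ p i, jac π₁ χ p i = algebraMap A (KK A) (constantCoeff (pderiv i p)) := fun p i => hχ₁ _
  have hj2 : ∀ p i, jac π₂ χ p i = algebraMap A (KK A) (constantCoeff (pderiv i p)) := fun p i => hχ₂ _
  have hlin : ∀ p j, jac π₂ χ (aeval ℓ p) j =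
      ∑ i, jac π₁ χ p i * algebraMap A (KK A) (constantCoeff (pderiv j (ℓ i))) := fun p j => by
    rw [hj2, pderiv_aeval, map_sum, map_sum]
    refine Finset.sum_congr rfl fun i _ => ?_
    rw [map_mul, map_mul, constantCoeff_aeval, funext hℓc, eval_zero_fun, hj1]
  have hlx : ∀ p a, jac π₂ χ (aeval ℓ p) (Sum.inl a) =
      jac π₁ χ p (Sum.inl a) - ∑ l, jac π₁ χ p (Sum.inr l) * algebraMap A (KK A) (s l a) := fun p a => by
    rw [hlin, Fintype.sum_sum_type, sub_eq_add_neg, ← Finset.sum_neg_distrib]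
    congr 1
    · rw [Finset.sum_eq_single a]
      · simp [ℓ]
      · intro b _ hb; simp [ℓ, pderiv_X, Pi.single_apply, hb]
      · simp
    · refine Finset.sum_congr rfl fun l _ => ?_
      simp [ℓ, map_sum, pderiv_X, Pi.single_apply, apply_ite constantCoeff]
  have hlz : ∀ p l', jac π₂ χ (aeval ℓ p) (Sum.inr l') = jac π₁ χ p (Sum.inr l') := fun p l' => by
    rw [hlin, Fintype.sum_sum_type, Finset.sum_eq_zero (fun a _ => by simp [ℓ]), zero_add, Finset.sum_eq_single l']
    · simp [ℓ, map_sum]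
    · intro b _ hb; simp [ℓ, map_sum, pderiv_X, Pi.single_apply, hb]
    · simp
  let g₁ : Fin r → MvPolynomial (Coord m r) A := fun l => aeval ℓ (g l)
  have hg₁ : ∀ l, π₂ (g₁ l) = 0 := fun l => (congrArg π₁ (hll' (g l))).trans (hg l)
  have hgx : ∀ l a, jac π₂ χ (g₁ l) (Sum.inl a) = 0 := fun l a => by
    rw [hlx]
    simp only [hgz, ite_mul, one_mul, zero_mul, Finset.sum_ite_eq, Finset.mem_univ, if_true]
    rw [hj1, sub_self]
  have hgz' : ∀ l l', jac π₂ χ (g₁ l) (Sum.inr l') = if l = l' then 1 else 0 := fun l l' => by rw [hlz, hgz]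
  refine ⟨m, r, π₂, χ, g₁, hπ₂, hχ, hχ₂, fun p => ?_, hg₁, hgx, hgz', fun u hu a => ?_⟩
  · rw [← hχ, hχ₂, hzero, residue_eq_zero_iff]
  · simp only [hgx, mul_zero, Finset.sum_const_zero]
    rw [← hll u, hlx, hspan (aeval ℓ' u) hu a, sub_eq_zero]
    exact Finset.sum_congr rfl fun l _ => by rw [hj1 (g l)]

set_option maxHeartbeats 1000000 in
/-- A flat family with a non-degenerate quadratic point in the closed fibre has normal form data. -/
theorem exists_normalForm {A : Type u} [CommRing A] [HenselianLocalRing A] {B : Type u} [CommRing B] [Algebra A B]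
    [Algebra.FinitePresentation A B] (P : Ideal B) [P.IsMaximal]
    (hP : (maximalIdeal A).map (algebraMap A B) ≤ P)
    (hPi : ∀ y : B, ∃ (e : ℕ) (c : A), y ^ ringExpChar (ResidueField A) ^ e - algebraMap A B c ∈ P)
    [Module.Flat A (Localization.AtPrime P)] {n : ℕ}
    (hq : VanCyc.IsNondegQuadPt (VanCyc.fibHom A (Localization.AtPrime P)) n) :
    ∃ (r : ℕ) (π : MvPolynomial (Coord (n + 1) r) A →ₐ[A] B) (D : NF A (n + 1) r), Pres π P D.eqs := by
  classical
  obtain ⟨m, r, π₂, χ, g₁, hπ₂, hχ, hχ₂, hmem₂, hg₁, hgx, hgz', hspan⟩ :=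
    exists_straight P hP (rational_of_nondeg P hP hPi hq)
  have hj2 : ∀ p i, jac π₂ χ p i = algebraMap A (KK A) (constantCoeff (pderiv i p)) := fun p i => hχ₂ _
  have hzero : ∀ a : A, algebraMap A (KK A) a = 0 ↔ residue A a = 0 := fun a => by
    rw [IsScalarTower.algebraMap_apply A (ResidueField A) (KK A), map_eq_zero_iff _ (RingHom.injective _)]
    rfl
  obtain ⟨g₀, hg₀, rfl, hjac0, -, hdet, hgen⟩ := analysis P π₂ hπ₂ χ hχ g₁ hg₁ hgz' hspan hq
  -- equations
  let F : Option (Fin r) → MvPolynomial (Coord (n + 1) r) A := fun o => Option.elim o g₀ g₁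
  have hrange : Set.range F = insert g₀ (Set.range g₁) := by
    ext x
    simp only [Set.mem_range, Option.exists, Set.mem_insert_iff, F, Option.elim_none, Option.elim_some]
    exact or_congr_left eq_comm
  have hX : ∀ i, χ (π₂ (X i)) = 0 := fun i => by rw [hχ₂]; simp
  have hpres : Pres π₂ P (Set.range F) := pres_of_fibre (K := KK A) π₂ hπ₂
    (Algebra.FinitePresentation.ker_fG_of_surjective π₂ hπ₂) P hmem₂ F
    (fun o => by cases o; exacts [hg₀, hg₁ _]) fun u hu j => by
      have h := hgen hX (fun l a => hgx l a) u hu j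
      have heq : (Set.range fun i => MvPolynomial.map (algebraMap A (KK A)) (F i)) =
          insert (MvPolynomial.map (algebraMap A (KK A)) g₀)
            (Set.range fun l => MvPolynomial.map (algebraMap A (KK A)) (g₁ l)) := by
        ext x
        simp only [Set.mem_range, Option.exists, Set.mem_insert_iff, F, Option.elim_none, Option.elim_some]
        exact or_congr_left eq_comm
      rwa [heq]
  -- the critical point
  have hres : ∀ p, χ (π₂ p) = 0 → residue A (constantCoeff p) = 0 := fun p hp => by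
    rwa [hχ₂, hzero] at hp
  have hgxr : ∀ l a, residue A (constantCoeff (pderiv (Sum.inl a) (g₁ l))) = 0 := fun l a => hres _ (hgx l a)
  have hgzr : ∀ l l', residue A (constantCoeff (pderiv (Sum.inr l') (g₁ l))) = if l = l' then 1 else 0 := by
    intro l l'
    refine (algebraMap (ResidueField A) (KK A)).injective ?_
    have h := hgz' l l'
    rw [hj2, IsScalarTower.algebraMap_apply A (ResidueField A) (KK A)] at h
    rw [apply_ite (algebraMap (ResidueField A) (KK A)), map_one, map_zero]
    exact h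
  let Hx : Matrix (Fin (n + 1)) (Fin (n + 1)) (ResidueField A) :=
    Matrix.of fun a b => residue A (constantCoeff (pderiv (Sum.inl a) (pderiv (Sum.inl b) g₀)))
  have hHx : IsUnit Hx.det := by
    rw [isUnit_iff_ne_zero]
    intro h
    have h2 := congrArg (algebraMap (ResidueField A) (KK A)) h
    rw [RingHom.map_det, map_zero] at h2
    refine (hdet hgx).ne_zero ?_
    rw [← h2]
    congr 1
    ext a b
    rw [Matrix.of_apply, hχ₂, IsScalarTower.algebraMap_apply A (ResidueField A) (KK A)]
    rfl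
  rw [hrange] at hpres
  obtain ⟨π₃, D, hD⟩ := normalForm_of_eqs hpres hgxr hgzr (fun l => hres _ (by rw [hg₁, map_zero]))
    (hres g₀ (by rw [hg₀, map_zero])) (fun i => hres _ (hjac0 i)) Hx (fun a b => rfl) hHx
  exact ⟨r, π₃, D, hD⟩

end Groth.Agent.QuadHens
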