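import Mathlib
import Groth.Agent.QuadHens.Prep
import Groth.Agent.QuadHens.Axis

/-!
Equations adapted to an ordinary quadratic point of even dimension in residue characteristic two.
-/

set_option autoImplicit false
set_option linter.style.haveILetI false

universe u

open IsLocalRing MvPolynomial

attribute [-simp] MvPolynomial.aeval_eq_bind₁ IsLocalRing.residue_eq_zero_iff

namespace Groth.Agent.QuadHens

section Line

variable {R : Type u} [CommRing R] {n : ℕ}

/-- The second order term on a line is the value of the quadratic part. -/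
theorem coeff_two_line (v : Fin n → R) (u : MvPolynomial (Fin n) R) :
    (aeval (fun i => Polynomial.C (v i) * Polynomial.X) u).coeff 2 =
      VanCyc.quadEval (fun a b => coeff (Finsupp.single a 1 + Finsupp.single b 1) u) v := by
  classical
  induction u using MvPolynomial.induction_on' with
  | add p q hp hq =>
    simp only [map_add, Polynomial.coeff_add, hp, hq, VanCyc.quadEval, coeff_add, add_mul, ← Finset.sum_add_distrib]
    refine Finset.sum_congr rfl fun i _ => Finset.sum_congr rfl fun j _ => ?_
    split_ifs <;> simp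
  | monomial e c =>
    have hl : aeval (fun i => Polynomial.C (v i) * Polynomial.X) (monomial e c) =
        Polynomial.C (c * ∏ i, v i ^ e i) * Polynomial.X ^ e.degree := by
      rw [aeval_monomial, Finsupp.prod_fintype _ _ (fun i => pow_zero _), Finsupp.degree_eq_sum,
        map_mul, map_prod, Polynomial.algebraMap_eq, ← Finset.prod_pow_eq_pow_sum]
      simp only [mul_pow, map_pow, Finset.prod_mul_distrib, mul_assoc]
    rw [hl, Polynomial.coeff_C_mul_X_pow]
    simp only [VanCyc.quadEval, coeff_monomial]
    by_cases he : e.degree = 2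
    · obtain ⟨i, j, hij, rfl⟩ := Morse.exists_pair he
      rw [if_pos he.symm, Finset.sum_eq_single i ?_ (by simp), Finset.sum_eq_single j ?_ (by simp)]
      · rw [if_pos hij, if_pos rfl]
        have hp : ∏ l, v l ^ (Finsupp.single i 1 + Finsupp.single j 1 : Fin n →₀ ℕ) l = v i * v j := by
          simp only [Finsupp.add_apply, pow_add, Finset.prod_mul_distrib]
          simp [Finsupp.single_apply, pow_ite]
        rw [hp, mul_assoc]
      · intro b _ hb
        split_ifs with h h'
        · exact absurd (Morse.single_add_single_eq hij h h').2.symm hb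
        · ring
        · rfl
      · intro a _ ha
        refine Finset.sum_eq_zero fun b _ => ?_
        split_ifs with h h'
        · exact absurd (Morse.single_add_single_eq hij h h').1.symm ha
        · ring
        · rfl
    · rw [if_neg (Ne.symm he), Finset.sum_eq_zero fun a _ => Finset.sum_eq_zero fun b _ => ?_]
      split_ifs with h h'
      · exact absurd (by rw [h']; simp) he
      · ring
      · rfl

/-- An alternating matrix of odd size has vanishing determinant. -/
theorem det_sub_transpose (hn : Odd n) (M : Matrix (Fin n) (Fin n) R) : (M - M.transpose).det = 0 := by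
  have h : (Matrix.mvPolynomialX (Fin n) (Fin n) ℤ - (Matrix.mvPolynomialX (Fin n) (Fin n) ℤ).transpose).det = 0 := by
    set Y := Matrix.mvPolynomialX (Fin n) (Fin n) ℤ - (Matrix.mvPolynomialX (Fin n) (Fin n) ℤ).transpose
    have h1 : Y.transpose = -Y := by simp [Y]
    have h2 : Y.det = -Y.det := by
      conv_lhs => rw [← Matrix.det_transpose, h1, Matrix.det_neg, Fintype.card_fin, hn.neg_one_pow, neg_one_mul]
    exact CharZero.eq_neg_self_iff.1 h2
  let f : MvPolynomial (Fin n × Fin n) ℤ →+* R :=
    eval₂Hom (Int.castRingHom R) (fun p => M p.1 p.2)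
  have h2 := congrArg f h
  rw [RingHom.map_det, map_zero] at h2
  convert h2 using 2
  ext i j
  simp [f, Matrix.mvPolynomialX]

theorem polarMatrix_det_eq_zero [CharP R 2] (hn : Odd n) (a : Fin n → Fin n → R) :
    (VanCyc.polarMatrix a).det = 0 := by
  rw [← triu_add_transpose, show triu a + (triu a).transpose = triu a - (triu a).transpose by
    ext i j; simp [CharTwo.sub_eq_add]]
  exact det_sub_transpose hn _

end Line

variable {A : Type u} [CommRing A] [IsLocalRing A] {B : Type u} [CommRing B] [Algebra A B]

/-- The residual conditions on equations adapted to an ordinary quadratic point: the first axis is the kernel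
of the polar form. -/
structure Adapted {N r : ℕ} (g₀ : MvPolynomial (Coord (N + 1) r) A)
    (g₁ : Fin r → MvPolynomial (Coord (N + 1) r) A) : Prop where
  gx : ∀ l a, residue A (constantCoeff (pderiv (Sum.inl a) (g₁ l))) = 0
  gz : ∀ l l', residue A (constantCoeff (pderiv (Sum.inr l') (g₁ l))) = if l = l' then 1 else 0
  gc : ∀ l, residue A (constantCoeff (g₁ l)) = 0
  c0 : residue A (constantCoeff g₀) = 0
  d0 : ∀ i, residue A (constantCoeff (pderiv i g₀)) = 0
  h0 : ∀ j : Coord N r, residue A (constantCoeff (pderiv (Sum.inl 0) (pderiv (emb j) g₀))) = 0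
  det : IsUnit (Matrix.of fun a b : Fin N =>
    residue A (constantCoeff (pderiv (Sum.inl a.succ) (pderiv (Sum.inl b.succ) g₀)))).det
  q : residue A ((axis g₀).coeff 2) ≠ 0

theorem Pres.change {σ : Type} {π : MvPolynomial σ A →ₐ[A] B} {P : Ideal B} {F : Set (MvPolynomial σ A)}
    (h : Pres π P F) (τ τ' : MvPolynomial σ A →ₐ[A] MvPolynomial σ A) (hττ' : ∀ p, τ (τ' p) = p)
    (hτ'τ : ∀ p, τ' (τ p) = p) (hc : ∀ p, constantCoeff (τ p) = constantCoeff p)
    {F' : Set (MvPolynomial σ A)} (hle : τ '' F ⊆ Ideal.span F') (hge : F' ⊆ Ideal.span (τ '' F)) :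
    Pres (π.comp τ') P F' where
  surj := fun y => by
    obtain ⟨p, rfl⟩ := h.surj y
    exact ⟨τ p, congrArg π (hτ'τ p)⟩
  mem_iff p := by
    rw [AlgHom.comp_apply, h.mem_iff, ← hc (τ' p), hττ']
  vanish f hf := by
    refine (Ideal.span_le.2 ?_ : Ideal.span (τ '' F) ≤ RingHom.ker (π.comp τ').toRingHom) (hge hf)
    rintro _ ⟨q, hq, rfl⟩
    change π (τ' (τ q)) = 0
    rw [hτ'τ, h.vanish q hq]
  gen f hf := by
    obtain ⟨s, hs, hsf⟩ := h.gen (τ' f) hf
    refine ⟨τ s, by rwa [hc], ?_⟩
    have h2 := Ideal.mem_map_of_mem τ hsf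
    rw [map_mul, hττ', Ideal.map_span] at h2
    exact Ideal.span_le.2 hle h2

/-- The restriction to the tangent space. -/
noncomputable def restr {n r : ℕ} : MvPolynomial (Coord n r) A →ₐ[A] MvPolynomial (Fin n) A :=
  aeval (Sum.elim MvPolynomial.X fun _ => 0)

theorem pderiv_restr {n r : ℕ} (a : Fin n) (p : MvPolynomial (Coord n r) A) :
    pderiv a (restr p) = restr (pderiv (Sum.inl a) p) := by
  classical
  induction p using MvPolynomial.induction_on with
  | C c => simp [restr]
  | add p q hp hq => simp [hp, hq]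
  | mul_X p i hp =>
    rcases i with b | l <;> simp [restr, pderiv_mul, Pi.single_apply, apply_ite] at hp ⊢ <;> rw [hp]

theorem constantCoeff_restr {n r : ℕ} (p : MvPolynomial (Coord n r) A) :
    constantCoeff (restr p) = constantCoeff p := by
  rw [restr, constantCoeff_aeval, ← eval_zero_fun p]
  congr 2
  funext i
  rcases i with a | l <;> simp

theorem resTab_map {R : Type u} [CommRing R] (f : A →+* R) {n r : ℕ} (u : MvPolynomial (Coord n r) A) (a b : Fin n) :
    resTab (MvPolynomial.map f u) a b = f (coeff (Finsupp.single a 1 + Finsupp.single b 1) (restr u)) := by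
  rw [resTab, ← coeff_map]
  congr 1
  induction u using MvPolynomial.induction_on with
  | C c => simp [restr]
  | add p q hp hq => simp only [map_add, hp, hq]
  | mul_X p i hp => rcases i with c | l <;> simp [restr] at hp ⊢ <;> rw [hp]

/-- The polar form of the quadratic part on the tangent space is the Hessian. -/
theorem polarMatrix_restr {n r : ℕ} (g : MvPolynomial (Coord n r) A) :
    VanCyc.polarMatrix (fun a b => residue A (coeff (Finsupp.single a 1 + Finsupp.single b 1) (restr g))) =
      Matrix.of fun a b => residue A (constantCoeff (pderiv (Sum.inl a) (pderiv (Sum.inl b) g))) := by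
  simp only [← coeff_map, polarMatrix_coeff]
  funext a b
  simp only [Matrix.of_apply, MvPolynomial.pderiv_map, MvPolynomial.constantCoeff_map, pderiv_restr,
    constantCoeff_restr]

set_option maxHeartbeats 1000000 in
/-- Equations at a rational ordinary quadratic point of the closed fibre. -/
theorem exists_ordEqs [Algebra.FinitePresentation A B] (P : Ideal B) [P.IsMaximal]
    (hP : (maximalIdeal A).map (algebraMap A B) ≤ P) (hrat : ∀ y : B, ∃ c : A, y - algebraMap A B c ∈ P)
    [Module.Flat A (Localization.AtPrime P)] {N : ℕ}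
    (hq : VanCyc.IsOrdQuadPt (VanCyc.fibHom A (Localization.AtPrime P)) N) :
    ∃ (r : ℕ) (π : MvPolynomial (Coord (N + 1) r) A →ₐ[A] B) (g₀ : MvPolynomial (Coord (N + 1) r) A)
      (g₁ : Fin r → MvPolynomial (Coord (N + 1) r) A), Pres π P (insert g₀ (Set.range g₁)) ∧
      (∀ l a, residue A (constantCoeff (pderiv (Sum.inl a) (g₁ l))) = 0) ∧
      (∀ l l', residue A (constantCoeff (pderiv (Sum.inr l') (g₁ l))) = if l = l' then 1 else 0) ∧
      (∀ l, residue A (constantCoeff (g₁ l)) = 0) ∧ residue A (constantCoeff g₀) = 0 ∧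
      (∀ i, residue A (constantCoeff (pderiv i g₀)) = 0) ∧
      VanCyc.QuadOrd (fun a b => algebraMap (ResidueField A) (KK A)
        (residue A (coeff (Finsupp.single a 1 + Finsupp.single b 1) (restr g₀)))) := by
  classical
  obtain ⟨m, r, π, χ, g₁, hπ, hχ, hχπ, hmem, hg₁, hgx, hgz, hspan⟩ := exists_straight P hP hrat
  obtain ⟨g₀, hg₀, rfl, hjac0, -, hsim, hgen⟩ := analysis_gen P π hπ χ hχ g₁ hg₁ hgz hspan
    (fun f : MvPowerSeries (Fin (N + 1)) (KK A) => VanCyc.OrdQuadSeries f) (fun f hf => hf.1)
    (fun f hf => by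
      by_contra hc
      push Not at hc
      have h0 : VanCyc.polarMatrix (VanCyc.quadPart f) = 0 := by
        rw [polarMatrix_congr (a' := fun _ _ => 0) hc]
        ext i j; simp [VanCyc.polarMatrix]
      have h1 : VanCyc.quadEval (VanCyc.quadPart f) (fun _ => 1) = 0 :=
        Finset.sum_eq_zero fun i _ => Finset.sum_eq_zero fun j _ => by
          split_ifs with h
          · simp [hc i j h]
          · rfl
      exact one_ne_zero (congrFun (hf.2 (fun _ => 1) h1 (by rw [h0, Matrix.zero_mulVec])) 0)) hq
  have hX : ∀ i, χ (π (X i)) = 0 := fun i => by rw [hχπ]; simp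
  have hzero : ∀ a : A, algebraMap A (KK A) a = 0 ↔ residue A a = 0 := fun a => by
    rw [IsScalarTower.algebraMap_apply A (ResidueField A) (KK A), map_eq_zero_iff _ (RingHom.injective _)]
    rfl
  have hres : ∀ p, χ (π p) = 0 → residue A (constantCoeff p) = 0 := fun p hp => by
    rwa [hχπ, hzero] at hp
  let F : Option (Fin r) → MvPolynomial (Coord (N + 1) r) A := fun o => Option.elim o g₀ g₁
  have hrange : ∀ {S : Type u} (f : MvPolynomial (Coord (N + 1) r) A → S),
      Set.range (fun o => f (F o)) = insert (f g₀) (Set.range fun l => f (g₁ l)) := fun f => by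
    ext x
    simp only [Set.mem_range, Option.exists, Set.mem_insert_iff, F, Option.elim_none, Option.elim_some]
    exact or_congr_left eq_comm
  have hpres := pres_of_fibre (K := KK A) π hπ (Algebra.FinitePresentation.ker_fG_of_surjective π hπ) P hmem F
    (fun o => by cases o; exacts [hg₀, hg₁ _]) fun u hu j => by
      rw [hrange (MvPolynomial.map (algebraMap A (KK A)))]
      exact hgen hX hgx u hu j
  rw [show Set.range F = insert g₀ (Set.range g₁) from hrange id] at hpres
  obtain ⟨f, hf, hf'⟩ := hsim hX hgx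
  have hord := (hf' rfl).ord hf.2
  refine ⟨r, π, g₀, g₁, hpres, fun l a => hres _ (hgx l a), fun l l' => ?_, fun l => hres _ (by rw [hg₁, map_zero]),
    hres _ (by rw [hg₀, map_zero]), fun i => hres _ (hjac0 i), ?_⟩
  · refine (algebraMap (ResidueField A) (KK A)).injective ?_
    have h : χ (π (pderiv (Sum.inr l') (g₁ l))) = _ := hgz l l'
    rw [hχπ, IsScalarTower.algebraMap_apply A (ResidueField A) (KK A)] at h
    rw [apply_ite (algebraMap (ResidueField A) (KK A)), map_one, map_zero]
    exact h
  · have htab : resTab (MvPolynomial.map (algebraMap A (KK A)) g₀) = fun a b => algebraMap (ResidueField A) (KK A)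
        (residue A (coeff (Finsupp.single a 1 + Finsupp.single b 1) (restr g₀))) := by
      funext a b
      rw [resTab_map, IsScalarTower.algebraMap_apply A (ResidueField A) (KK A)]
      rfl
    rwa [htab] at hord

set_option maxHeartbeats 1000000 in
/-- Equations adapted to a rational ordinary quadratic point of even dimension in residue characteristic two. -/
theorem exists_adaptedEqs (hA : CharP (ResidueField A) 2) [Algebra.FinitePresentation A B] (P : Ideal B) [P.IsMaximal]
    (hP : (maximalIdeal A).map (algebraMap A B) ≤ P) (hrat : ∀ y : B, ∃ c : A, y - algebraMap A B c ∈ P)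
    [Module.Flat A (Localization.AtPrime P)] {N : ℕ} (hN : Even N)
    (hq : VanCyc.IsOrdQuadPt (VanCyc.fibHom A (Localization.AtPrime P)) N) :
    ∃ (r : ℕ) (π : MvPolynomial (Coord (N + 1) r) A →ₐ[A] B) (g₀ : MvPolynomial (Coord (N + 1) r) A)
      (g₁ : Fin r → MvPolynomial (Coord (N + 1) r) A), Pres π P (insert g₀ (Set.range g₁)) ∧ Adapted g₀ g₁ := by
  classical
  obtain ⟨r, π, g₀, g₁, hpres, hgx, hgz, hgc, hc0, hd0, hord⟩ := exists_ordEqs P hP hrat hq
  haveI := hA
  let k := ResidueField A
  let K := KK A
  let T : Fin (N + 1) → Fin (N + 1) → k :=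
    fun a b => residue A (coeff (Finsupp.single a 1 + Finsupp.single b 1) (restr g₀))
  let H : Matrix (Fin (N + 1)) (Fin (N + 1)) k :=
    Matrix.of fun a b => residue A (constantCoeff (pderiv (Sum.inl a) (pderiv (Sum.inl b) g₀)))
  have hH : VanCyc.polarMatrix T = H := polarMatrix_restr g₀
  let TK : Fin (N + 1) → Fin (N + 1) → K := fun a b => algebraMap k K (T a b)
  have hTK : VanCyc.polarMatrix TK = H.map (algebraMap k K) := by
    rw [← hH]
    ext a b
    simp only [VanCyc.polarMatrix, Matrix.map_apply, TK]
    split_ifs <;> simp [map_ofNat]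
  -- the kernel line
  obtain ⟨v, hv0, hv⟩ := Matrix.exists_mulVec_eq_zero_iff.2
    (polarMatrix_det_eq_zero (Even.add_one hN) T)
  rw [hH] at hv
  obtain ⟨a0, ha0⟩ : ∃ a, v a ≠ 0 := by
    by_contra h
    push Not at h
    exact hv0 (funext h)
  have hvK : Matrix.mulVec (H.map (algebraMap k K)) (fun a => algebraMap k K (v a)) = 0 := funext fun a => by
    have h := RingHom.map_mulVec (algebraMap k K) H v a
    rw [hv] at h
    simpa [Function.comp_def] using h.symm
  have hline : ∀ x : Fin (N + 1) → k, Matrix.mulVec H x = 0 → ∃ s, x = s • v := fun x hx => by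
    obtain ⟨c, hc⟩ := Morse.exists_smul_of_mem_ker (q := TK) hord (v := fun a => algebraMap k K (v a))
      (w := fun a => algebraMap k K (x a)) (fun h => ha0 ((algebraMap k K).injective (by simpa using congrFun h a0)))
      (by rw [hTK]; exact hvK) (by
        rw [hTK]
        funext a
        have h := RingHom.map_mulVec (algebraMap k K) H x a
        rw [hx] at h
        simpa [Function.comp_def] using h.symm)
    refine ⟨x a0 / v a0, funext fun a => (algebraMap k K).injective ?_⟩
    have h1 : algebraMap k K (x a0) = c * algebraMap k K (v a0) := congrFun hc a0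
    have h2 : algebraMap k K (x a) = c * algebraMap k K (v a) := congrFun hc a
    rw [h2, Pi.smul_apply, smul_eq_mul, map_mul, map_div₀, h1,
      mul_div_cancel_right₀ _ ((map_ne_zero _).2 ha0)]
  have hqv : VanCyc.quadEval T v ≠ 0 := fun h => by
    have h1 : VanCyc.quadEval TK (fun a => algebraMap k K (v a)) = 0 := by
      rw [← map_zero (algebraMap k K), ← h]
      simp [VanCyc.quadEval, TK, map_sum, apply_ite (algebraMap k K)]
    exact ha0 ((algebraMap k K).injective (by simpa using congrFun (hord _ h1 (by rw [hTK]; exact hvK)) a0))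
  -- the change of coordinates
  choose w hw using fun a => residue_surjective (R := A) (v a)
  let L : Matrix (Fin (N + 1)) (Fin (N + 1)) A :=
    Matrix.of fun a b => Fin.cases (w a) (fun j => if a = a0.succAbove j then 1 else 0) b
  have hLdet : IsUnit L.det := by
    refine notMem_maximalIdeal.1 fun h => ?_
    rw [← residue_eq_zero_iff, RingHom.map_det] at h
    obtain ⟨x, hx0, hx⟩ := Matrix.exists_mulVec_eq_zero_iff.2 h
    have hrow : ∀ a, v a * x 0 + ∑ j, (if a = a0.succAbove j then x j.succ else 0) = 0 := fun a => by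
      have h1 := congrFun hx a
      simpa [Matrix.mulVec, dotProduct, Fin.sum_univ_succ, L, hw, apply_ite (residue A), ite_mul] using h1
    have hx00 : x 0 = 0 := by
      have h1 := hrow a0
      rw [Finset.sum_eq_zero fun j _ => if_neg (Fin.succAbove_ne a0 j).symm, add_zero] at h1
      exact (mul_eq_zero.1 h1).resolve_left ha0
    refine hx0 (funext fun i => ?_)
    obtain rfl | ⟨j, rfl⟩ := Fin.eq_zero_or_eq_succ i
    · exact hx00
    · simpa [hx00, Fin.succAbove_right_inj] using hrow (a0.succAbove j)
  let ρ : Coord (N + 1) r → MvPolynomial (Coord (N + 1) r) A :=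
    Sum.elim (fun a => ∑ b, C (L a b) * X (Sum.inl b)) (fun l => X (Sum.inr l))
  let ρ' : Coord (N + 1) r → MvPolynomial (Coord (N + 1) r) A :=
    Sum.elim (fun a => ∑ b, C (L⁻¹ a b) * X (Sum.inl b)) (fun l => X (Sum.inr l))
  have hinv : ∀ (M M' : Matrix (Fin (N + 1)) (Fin (N + 1)) A), M' * M = 1 → ∀ i,
      aeval (Sum.elim (fun a => ∑ b, C (M a b) * X (Sum.inl b)) (fun l => X (Sum.inr l)))
        ((Sum.elim (fun a => ∑ b, C (M' a b) * X (Sum.inl b)) (fun l => X (Sum.inr l)) : Coord (N + 1) r →
          MvPolynomial (Coord (N + 1) r) A) i) = X i := by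
    intro M M' h i
    rcases i with a | l
    · simp only [Sum.elim_inl, map_sum]
      simp only [map_mul, aeval_C, aeval_X, Sum.elim_inl, MvPolynomial.algebraMap_eq, Finset.mul_sum, ← mul_assoc]
      simp only [← map_mul]
      rw [Finset.sum_comm]
      simp only [← Finset.sum_mul, ← map_sum, ← Matrix.mul_apply, h, Matrix.one_apply]
      simp [apply_ite C, ite_mul]
    · simp
  -- the normalisation of the mixed terms
  have hρc : ∀ i, constantCoeff (ρ i) = 0 := fun i => by rcases i with a | l <;> simp [ρ, map_sum]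
  have hcc : ∀ p, constantCoeff (aeval ρ p) = constantCoeff p := fun p => by
    rw [constantCoeff_aeval, funext hρc, eval_zero_fun]
  have hρd : ∀ (i : Coord (N + 1) r) b, pderiv (Sum.inl b) (ρ i) =
      C (Sum.elim (fun a => L a b) (fun _ => 0) i) := fun i b => by
    rcases i with a | l
    · simp [ρ, map_sum, Pi.single_apply, mul_ite]
    · simp [ρ]
  have hd1 : ∀ p b, constantCoeff (pderiv (Sum.inl b) (aeval ρ p)) =
      ∑ a, constantCoeff (pderiv (Sum.inl a) p) * L a b := fun p b => by
    rw [pderiv_aeval, map_sum, Fintype.sum_sum_type]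
    simp [hρd, hcc]
  have hdz : ∀ p l, pderiv (Sum.inr l) (aeval ρ p) = aeval ρ (pderiv (Sum.inr l) p) := fun p l => by
    rw [pderiv_aeval, Fintype.sum_sum_type]
    simp [ρ, map_sum, Pi.single_apply, apply_ite (aeval ρ)]
  let g₀' := aeval ρ g₀
  let g₁' : Fin r → MvPolynomial (Coord (N + 1) r) A := fun l => aeval ρ (g₁ l)
  let hz : Fin r → A := fun l => constantCoeff (pderiv (Sum.inl 0) (pderiv (Sum.inr l) g₀'))
  let g₀'' := g₀' - ∑ l, C (hz l) * X (Sum.inl 0) * g₁' l
  have hpres' : Pres (π.comp (aeval ρ')) P (insert g₀'' (Set.range g₁')) := by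
    refine hpres.change (aeval ρ) (aeval ρ') (aeval_aeval_self ρ ρ' fun i => ?_)
      (aeval_aeval_self ρ' ρ fun i => ?_) hcc ?_ ?_
    · exact hinv L L⁻¹ (Matrix.nonsing_inv_mul _ hLdet) i
    · exact hinv L⁻¹ L (Matrix.mul_nonsing_inv _ hLdet) i
    · rw [Set.image_insert_eq, ← Set.range_comp, Set.insert_subset_iff]
      refine ⟨?_, fun x hx => Ideal.subset_span (Set.mem_insert_of_mem _ hx)⟩
      rw [SetLike.mem_coe, show aeval ρ g₀ = g₀'' + ∑ l, C (hz l) * X (Sum.inl 0) * g₁' l by simp [g₀'', g₀']]
      exact add_mem (Ideal.subset_span (Set.mem_insert _ _)) (Ideal.sum_mem _ fun l _ =>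
        Ideal.mul_mem_left _ _ (Ideal.subset_span (Set.mem_insert_of_mem _ ⟨l, rfl⟩)))
    · rw [Set.image_insert_eq, ← Set.range_comp, Set.insert_subset_iff]
      refine ⟨?_, fun x hx => Ideal.subset_span (Set.mem_insert_of_mem _ hx)⟩
      exact sub_mem (Ideal.subset_span (Set.mem_insert _ _)) (Ideal.sum_mem _ fun l _ =>
        Ideal.mul_mem_left _ _ (Ideal.subset_span (Set.mem_insert_of_mem _ ⟨l, rfl⟩)))
  have hgx' : ∀ l b, residue A (constantCoeff (pderiv (Sum.inl b) (g₁' l))) = 0 := fun l b => by
    simp only [g₁', hd1, map_sum, map_mul, hgx, zero_mul, Finset.sum_const_zero]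
  have hgz' : ∀ l l', residue A (constantCoeff (pderiv (Sum.inr l') (g₁' l))) = if l = l' then 1 else 0 :=
    fun l l' => by simp only [g₁', hdz, hcc, hgz]
  have hgc' : ∀ l, residue A (constantCoeff (g₁' l)) = 0 := fun l => by simp only [g₁', hcc, hgc]
  -- the Hessian
  have hH' : ∀ a b, residue A (constantCoeff (pderiv (Sum.inl a) (pderiv (Sum.inl b) g₀'))) =
      ((L.map (residue A)).transpose * H * L.map (residue A)) a b := fun a b => by
    have hz0 : ∀ (i : Coord (N + 1) r) c, pderiv (Sum.inl a) (pderiv (Sum.inl c) (ρ i)) = 0 :=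
      fun i c => by rw [hρd, pderiv_C]
    simp only [g₀', pderiv_aeval, map_sum, pderiv_mul, hz0, mul_zero, add_zero, Fintype.sum_sum_type, hρd, pderiv_C,
      Sum.elim_inl, Sum.elim_inr, map_zero, Finset.sum_const_zero, map_mul, constantCoeff_C, hcc,
      Finset.sum_mul, Matrix.mul_apply, Matrix.transpose_apply, Matrix.map_apply, H, Matrix.of_apply]
    exact Finset.sum_congr rfl fun i _ => Finset.sum_congr rfl fun j _ => by ring
  have hcol : Matrix.mulVec (L.map (residue A)) (Pi.single 0 1) = v := by
    funext a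
    simp [L, hw]
  have hH0 : ∀ a b, a = 0 ∨ b = 0 → ((L.map (residue A)).transpose * H * L.map (residue A)) a b = 0 := by
    have h0 : ∀ a, ((L.map (residue A)).transpose * H * L.map (residue A)) a 0 = 0 := fun a => by
      have h : Matrix.mulVec ((L.map (residue A)).transpose * H * L.map (residue A)) (Pi.single 0 1) = 0 := by
        rw [← Matrix.mulVec_mulVec, hcol, ← Matrix.mulVec_mulVec, hv, Matrix.mulVec_zero]
      simpa using congrFun h a
    have hsymm : ((L.map (residue A)).transpose * H * L.map (residue A)).transpose =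
        (L.map (residue A)).transpose * H * L.map (residue A) := by
      rw [Matrix.transpose_mul, Matrix.transpose_mul, Matrix.transpose_transpose,
        show H.transpose = H by rw [← hH, ← triu_add_transpose]; simp [add_comm], Matrix.mul_assoc]
    rintro a b (rfl | rfl)
    · rw [← hsymm]; exact h0 b
    · exact h0 a
  refine ⟨r, π.comp (aeval ρ'), g₀'', g₁', hpres', hgx', hgz', hgc', ?_, fun i => ?_, fun j => ?_, ?_, ?_⟩
  · simp [g₀'', g₀', hcc, hc0]
  · rcases i with b | l
    · simp [g₀'', g₀', map_sum, pderiv_mul, hd1, hd0, hgc', apply_ite constantCoeff, apply_ite (residue A), Pi.single_apply]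
    · simp [g₀'', g₀', map_sum, pderiv_mul, hdz, hcc, hd0, hgc']
  · rcases j with b | l
    · change residue A (constantCoeff (pderiv (Sum.inl 0) (pderiv (Sum.inl b.succ) g₀''))) = 0
      simp [g₀'', map_sum, pderiv_mul, hH', hH0, hgx', Fin.succ_ne_zero]
    · change residue A (constantCoeff (pderiv (Sum.inl 0) (pderiv (Sum.inr l) g₀''))) = 0
      simp [g₀'', map_sum, pderiv_mul, hgz', hgx', hgc', hz, mul_ite]
  · rw [isUnit_iff_ne_zero]
    intro hdet
    obtain ⟨x, hx0, hx⟩ := Matrix.exists_mulVec_eq_zero_iff.2 hdet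
    let y : Fin (N + 1) → k := Fin.cons 0 x
    have hy : Matrix.mulVec ((L.map (residue A)).transpose * H * L.map (residue A)) y = 0 := funext fun a => by
      obtain rfl | ⟨a, rfl⟩ := Fin.eq_zero_or_eq_succ a
      · simp [Matrix.mulVec, dotProduct, hH0]
      · have h := congrFun hx a
        simp [Matrix.mulVec, dotProduct, g₀'', map_sum, pderiv_mul, hH', hgx', Fin.succ_ne_zero] at h
        simp [Matrix.mulVec, dotProduct, Fin.sum_univ_succ, y]
        exact h
    have hLk : IsUnit (L.map (residue A)).det := by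
      rw [← RingHom.mapMatrix_apply, ← RingHom.map_det]
      exact hLdet.map _
    have hy' : Matrix.mulVec H (Matrix.mulVec (L.map (residue A)) y) = 0 := by
      refine (Matrix.mulVec_injective_iff_isUnit.2 (((Matrix.isUnit_iff_isUnit_det _).2 (by
        rw [Matrix.det_transpose]; exact hLk)) : IsUnit (L.map (residue A)).transpose)) ?_
      rw [Matrix.mulVec_zero, Matrix.mulVec_mulVec, Matrix.mulVec_mulVec]
      exact hy
    obtain ⟨s, hs⟩ := hline _ hy'
    rw [← hcol, ← Matrix.mulVec_smul] at hs
    have hys := (Matrix.mulVec_injective_iff_isUnit.2 ((Matrix.isUnit_iff_isUnit_det _).2 hLk)) hs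
    exact hx0 (funext fun a => by simpa [y, Fin.succ_ne_zero] using congrFun hys a.succ)
  · have hax : axis g₀' = aeval (fun a => Polynomial.C (w a) * Polynomial.X) (restr g₀) := by
      rw [axis, restr, ← AlgHom.comp_apply, comp_aeval, ← AlgHom.comp_apply, comp_aeval]
      congr 2
      funext i
      rcases i with a | l
      · simp [ρ, L, map_sum, Fin.sum_univ_succ, pt, apply_ite]
      · simp [ρ, pt]
    have hax1 : ∀ l, residue A ((axis (g₁' l)).coeff 1) = 0 := fun l => by rw [(axis_coeff _).2, hgx']
    have hq2 : residue A ((axis g₀'').coeff 2) = residue A ((axis g₀').coeff 2) := by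
      have hX : axis (X (Sum.inl 0) : MvPolynomial (Coord (N + 1) r) A) = Polynomial.X := aeval_X _ _
      have hC : ∀ c, axis (C c : MvPolynomial (Coord (N + 1) r) A) = Polynomial.C c := fun c => by simp [axis]
      simp [g₀'', map_sum, hX, hC, mul_assoc, hax1]
    rw [hq2, hax, coeff_two_line]
    intro h
    apply hqv
    rw [← h]
    simp [VanCyc.quadEval, T, hw, map_sum, apply_ite (residue A)]

end Groth.Agent.QuadHens
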