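import Mathlib
import Groth.Agent.QuadHens.Adapted
import Groth.Agent.Hensel.HenselizationProps

/-!
The family over the henselized line through the kernel of the polar form: its critical point and critical value.
-/

set_option autoImplicit false
set_option linter.style.haveILetI false

universe u

open IsLocalRing MvPolynomial

attribute [-simp] DualNumber.inr_eq_smul_eps MvPolynomial.aeval_eq_bind₁ IsLocalRing.residue_eq_zero_iff

namespace Groth.Agent.QuadHens

variable {A : Type u} [CommRing A]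

theorem exists_param [HenselianLocalRing A] :
    ∃ (A1 : Type u) (_ : CommRing A1) (_ : HenselianLocalRing A1) (_ : Algebra A A1)
      (_ : IsLocalHom (algebraMap A A1)) (τ : A1), τ ∈ maximalIdeal A1 ∧
      (∀ (T : Type u) [CommRing T] [HenselianLocalRing T] [Algebra A T] [IsLocalHom (algebraMap A T)] (t : T),
        t ∈ maximalIdeal T → ∃ η : A1 →ₐ[A] T, η τ = t ∧ (∀ z ∈ maximalIdeal A1, η z ∈ maximalIdeal T) ∧
          ∀ η' : A1 →ₐ[A] T, η' τ = t → η' = η) ∧
      ∀ z : A1, ∃ a : A, z - algebraMap A A1 a ∈ maximalIdeal A1 := by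
  let σ := Fin 1
  let O : Ideal (MvPolynomial σ A) := (maximalIdeal A).comap constantCoeff
  haveI : O.IsPrime := Ideal.IsPrime.comap _
  let L := Localization.AtPrime O
  obtain ⟨hloc₀, hH₀⟩ := Hensel.exists_henselization L
  obtain ⟨A1, _, _, _, hloc, hH⟩ : ∃ (H : Type u) (_ : CommRing H) (_ : IsLocalRing H) (_ : Algebra L H)
      (_ : IsLocalHom (algebraMap L H)), _root_.Hensel.IsHenselization L H :=
    ⟨Hensel.Env L (ResidueField L), inferInstance, inferInstance, inferInstance, hloc₀, hH₀⟩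
  haveI := hloc
  haveI := hH
  haveI : HenselianLocalRing A1 := hH.henselian
  letI : Algebra A A1 := ((algebraMap L A1).comp (algebraMap A L)).toAlgebra
  haveI : IsScalarTower A L A1 := IsScalarTower.of_algebraMap_eq' rfl
  have hp : Pres (AlgHom.id A (MvPolynomial σ A)) O ∅ :=
    { surj := fun y => ⟨y, rfl⟩
      mem_iff := fun p => Iff.rfl
      vanish := fun f hf => absurd hf (Set.notMem_empty f)
      gen := fun f hf => ⟨1, by simp, by simp [show f = 0 from hf]⟩ }
  haveI hl := isLocalHom_base hp A1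
  refine ⟨A1, inferInstance, inferInstance, inferInstance, hl, taut (P := O) A1 (AlgHom.id A _) 0,
    (isPt_taut hp A1).1 0, fun T _ _ _ _ t ht => ?_, fun z => ?_⟩
  · obtain ⟨η, hη, hηm, hu⟩ := existsUnique_hom hp A1 (fun _ => t) ⟨fun _ => ht, fun f hf => absurd hf (Set.notMem_empty f)⟩
    exact ⟨η, hη 0, hηm, fun η' h' => hu η' fun i => by rw [Fin.fin_one_eq_zero i]; exact h'⟩
  · obtain ⟨y, hy⟩ := Hensel.henselization_exists_sub_mem L A1 z
    obtain ⟨⟨p, s⟩, hps⟩ := IsLocalization.surj O.primeCompl y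
    obtain ⟨e, he⟩ := (notMem_maximalIdeal.1 (s.2 : constantCoeff (s : MvPolynomial σ A) ∉ maximalIdeal A))
    refine ⟨constantCoeff p * ↑e⁻¹, ?_⟩
    have hc : ∀ q : MvPolynomial σ A, algebraMap L A1 (algebraMap _ L q) -
        algebraMap A A1 (constantCoeff q) ∈ maximalIdeal A1 := fun q => by
      have h := residue_aeval (isPt_taut hp A1).1 q
      rw [algebraMap_aeval] at h
      exact Ideal.Quotient.eq.1 h
    have h1 : residue A1 (algebraMap L A1 y) * residue A1 (algebraMap A A1 (constantCoeff (s : MvPolynomial σ A))) =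
        residue A1 (algebraMap A A1 (constantCoeff p)) := by
      have h := congrArg (fun z => residue A1 (algebraMap L A1 z)) hps
      simp only [map_mul] at h
      rw [show residue A1 (algebraMap L A1 (algebraMap _ L (s : MvPolynomial σ A))) = _ from Ideal.Quotient.eq.2 (hc s),
        show residue A1 (algebraMap L A1 (algebraMap _ L p)) = _ from Ideal.Quotient.eq.2 (hc p)] at h
      exact h
    rw [← residue_eq_zero_iff, map_sub, sub_eq_zero]
    have h2 : residue A1 z = residue A1 (algebraMap L A1 y) := Ideal.Quotient.eq.2 hy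
    rw [h2, map_mul (algebraMap A A1), map_mul (residue A1), ← h1, mul_assoc, ← map_mul (residue A1),
      ← map_mul (algebraMap A A1), ← he, Units.mul_inv, map_one, map_one, mul_one]

variable {N r : ℕ}

/-- The equations of a critical point of the family at the parameter `ω`. -/
noncomputable def critVal (g₀ : MvPolynomial (Coord (N + 1) r) A) (g₁ : Fin r → MvPolynomial (Coord (N + 1) r) A)
    {S : Type*} [CommRing S] [Algebra A S] (ω : S) (w : Coord N r ⊕ Fin r → S) : Coord N r ⊕ Fin r → S :=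
  Sum.elim (fun i => aeval (pt ω (w ∘ Sum.inl)) (pderiv (emb i) g₀) -
    ∑ l, w (Sum.inr l) * aeval (pt ω (w ∘ Sum.inl)) (pderiv (emb i) (g₁ l)))
    (fun l => aeval (pt ω (w ∘ Sum.inl)) (g₁ l))

theorem aeval_pt_map {S T : Type*} [CommRing S] [Algebra A S] [CommRing T] [Algebra A T] (f : S →ₐ[A] T) (ω : S)
    (w : Coord N r → S) (p : MvPolynomial (Coord (N + 1) r) A) :
    f (aeval (pt ω w) p) = aeval (pt (f ω) (f ∘ w)) p := by
  rw [← comp_pt, ← AlgHom.comp_apply, comp_aeval]
  rfl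

theorem critVal_map {g₀ : MvPolynomial (Coord (N + 1) r) A} {g₁ : Fin r → MvPolynomial (Coord (N + 1) r) A}
    {S T : Type*} [CommRing S] [Algebra A S] [CommRing T] [Algebra A T] (f : S →ₐ[A] T) (ω : S)
    (w : Coord N r ⊕ Fin r → S) (i) : f (critVal g₀ g₁ ω w i) = critVal g₀ g₁ (f ω) (f ∘ w) i := by
  rcases i with i | l
  · simp only [critVal, Sum.elim_inl, map_sub, map_sum, map_mul, aeval_pt_map]
    rfl
  · simp only [critVal, Sum.elim_inr, aeval_pt_map]
    rfl

theorem isLocalHom_of_map_eq_zero [IsLocalRing A] {T : Type*} [CommRing T] [Nontrivial T] [Algebra A T]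
    (h : ∀ a ∈ maximalIdeal A, algebraMap A T a = 0) : IsLocalHom (algebraMap A T) :=
  ⟨fun a ha => by
    by_contra hc
    exact ha.ne_zero (h a hc)⟩

variable {g₀ : MvPolynomial (Coord (N + 1) r) A} {g₁ : Fin r → MvPolynomial (Coord (N + 1) r) A}

section Family

variable [IsLocalRing A] (hg : Adapted g₀ g₁) {T : Type u} [CommRing T] [HenselianLocalRing T] [Algebra A T]
  [IsLocalHom (algebraMap A T)] {ω : T} (hω : ω ∈ maximalIdeal T)

include hω in
theorem residue_sbst (p : MvPolynomial (Coord (N + 1) r) A) :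
    residue T (constantCoeff (sbst ω p)) = residue T (algebraMap A T (constantCoeff p)) := by
  rw [← eval_zero_fun, eval_sbst]
  exact residue_aeval (forall_coord.2 ⟨hω, fun j => by rw [pt_emb]; exact Ideal.zero_mem _⟩) p

theorem residue_algebraMap_eq_zero {a : A} (h : residue A a = 0) : residue T (algebraMap A T a) = 0 := by
  rw [residue_eq_zero_iff] at h ⊢
  exact map_nonunit _ _ h

include hg hω in
theorem family_hyps :
    (∀ l a, residue T (constantCoeff (pderiv (Sum.inl a) (sbst ω (g₁ l)))) = 0) ∧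
    (∀ l l', residue T (constantCoeff (pderiv (Sum.inr l') (sbst ω (g₁ l)))) = if l = l' then 1 else 0) ∧
    (∀ l, residue T (constantCoeff (sbst ω (g₁ l))) = 0) ∧
    (∀ i : Coord N r, residue T (constantCoeff (pderiv i (sbst ω g₀))) = 0) ∧
    residue T (constantCoeff (sbst ω g₀)) = 0 ∧
    IsUnit (Matrix.of fun a b : Fin N =>
      residue T (constantCoeff (pderiv (Sum.inl a) (pderiv (Sum.inl b) (sbst ω g₀))))).det := by
  have hz : ∀ {a}, residue A a = 0 → residue T (algebraMap A T a) = 0 := fun h => residue_algebraMap_eq_zero h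
  refine ⟨fun l a => ?_, fun l l' => ?_, fun l => ?_, fun i => ?_, ?_, ?_⟩
  · rw [pderiv_sbst, residue_sbst hω]
    exact hz (hg.gx l _)
  · rw [pderiv_sbst, residue_sbst hω]
    have h : residue A (constantCoeff (pderiv (emb (Sum.inr l' : Coord N r)) (g₁ l)) - if l = l' then 1 else 0) = 0 := by
      rw [map_sub, show emb (Sum.inr l' : Coord N r) = Sum.inr l' from rfl, hg.gz]
      split_ifs <;> simp
    have h2 := hz h
    rw [map_sub, map_sub, sub_eq_zero] at h2
    rw [h2]
    split_ifs <;> simp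
  · rw [residue_sbst hω]
    exact hz (hg.gc l)
  · rw [pderiv_sbst, residue_sbst hω]
    exact hz (hg.d0 _)
  · rw [residue_sbst hω]
    exact hz hg.c0
  · have h := hg.det.map (ResidueField.map (algebraMap A T))
    rw [RingHom.map_det] at h
    convert h using 2
    ext a b
    simp only [Matrix.of_apply, RingHom.mapMatrix_apply, Matrix.map_apply, pderiv_sbst, residue_sbst hω,
      ResidueField.map_residue]
    rfl

theorem isCrit_iff (w : Coord N r ⊕ Fin r → T) :
    IsCrit (sbst ω g₀) (fun l => sbst ω (g₁ l)) w ↔ ∀ i, critVal g₀ g₁ ω w i = 0 := by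
  simp only [IsCrit, Sum.forall, critVal, Sum.elim_inl, Sum.elim_inr, pderiv_sbst, eval_sbst]

include hg hω in
theorem existsUnique_critVal :
    ∃! w : Coord N r ⊕ Fin r → T, (∀ i, critVal g₀ g₁ ω w i = 0) ∧ ∀ i, w i ∈ maximalIdeal T := by
  obtain ⟨h1, h2, h3, h4, -, h6⟩ := family_hyps hg hω
  simpa only [isCrit_iff] using existsUnique_crit h1 h2 h3 h4 _ (fun a b => rfl) h6

include hg hω in
theorem exists_family_nf (w : Coord N r ⊕ Fin r → T) (hw : ∀ i, critVal g₀ g₁ ω w i = 0)
    (hwm : ∀ i, w i ∈ maximalIdeal T) :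
    ∃ D : NF T N r,
      (∀ l, D.g MvPolynomial.X l = aeval (fun i => X i + C (w (Sum.inl i))) (sbst ω (g₁ l))) ∧
      D.g0 MvPolynomial.X = aeval (fun i => X i + C (w (Sum.inl i))) (sbst ω g₀) -
        ∑ l, C (w (Sum.inr l)) * aeval (fun i => X i + C (w (Sum.inl i))) (sbst ω (g₁ l)) ∧
      D.b = aeval (pt ω (w ∘ Sum.inl)) g₀ := by
  obtain ⟨h1, h2, h3, h4, h5, h6⟩ := family_hyps hg hω
  obtain ⟨D, e1, e2, e3⟩ := exists_nf h1 h2 h3 h4 _ (fun a b => rfl) h6 h5 w hwm ((isCrit_iff w).2 hw)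
  exact ⟨D, e1, e2, e3.trans (eval_sbst ω _ g₀)⟩

end Family

/-- Change of coefficients of a quadratic algebra. -/
def qmap {R T : Type u} [CommRing R] [CommRing T] [Algebra A R] [Algebra A T] (f : R →ₐ[A] T) {a b : R}
    {a' b' : T} (ha : f a = a') (hb : f b = b') : QuadraticAlgebra R a b →ₐ[A] QuadraticAlgebra T a' b' where
  toFun z := ⟨f z.re, f z.im⟩
  map_one' := by ext <;> simp [QuadraticAlgebra.re_one, QuadraticAlgebra.im_one]
  map_mul' x y := by
    subst ha hb
    ext <;> simp [map_add, map_mul]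
  map_zero' := by ext <;> simp
  map_add' x y := by ext <;> simp
  commutes' c := by
    ext
    · change f (algebraMap A R c) = algebraMap A T c
      exact f.commutes c
    · change f 0 = 0
      exact map_zero f

section System

variable [IsLocalRing A]

local notation "κ" => ResidueField A
local notation "𝔻" => DualNumber (ResidueField A)

open TrivSqZeroExt (inl inr)

theorem algebraMap_quad (a b : 𝔻) (c : A) :
    algebraMap A (QuadraticAlgebra 𝔻 a b) c = ⟨inl (residue A c), 0⟩ := by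
  refine QuadraticAlgebra.ext ?_ rfl
  change algebraMap A 𝔻 c = _
  rw [TrivSqZeroExt.algebraMap_eq_inl']
  rfl

theorem algebraMap_quad_zero {a b : 𝔻} {c : A} (h : residue A c = 0) :
    algebraMap A (QuadraticAlgebra 𝔻 a b) c = 0 := by
  rw [algebraMap_quad, h, TrivSqZeroExt.inl_zero]
  rfl

/-- The value of the family at a first order deformation of the double point. -/
theorem g₀_dual (hg : Adapted g₀ g₁) (β γ : κ) (u v : Coord N r → κ)
    (h : aeval (pt (⟨0, 1⟩ : QuadraticAlgebra 𝔻 (inr γ) (inr β))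
      (fun j => (⟨inr (u j), inr (v j)⟩ : QuadraticAlgebra 𝔻 (inr γ) (inr β)))) g₀ = 0) : γ = 0 ∧ β = 0 := by
  let S := QuadraticAlgebra 𝔻 (inr γ) (inr β)
  let w : Coord N r → S := fun j => ⟨inr (u j), inr (v j)⟩
  obtain ⟨s, hs⟩ := aeval_pt (⟨0, 1⟩ : S) w (fun i j => by
      ext <;> simp [w, TrivSqZeroExt.inr_mul_inr, mul_assoc])
    (fun j => by ext <;> simp [w, pow_two, TrivSqZeroExt.inr_mul_inr, mul_assoc]) g₀
  rw [h, Fintype.sum_eq_zero _ fun j => by
    simp [algebraMap_quad_zero (hg.d0 _), algebraMap_quad_zero (hg.h0 _)]] at hs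
  simp only [algebraMap_quad_zero hg.c0, algebraMap_quad_zero (hg.d0 _), zero_mul, zero_add, add_zero] at hs
  rw [algebraMap_quad] at hs
  have hre := congrArg (fun z : S => z.re.snd) hs
  have him := congrArg (fun z : S => z.im.snd) hs
  simp [pow_succ, TrivSqZeroExt.inr_mul_inr, mul_assoc] at hre him
  have hγ : γ = 0 := hre.resolve_left hg.q
  subst hγ
  simp at him
  exact ⟨rfl, him.resolve_left hg.q⟩

theorem sum_mk {ι : Type*} {a b : 𝔻} (s : Finset ι) (f g : ι → 𝔻) :
    ∑ j ∈ s, (⟨f j, g j⟩ : QuadraticAlgebra 𝔻 a b) = ⟨∑ j ∈ s, f j, ∑ j ∈ s, g j⟩ := by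
  classical
  induction s using Finset.induction_on with
  | empty => rfl
  | insert i s hi ih =>
    rw [Finset.sum_insert hi, Finset.sum_insert hi, Finset.sum_insert hi, ih]
    rfl

theorem mul_dual {a b : 𝔻} (ha : a = 0) (hb : b = 0) (u v x x' y y' : κ) :
    (⟨inr u, inr v⟩ : QuadraticAlgebra 𝔻 a b) * ⟨inl x + inr x', inl y + inr y'⟩ =
      ⟨inr (x * u), inr (x * v + y * u)⟩ := by
  subst ha hb
  refine QuadraticAlgebra.ext (TrivSqZeroExt.ext ?_ ?_) (TrivSqZeroExt.ext ?_ ?_) <;> simp <;> ring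

theorem expand_dual {a b : 𝔻} (ha : a = 0) (hb : b = 0) (u v : Coord N r → κ)
    (p : MvPolynomial (Coord (N + 1) r) A) :
    aeval (pt (⟨0, 1⟩ : QuadraticAlgebra 𝔻 a b) (fun j => (⟨inr (u j), inr (v j)⟩ : QuadraticAlgebra 𝔻 a b))) p =
      ⟨inl (residue A (constantCoeff p)) + inr (∑ j, residue A (constantCoeff (pderiv (emb j) p)) * u j),
        inl (residue A (constantCoeff (pderiv (Sum.inl 0) p))) +
          inr (∑ j, (residue A (constantCoeff (pderiv (emb j) p)) * v j +
            residue A (constantCoeff (pderiv (Sum.inl 0) (pderiv (emb j) p))) * u j))⟩ := by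
  subst ha hb
  obtain ⟨s, hs⟩ := aeval_pt (⟨0, 1⟩ : QuadraticAlgebra 𝔻 0 0)
    (fun j => (⟨inr (u j), inr (v j)⟩ : QuadraticAlgebra 𝔻 0 0))
    (fun i j => by ext <;> simp [TrivSqZeroExt.inr_mul_inr])
    (fun j => by ext <;> simp [pow_two]) p
  have hω2 : (⟨0, 1⟩ : QuadraticAlgebra 𝔻 0 0) ^ 2 = 0 := by ext <;> simp [pow_two]
  have hlinA : ∀ c e : A, algebraMap A (QuadraticAlgebra 𝔻 0 0) c + algebraMap A _ e * ⟨0, 1⟩ =
      (⟨inl (residue A c) + inr 0, inl (residue A e) + inr 0⟩ : QuadraticAlgebra 𝔻 0 0) := fun c e => by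
    ext <;> simp [algebraMap_quad]
  rw [hs, hω2, pow_succ, hω2, zero_mul, mul_zero, mul_zero, add_zero, add_zero, hlinA]
  simp only [hlinA, mul_dual rfl rfl, sum_mk]
  ext <;> simp [TrivSqZeroExt.fst_sum, TrivSqZeroExt.snd_sum]

theorem lin_inj (hg : Adapted g₀ g₁) (u : Coord N r → κ) (μ : Fin r → κ)
    (hE : ∀ l, ∑ j, residue A (constantCoeff (pderiv (emb j) (g₁ l))) * u j = 0)
    (hH : ∀ i : Coord N r, (∑ j, residue A (constantCoeff (pderiv (emb j) (pderiv (emb i) g₀))) * u j) -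
      ∑ l, μ l * residue A (constantCoeff (pderiv (emb i) (g₁ l))) = 0) : u = 0 ∧ μ = 0 := by
  have huz : ∀ l, u (Sum.inr l) = 0 := fun l => by
    simpa [Fintype.sum_sum_type, emb, hg.gx, hg.gz, ite_mul] using hE l
  have hux : (fun a => u (Sum.inl a)) = 0 := by
    by_contra hc
    refine hg.det.ne_zero (Matrix.exists_vecMul_eq_zero_iff.1 ⟨_, hc, funext fun b => ?_⟩)
    have h := hH (Sum.inl b)
    simp [Fintype.sum_sum_type, emb, hg.gx, huz] at h
    rw [Matrix.vecMul, dotProduct, Pi.zero_apply, ← h]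
    exact Finset.sum_congr rfl fun a _ => mul_comm _ _
  have hu : u = 0 := funext fun j => by
    rcases j with a | l
    exacts [congrFun hux a, huz l]
  refine ⟨hu, funext fun l => ?_⟩
  simpa [hu, emb, hg.gz, mul_ite] using hH (Sum.inr l)

set_option maxHeartbeats 1000000 in
/-- The double point deforms: there is a monic quadratic polynomial in the parameter modulo which the critical
point lies on the family. -/
theorem exists_double_point [HenselianLocalRing A] (hg : Adapted g₀ g₁) :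
    ∃ (β γ : A) (w : Coord N r ⊕ Fin r → QuadraticAlgebra A (-γ) (-β)), β ∈ maximalIdeal A ∧ γ ∈ maximalIdeal A ∧
      (∀ i, (w i).re ∈ maximalIdeal A ∧ (w i).im ∈ maximalIdeal A) ∧
      (∀ i, critVal g₀ g₁ QuadraticAlgebra.omega w i = 0) ∧
      aeval (pt QuadraticAlgebra.omega (w ∘ Sum.inl)) g₀ = 0 := by
  classical
  let U := Coord N r ⊕ Fin r
  let I := Fin 2 ⊕ (U ⊕ U)
  let R := MvPolynomial I A
  let SR := QuadraticAlgebra R (-X (Sum.inl 1)) (-X (Sum.inl 0))
  let wR : U → SR := fun i => ⟨X (Sum.inr (Sum.inl i)), X (Sum.inr (Sum.inr i))⟩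
  let eR : SR := aeval (pt QuadraticAlgebra.omega (wR ∘ Sum.inl)) g₀
  let cR : U → SR := critVal g₀ g₁ QuadraticAlgebra.omega wR
  let G : I → R := Sum.elim (fun k => if k = 0 then eR.re else eR.im)
    (Sum.elim (fun i => (cR i).re) (fun i => (cR i).im))
  let φ : (I → κ) → (R →ₐ[A] 𝔻) := fun v =>
    { eval₂Hom (dualMap A) (dualPt v) with
      commutes' := fun c => by
        change eval₂ (dualMap A) (dualPt v) (C c) = _
        rw [eval₂_C, TrivSqZeroExt.algebraMap_eq_inl']
        rfl }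
  have hφX : ∀ v i, φ v (X i) = inr (v i) := fun v i => eval₂_X _ _ i
  have key : ∀ v : I → κ,
      (v = 0 → ∀ i, φ v (G i) = 0) ∧ ((∀ i, φ v (G i) = 0) → v = 0) := by
    intro v
    let a : 𝔻 := inr (-v (Sum.inl 1))
    let b : 𝔻 := inr (-v (Sum.inl 0))
    let S := QuadraticAlgebra 𝔻 a b
    let Φ : SR →ₐ[A] S := qmap (φ v) (by rw [map_neg, hφX]; simp [a]) (by rw [map_neg, hφX]; simp [b])
    let u : U → κ := fun i => v (Sum.inr (Sum.inl i))
    let u' : U → κ := fun i => v (Sum.inr (Sum.inr i))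
    have hω : Φ QuadraticAlgebra.omega = (⟨0, 1⟩ : S) := QuadraticAlgebra.ext (map_zero _) (map_one _)
    have hw : Φ ∘ wR = fun i => (⟨inr (u i), inr (u' i)⟩ : S) :=
      funext fun i => QuadraticAlgebra.ext (hφX _ _) (hφX _ _)
    have he : Φ eR = aeval (pt (⟨0, 1⟩ : S) fun j => (⟨inr (u (Sum.inl j)), inr (u' (Sum.inl j))⟩ : S)) g₀ := by
      rw [aeval_pt_map, hω, ← Function.comp_assoc, hw]
      rfl
    have hc : ∀ i, Φ (cR i) = critVal g₀ g₁ (⟨0, 1⟩ : S) (fun i => (⟨inr (u i), inr (u' i)⟩ : S)) i := fun i => by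
      rw [critVal_map, hω, hw]
    have hG : (∀ i, φ v (G i) = 0) ↔ Φ eR = 0 ∧ ∀ i, Φ (cR i) = 0 := by
      refine ⟨fun h => ⟨QuadraticAlgebra.ext (h (Sum.inl 0)) (h (Sum.inl 1)), fun i =>
        QuadraticAlgebra.ext (h (Sum.inr (Sum.inl i))) (h (Sum.inr (Sum.inr i)))⟩, fun h i => ?_⟩
      rcases i with k | i | i
      · change φ v (if k = 0 then eR.re else eR.im) = 0
        split_ifs
        exacts [congrArg QuadraticAlgebra.re h.1, congrArg QuadraticAlgebra.im h.1]
      · exact congrArg QuadraticAlgebra.re (h.2 i)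
      · exact congrArg QuadraticAlgebra.im (h.2 i)
    -- the linearised equations, once the double point stays
    have hlin : a = 0 → b = 0 → ∀ i, Φ (cR i) =
        Sum.elim (fun i => (⟨inr ((∑ j, residue A (constantCoeff (pderiv (emb j) (pderiv (emb i) g₀))) * u (Sum.inl j)) -
            ∑ l, u (Sum.inr l) * residue A (constantCoeff (pderiv (emb i) (g₁ l)))),
          inr ((∑ j, (residue A (constantCoeff (pderiv (emb j) (pderiv (emb i) g₀))) * u' (Sum.inl j) +
              residue A (constantCoeff (pderiv (Sum.inl 0) (pderiv (emb j) (pderiv (emb i) g₀)))) * u (Sum.inl j))) -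
            ∑ l, (u' (Sum.inr l) * residue A (constantCoeff (pderiv (emb i) (g₁ l))) +
              u (Sum.inr l) * residue A (constantCoeff (pderiv (Sum.inl 0) (pderiv (emb i) (g₁ l))))))⟩ : S))
          (fun l => (⟨inr (∑ j, residue A (constantCoeff (pderiv (emb j) (g₁ l))) * u (Sum.inl j)),
            inr (∑ j, (residue A (constantCoeff (pderiv (emb j) (g₁ l))) * u' (Sum.inl j) +
              residue A (constantCoeff (pderiv (Sum.inl 0) (pderiv (emb j) (g₁ l)))) * u (Sum.inl j)))⟩ : S)) i := by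
      intro ha hb i
      rw [hc]
      rcases i with i | l
      · simp only [critVal, Sum.elim_inl, Function.comp_def]
        simp only [expand_dual ha hb (fun j => u (Sum.inl j)) (fun j => u' (Sum.inl j))]
        simp only [mul_dual ha hb, sum_mk]
        simp only [hg.d0, hg.h0, TrivSqZeroExt.inl_zero, zero_add,
          ← TrivSqZeroExt.inrHom_apply, ← map_sum]
        refine QuadraticAlgebra.ext ?_ ?_
        · change _ - _ = _
          rw [← map_sub]
          simp only [mul_comm]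
        · change _ - _ = _
          rw [← map_sub]
          simp only [mul_comm]
      · simp only [critVal, Sum.elim_inr, Function.comp_def]
        simp only [expand_dual ha hb (fun j => u (Sum.inl j)) (fun j => u' (Sum.inl j)), hg.gc, hg.gx,
          TrivSqZeroExt.inl_zero, zero_add]
    refine ⟨fun hv => hG.2 ?_, fun h => ?_⟩
    · subst hv
      have ha : a = 0 := by simp [a]
      have hb : b = 0 := by simp [b]
      refine ⟨?_, fun i => ?_⟩
      · rw [he, expand_dual ha hb]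
        ext <;> simp [u, u', hg.c0, hg.d0]
      · rw [hlin ha hb]
        rcases i with i | l <;> ext <;> simp [u, u']
    · obtain ⟨h0, hall⟩ := hG.1 h
      rw [he] at h0
      obtain ⟨hγ, hβ⟩ := g₀_dual hg _ _ _ _ h0
      have ha : a = 0 := by simp only [a, hγ, TrivSqZeroExt.inr_zero]
      have hb : b = 0 := by simp only [b, hβ, TrivSqZeroExt.inr_zero]
      have hi : ∀ i : Coord N r, _ = (0 : S) := fun i => (hlin ha hb (Sum.inl i)).symm.trans (hall _)
      have hl : ∀ l, _ = (0 : S) := fun l => (hlin ha hb (Sum.inr l)).symm.trans (hall _)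
      obtain ⟨hu, hμ⟩ := lin_inj hg (fun j => u (Sum.inl j)) (fun l => u (Sum.inr l))
        (fun l => by simpa using congrArg (fun z : S => z.re.snd) (hl l))
        (fun i => by simpa using congrArg (fun z : S => z.re.snd) (hi i))
      have hu0 : ∀ j, u (Sum.inl j) = 0 := congrFun hu
      have hμ0 : ∀ l, u (Sum.inr l) = 0 := congrFun hμ
      obtain ⟨hu', hμ'⟩ := lin_inj hg (fun j => u' (Sum.inl j)) (fun l => u' (Sum.inr l))
        (fun l => by simpa [hu0] using congrArg (fun z : S => z.im.snd) (hl l))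
        (fun i => by simpa [hu0, hμ0] using congrArg (fun z : S => z.im.snd) (hi i))
      funext i
      rcases i with k | (j | l) | (j | l)
      · fin_cases k
        · exact neg_eq_zero.1 hβ
        · exact neg_eq_zero.1 hγ
      · exact hu0 j
      · exact hμ0 l
      · exact congrFun hu' j
      · exact congrFun hμ' l
  obtain ⟨c, ⟨hc, hcm⟩, -⟩ := existsUnique_zero G (fun i => by
      have h : φ 0 (G i) = 0 := (key 0).1 rfl i
      change eval₂ (dualMap A) (dualPt 0) (G i) = 0 at h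
      rw [eval₂_dualPt] at h
      rw [← residue_eq_zero_iff]
      simpa using congrArg TrivSqZeroExt.fst h)
    fun v hv => (key v).2 hv
  refine ⟨c (Sum.inl 0), c (Sum.inl 1), fun i => ⟨c (Sum.inr (Sum.inl i)), c (Sum.inr (Sum.inr i))⟩,
    hcm _, hcm _, fun i => ⟨hcm _, hcm _⟩, ?_⟩
  let S := QuadraticAlgebra A (-c (Sum.inl 1)) (-c (Sum.inl 0))
  let Φ : SR →ₐ[A] S := qmap (aeval c) (by simp) (by simp)
  have hω : Φ QuadraticAlgebra.omega = QuadraticAlgebra.omega := QuadraticAlgebra.ext (map_zero _) (map_one _)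
  have hw : Φ ∘ wR = fun i => (⟨c (Sum.inr (Sum.inl i)), c (Sum.inr (Sum.inr i))⟩ : S) :=
    funext fun i => QuadraticAlgebra.ext (aeval_X _ _) (aeval_X _ _)
  have hc' : ∀ i, aeval c (G i) = 0 := fun i => by rw [aeval_eq_eval]; exact hc i
  constructor
  · intro i
    have h : Φ (cR i) = 0 := QuadraticAlgebra.ext (hc' (Sum.inr (Sum.inl i))) (hc' (Sum.inr (Sum.inr i)))
    rwa [critVal_map, hω, hw] at h
  · have h : Φ eR = 0 := QuadraticAlgebra.ext (hc' (Sum.inl 0)) (hc' (Sum.inl 1))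
    rw [aeval_pt_map, hω, ← Function.comp_assoc, hw] at h
    exact h

end System

section Unit

/-- The origin is a first order critical point. -/
theorem critVal_origin [IsLocalRing A] (hg : Adapted g₀ g₁) {S : Type u} [CommRing S] [Algebra A S] {e : S} (he : e ^ 2 = 0)
    (h0 : ∀ a ∈ maximalIdeal A, algebraMap A S a = 0) (i : Coord N r ⊕ Fin r) :
    critVal g₀ g₁ e (fun _ => (0 : S)) i = 0 := by
  have hzero : ∀ a, residue A a = 0 → algebraMap A S a = 0 := fun a ha => h0 a ((residue_eq_zero_iff a).1 ha)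
  have hex : ∀ p : MvPolynomial (Coord (N + 1) r) A, aeval (pt e (fun _ : Coord N r => (0 : S))) p =
      algebraMap A S (constantCoeff p) + algebraMap A S (constantCoeff (pderiv (Sum.inl 0) p)) * e := fun p => by
    obtain ⟨s, hs⟩ := aeval_pt e (fun _ : Coord N r => (0 : S)) (by simp) (by simp) p
    rw [hs]
    simp [he, pow_succ e 2]
  rcases i with i | l
  · simp [critVal, Function.comp_def, hex, hzero _ (hg.d0 _), hzero _ (hg.h0 _)]
  · simp [critVal, Function.comp_def, hex, hzero _ (hg.gc _), hzero _ (hg.gx _ _)]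

open Polynomial in
/-- The residue field with a parameter of order three. -/
theorem exists_cube_zero (A : Type u) [CommRing A] [HenselianLocalRing A] :
    ∃ (T : Type u) (_ : CommRing T) (_ : HenselianLocalRing T) (_ : Algebra A T) (_ : IsLocalHom (algebraMap A T))
      (ε : T), ε ∈ maximalIdeal T ∧ ε ^ 3 = 0 ∧ (∀ a ∈ maximalIdeal A, algebraMap A T a = 0) ∧
      (∀ x ∈ maximalIdeal T, ∃ y, x = ε * y) ∧ ∀ c, residue A c ≠ 0 → algebraMap A T c * ε ^ 2 ≠ 0 := by
  let k := ResidueField A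
  let I : Ideal (Polynomial k) := Ideal.span {Polynomial.X ^ 3}
  let T := Polynomial k ⧸ I
  let ε : T := Ideal.Quotient.mk I Polynomial.X
  have hε3 : ε ^ 3 = 0 := by
    rw [← map_pow]
    exact Ideal.Quotient.eq_zero_iff_mem.2 (Ideal.mem_span_singleton_self _)
  have hu : ∀ p : Polynomial k, p.coeff 0 ≠ 0 → IsUnit (Ideal.Quotient.mk I p) := fun p hp => by
    rw [← Polynomial.divX_mul_X_add p, map_add, map_mul]
    refine IsNilpotent.isUnit_add_right_of_commute ⟨3, ?_⟩ ((isUnit_iff_ne_zero.2 hp).map ((Ideal.Quotient.mk I).comp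
      Polynomial.C)) (Commute.all _ _)
    rw [mul_pow, hε3, mul_zero]
  have hI1 : (1 : Polynomial k) ∉ I := fun h => by
    rw [Ideal.mem_span_singleton, Polynomial.X_pow_dvd_iff] at h
    simpa using h 0 (by norm_num)
  haveI : Nontrivial T := Ideal.Quotient.nontrivial_iff.2 fun h => hI1 (h ▸ Submodule.mem_top)
  haveI : IsLocalRing T := IsLocalRing.of_isUnit_or_isUnit_one_sub_self fun x => by
    obtain ⟨p, rfl⟩ := Ideal.Quotient.mk_surjective x
    by_cases hp : p.coeff 0 = 0
    · exact Or.inr (by rw [← map_one (Ideal.Quotient.mk I), ← map_sub]; exact hu _ (by simp [hp]))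
    · exact Or.inl (hu p hp)
  haveI : Module.Finite k T := (Polynomial.monic_X_pow 3).finite_quotient
  haveI : HenselianLocalRing T := Hensel.henselianLocalRing_finite k T
  have hA0 : ∀ a ∈ maximalIdeal A, algebraMap A T a = 0 := fun a ha => by
    rw [IsScalarTower.algebraMap_apply A k T, show algebraMap A k a = 0 from (residue_eq_zero_iff a).2 ha, map_zero]
  haveI := isLocalHom_of_map_eq_zero hA0
  have hmax : ∀ x ∈ maximalIdeal T, ∃ y, x = ε * y := fun x hx => by
    obtain ⟨p, rfl⟩ := Ideal.Quotient.mk_surjective x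
    refine ⟨Ideal.Quotient.mk I p.divX, ?_⟩
    have h0 : p.coeff 0 = 0 := by
      by_contra h
      exact hx (hu p h)
    rw [← map_mul, mul_comm]
    conv_lhs => rw [← Polynomial.divX_mul_X_add p, h0, map_zero, add_zero]
  have hεm : ε ∈ maximalIdeal T := fun h => (h.pow 3).ne_zero hε3
  refine ⟨T, inferInstance, inferInstance, inferInstance, inferInstance, ε, hεm, hε3, hA0, hmax, fun c hc h => hc ?_⟩
  have h1 : Ideal.Quotient.mk I (Polynomial.C (residue A c) * Polynomial.X ^ 2) = 0 := by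
    rw [map_mul, map_pow, ← h]
    rfl
  rw [Ideal.Quotient.eq_zero_iff_mem, Ideal.mem_span_singleton, Polynomial.X_pow_dvd_iff] at h1
  simpa using h1 2 (by norm_num)

/-- The critical value of the family has order exactly two along the parameter. -/
theorem exists_order_two [HenselianLocalRing A] (hg : Adapted g₀ g₁) :
    ∃ (T : Type u) (_ : CommRing T) (_ : HenselianLocalRing T) (_ : Algebra A T) (_ : IsLocalHom (algebraMap A T))
      (ε : T), ε ∈ maximalIdeal T ∧ (∀ x ∈ maximalIdeal T, ε ^ 2 * x = 0) ∧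
      (∀ a ∈ maximalIdeal A, algebraMap A T a = 0) ∧
      ∀ w : Coord N r ⊕ Fin r → T, (∀ i, w i ∈ maximalIdeal T) → (∀ i, critVal g₀ g₁ ε w i = 0) →
        aeval (pt ε (w ∘ Sum.inl)) g₀ ≠ 0 := by
  obtain ⟨T, _, _, _, _, ε, hεm, hε3, hA0, hmax, hne2⟩ := exists_cube_zero A
  refine ⟨T, inferInstance, inferInstance, inferInstance, inferInstance, ε, hεm, fun x hx => ?_, hA0,
    fun w hw hw0 => ?_⟩
  · obtain ⟨y, rfl⟩ := hmax x hx
    rw [← mul_assoc, ← pow_succ, hε3, zero_mul]
  -- modulo `ε²` the critical point is the origin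
  let J : Ideal T := Ideal.span {ε ^ 2}
  have hJm : J ≤ maximalIdeal T := Ideal.span_le.2 (Set.singleton_subset_iff.2 (Ideal.pow_mem_of_mem _ hεm 2 two_pos))
  haveI : Nontrivial (T ⧸ J) :=
    Ideal.Quotient.nontrivial_iff.2 (ne_top_of_le_ne_top (maximalIdeal.isMaximal T).ne_top hJm)
  haveI : IsLocalRing (T ⧸ J) := IsLocalRing.of_surjective' (Ideal.Quotient.mk J) Ideal.Quotient.mk_surjective
  haveI : HenselianLocalRing (T ⧸ J) := Hensel.henselianLocalRing_finite T (T ⧸ J)
  let ψ : T →ₐ[A] T ⧸ J := Ideal.Quotient.mkₐ A J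
  have hA0' : ∀ a ∈ maximalIdeal A, algebraMap A (T ⧸ J) a = 0 := fun a ha => by
    rw [← ψ.commutes, hA0 a ha, map_zero]
  haveI : IsLocalHom (algebraMap A (T ⧸ J)) := ⟨fun a ha => by
    by_contra hc
    have h := hA0' a hc
    rw [h] at ha
    exact (not_isUnit_zero (M₀ := T ⧸ J)) ha⟩
  haveI : IsLocalHom (Ideal.Quotient.mk J) := IsLocalHom.of_surjective _ Ideal.Quotient.mk_surjective
  have hψ : ∀ x ∈ maximalIdeal T, ψ x ∈ maximalIdeal (T ⧸ J) := fun x hx => fun hc =>
    hx (isUnit_of_map_unit (Ideal.Quotient.mk J) x hc)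
  have hψ2 : ψ ε ^ 2 = 0 := by
    rw [← map_pow]
    exact Ideal.Quotient.eq_zero_iff_mem.2 (Ideal.mem_span_singleton_self _)
  have hz : ∀ i, ψ (w i) = 0 := by
    obtain ⟨c, -, huniq⟩ := existsUnique_critVal (T := T ⧸ J) hg (ω := ψ ε) (hψ ε hεm)
    have h1 : ψ ∘ w = c := huniq _ ⟨fun i => (critVal_map ψ ε w i).symm.trans
      ((congrArg ψ (hw0 i)).trans (map_zero ψ)), fun i => hψ _ (hw i)⟩
    have h2 : (fun _ => (0 : T ⧸ J)) = c := huniq _ ⟨fun i => critVal_origin hg hψ2 hA0' i,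
      fun i => (maximalIdeal (T ⧸ J)).zero_mem⟩
    exact fun i => congrFun (h1.trans h2.symm) i
  choose y hy using fun i => Ideal.mem_span_singleton'.1 (Ideal.Quotient.eq_zero_iff_mem.1 (hz i) : w i ∈ J)
  have hsq : ∀ i j, w (Sum.inl i) * w (Sum.inl j) = 0 := fun i j => by
    rw [← hy, ← hy]
    linear_combination y (Sum.inl i) * y (Sum.inl j) * ε * hε3
  have hω : ∀ j, ε ^ 2 * w (Sum.inl j) = 0 := fun j => by
    rw [← hy]
    linear_combination y (Sum.inl j) * ε * hε3
  obtain ⟨s, hs⟩ := aeval_pt ε (fun j => w (Sum.inl j)) hsq hω g₀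
  have hzT : ∀ a, residue A a = 0 → algebraMap A T a = 0 := fun a ha => hA0 a ((residue_eq_zero_iff a).1 ha)
  intro h0
  rw [show (w ∘ Sum.inl) = fun j => w (Sum.inl j) from rfl, hs] at h0
  simp [hzT _ hg.c0, hzT _ (hg.d0 _), hzT _ (hg.h0 _), hε3] at h0
  exact hne2 _ hg.q h0

end Unit

set_option maxHeartbeats 1000000 in
/-- Normal form over the line, with critical value a unit times a monic quadratic polynomial in the parameter. -/
theorem exists_line_nf [HenselianLocalRing A] (hg : Adapted g₀ g₁) {A1 : Type u} [CommRing A1] [HenselianLocalRing A1]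
    [Algebra A A1] [IsLocalHom (algebraMap A A1)] (τ : A1) (hτ : τ ∈ maximalIdeal A1)
    (huniv : ∀ (T : Type u) [CommRing T] [HenselianLocalRing T] [Algebra A T] [IsLocalHom (algebraMap A T)] (t : T),
      t ∈ maximalIdeal T → ∃ η : A1 →ₐ[A] T, η τ = t ∧ ∀ z ∈ maximalIdeal A1, η z ∈ maximalIdeal T) :
    ∃ (β γ : A) (w : Coord N r ⊕ Fin r → A1) (D : NF A1 N r) (u : A1), β ∈ maximalIdeal A ∧ γ ∈ maximalIdeal A ∧
      (∀ i, w i ∈ maximalIdeal A1) ∧
      (∀ l, D.g MvPolynomial.X l = aeval (fun i => X i + C (w (Sum.inl i))) (sbst τ (g₁ l))) ∧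
      D.g0 MvPolynomial.X = aeval (fun i => X i + C (w (Sum.inl i))) (sbst τ g₀) -
        ∑ l, C (w (Sum.inr l)) * aeval (fun i => X i + C (w (Sum.inl i))) (sbst τ (g₁ l)) ∧
      IsUnit u ∧ D.b = u * (τ ^ 2 + algebraMap A A1 β * τ + algebraMap A A1 γ) := by
  obtain ⟨w, ⟨hw, hwm⟩, -⟩ := existsUnique_critVal hg hτ
  obtain ⟨D, hDg, hDg0, hDb⟩ := exists_family_nf hg hτ w hw hwm
  obtain ⟨β, γ, v, hβ, hγ, hvm, hv, hv0⟩ := exists_double_point hg
  let q : A1 := τ ^ 2 + algebraMap A A1 β * τ + algebraMap A A1 γ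
  have hq : q ∈ maximalIdeal A1 :=
    Ideal.add_mem _ (Ideal.add_mem _ (Ideal.pow_mem_of_mem _ hτ 2 two_pos) (Ideal.mul_mem_left _ _ hτ))
      (map_nonunit _ _ hγ)
  let J : Ideal A1 := Ideal.span {q}
  haveI : Nontrivial (A1 ⧸ J) := Ideal.Quotient.nontrivial_iff.2
    (ne_top_of_le_ne_top (maximalIdeal.isMaximal A1).ne_top (Ideal.span_le.2 (Set.singleton_subset_iff.2 hq)))
  haveI : IsLocalRing (A1 ⧸ J) := IsLocalRing.of_surjective' (Ideal.Quotient.mk J) Ideal.Quotient.mk_surjective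
  haveI : HenselianLocalRing (A1 ⧸ J) := Hensel.henselianLocalRing_finite A1 (A1 ⧸ J)
  let ψ : A1 →ₐ[A] A1 ⧸ J := Ideal.Quotient.mkₐ A J
  haveI : IsLocalHom (Ideal.Quotient.mk J) := IsLocalHom.of_surjective _ Ideal.Quotient.mk_surjective
  have hψ : ∀ x ∈ maximalIdeal A1, ψ x ∈ maximalIdeal (A1 ⧸ J) := fun x hx => fun hc =>
    hx (isUnit_of_map_unit (Ideal.Quotient.mk J) x hc)
  haveI : IsLocalHom (algebraMap A (A1 ⧸ J)) := ⟨fun a ha => by
    by_contra hc
    have h := hψ _ (map_nonunit (algebraMap A A1) a hc)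
    rw [AlgHom.commutes] at h
    exact h ha⟩
  have hrel : ψ τ * ψ τ = (-γ) • (1 : A1 ⧸ J) + (-β) • ψ τ := by
    have h : ψ q = 0 := Ideal.Quotient.eq_zero_iff_mem.2 (Ideal.mem_span_singleton_self q)
    simp only [q, map_add, map_pow, map_mul, AlgHom.commutes] at h
    rw [Algebra.smul_def, Algebra.smul_def, map_neg, map_neg]
    linear_combination h
  let θ : QuadraticAlgebra A (-γ) (-β) →ₐ[A] A1 ⧸ J := QuadraticAlgebra.lift ⟨ψ τ, hrel⟩
  have hθω : θ QuadraticAlgebra.omega = ψ τ := by simp [θ, QuadraticAlgebra.lift]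
  have hθv : ∀ i, θ (v i) ∈ maximalIdeal (A1 ⧸ J) := fun i => by
    simp only [θ, QuadraticAlgebra.lift, Equiv.coe_fn_mk, AlgHom.coe_mk, RingHom.coe_mk, MonoidHom.coe_mk,
      OneHom.coe_mk, Algebra.smul_def, mul_one]
    exact Ideal.add_mem _ (map_nonunit _ _ (hvm i).1) (Ideal.mul_mem_right _ _ (map_nonunit _ _ (hvm i).2))
  obtain ⟨c, -, huniq⟩ := existsUnique_critVal hg (hψ τ hτ)
  have h1 : ψ ∘ w = c := huniq _ ⟨fun i => by rw [← critVal_map, hw, map_zero], fun i => hψ _ (hwm i)⟩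
  have h2 : θ ∘ v = c := huniq _ ⟨fun i => by rw [← hθω, ← critVal_map, hv, map_zero], hθv⟩
  have hb : ψ D.b = 0 := by
    rw [hDb, aeval_pt_map, ← Function.comp_assoc, h1, ← h2, ← hθω, Function.comp_assoc, ← aeval_pt_map, hv0,
      map_zero]
  obtain ⟨u, hu⟩ := Ideal.mem_span_singleton'.1 (Ideal.Quotient.eq_zero_iff_mem.1 hb : D.b ∈ J)
  refine ⟨β, γ, w, D, u, hβ, hγ, hwm, hDg, hDg0, ?_, hu.symm⟩
  -- the unit
  obtain ⟨T, _, _, _, _, ε, hε, hεx, hA0, hne⟩ := exists_order_two hg
  obtain ⟨η, hητ, hηm⟩ := huniv T ε hε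
  by_contra hu'
  refine hne (η ∘ w) (fun i => hηm _ (hwm i)) (fun i => by rw [← hητ, ← critVal_map, hw, map_zero]) ?_
  rw [Function.comp_assoc, ← hητ, ← aeval_pt_map, ← hDb, ← hu, map_mul]
  simp only [q, map_add, map_pow, map_mul, AlgHom.commutes, hA0 β hβ, hA0 γ hγ, zero_mul, add_zero, hητ]
  rw [mul_comm]
  exact hεx _ (hηm u hu')

end Groth.Agent.QuadHens
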