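import Mathlib
import Groth.Agent.QuadHens.Prep

/-!
The henselization of a flat family at a non-degenerate quadratic point is that of a deformed quadratic cone.
-/

set_option autoImplicit false
set_option linter.style.haveILetI false

universe u

open IsLocalRing MvPolynomial

namespace Groth.Agent.QuadHens

theorem aeval_quadPoly {A : Type u} [CommRing A] {N : ℕ} (a : Fin N → Fin N → A) {T : Type u} [CommRing T]
    [Algebra A T] (y : Fin N → T) :
    aeval y (VanCyc.quadPoly a) = VanCyc.quadEval (fun i j => algebraMap A T (a i j)) y := by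
  simp [VanCyc.quadPoly, VanCyc.quadEval, map_sum, apply_ite (aeval y)]

/-- The presentation of a deformed quadratic cone at the origin. -/
theorem pres_quadRing {A : Type u} [CommRing A] [IsLocalRing A] {N : ℕ} (a : Fin N → Fin N → A) (b : A)
    (hb : b ∈ maximalIdeal A) :
    Pres (Ideal.Quotient.mkₐ A (Ideal.span {VanCyc.quadPoly a - C b})) (VanCyc.originQuot A a b)
      {VanCyc.quadPoly a - C b} := by
  have horigin : ∀ p : MvPolynomial (Fin N) A, p ∈ VanCyc.originIdeal A ↔ constantCoeff p ∈ maximalIdeal A := by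
    intro p
    constructor
    · intro h
      refine (sup_le ?_ ?_ : VanCyc.originIdeal A ≤ (maximalIdeal A).comap constantCoeff) h
      · exact Ideal.map_le_iff_le_comap.2 fun x hx => by simpa using hx
      · exact Ideal.span_le.2 (by rintro _ ⟨i, rfl⟩; simp)
    · intro h
      obtain ⟨d, hd⟩ := exists_decomp p
      rw [hd]
      exact Submodule.add_mem_sup (Ideal.mem_map_of_mem _ h)
        (Ideal.sum_mem _ fun i _ => Ideal.mul_mem_right _ _ (Ideal.subset_span ⟨i, rfl⟩))
  have hspan : Ideal.span {VanCyc.quadPoly a - C b} ≤ VanCyc.originIdeal A := by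
    rw [Ideal.span_le, Set.singleton_subset_iff, SetLike.mem_coe, horigin, map_sub, constantCoeff_C]
    refine sub_mem ?_ hb
    simp [VanCyc.quadPoly, apply_ite constantCoeff]
  refine ⟨Ideal.Quotient.mkₐ_surjective _ _, fun p => ?_, fun f hf => ?_, fun f hf => ⟨1, ?_, ?_⟩⟩
  · rw [← horigin, VanCyc.originQuot, Ideal.Quotient.mkₐ_eq_mk, ← Ideal.mem_comap,
      Ideal.comap_map_of_surjective' _ Ideal.Quotient.mk_surjective, Ideal.mk_ker, sup_eq_left.2 hspan]
  · rw [Set.mem_singleton_iff.1 hf, Ideal.Quotient.mkₐ_eq_mk]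
    exact Ideal.Quotient.eq_zero_iff_mem.2 (Ideal.mem_span_singleton_self _)
  · rw [map_one]
    exact fun h => (mem_maximalIdeal _).1 h isUnit_one
  · rw [one_mul]
    exact Ideal.Quotient.eq_zero_iff_mem.1 hf

/-- Points of a deformed quadratic cone. -/
theorem isPt_quad_iff {A : Type u} [CommRing A] {N : ℕ} (a : Fin N → Fin N → A) (b : A) [IsLocalRing A]
    {T : Type u} [CommRing T] [IsLocalRing T] [Algebra A T] (y : Fin N → T) :
    IsPt {VanCyc.quadPoly a - C b} y ↔ (∀ i, y i ∈ maximalIdeal T) ∧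
      VanCyc.quadEval (fun i j => algebraMap A T (a i j)) y = algebraMap A T b := by
  simp only [IsPt, map_sub, aeval_quadPoly, aeval_C, sub_eq_zero,
    Set.mem_singleton_iff, forall_eq]

theorem henselization_nondegQuadPt (A : Type u) [CommRing A] [HenselianLocalRing A] (B₀ : Type u) [CommRing B₀]
    [Algebra A B₀] [Algebra.FinitePresentation A B₀] (P : Ideal B₀) [P.IsMaximal]
    (hP : (maximalIdeal A).map (algebraMap A B₀) ≤ P)
    (hPi : ∀ y : B₀, ∃ (e : ℕ) (c : A), y ^ ringExpChar (ResidueField A) ^ e - algebraMap A B₀ c ∈ P)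
    [Module.Flat A (Localization.AtPrime P)] (n : ℕ)
    (hq : VanCyc.IsNondegQuadPt (VanCyc.fibHom A (Localization.AtPrime P)) n)
    (Bh : Type u) [CommRing Bh] [IsLocalRing Bh] [Algebra (Localization.AtPrime P) Bh]
    [IsLocalHom (algebraMap (Localization.AtPrime P) Bh)]
    [_root_.Hensel.IsHenselization (Localization.AtPrime P) Bh] [Algebra A Bh]
    [IsScalarTower A (Localization.AtPrime P) Bh] :
    ∃ (a : Fin (n + 1) → Fin (n + 1) → A) (b : A), VanCyc.QuadNondeg a ∧ b ∈ maximalIdeal A ∧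
      ∀ [(VanCyc.originQuot A a b).IsPrime] (C : Type u) [CommRing C] [IsLocalRing C]
        [Algebra (Localization.AtPrime (VanCyc.originQuot A a b)) C]
        [IsLocalHom (algebraMap (Localization.AtPrime (VanCyc.originQuot A a b)) C)]
        [_root_.Hensel.IsHenselization (Localization.AtPrime (VanCyc.originQuot A a b)) C] [Algebra A C]
        [IsScalarTower A (Localization.AtPrime (VanCyc.originQuot A a b)) C], Nonempty (Bh ≃ₐ[A] C) := by
  obtain ⟨r, π, D, hD⟩ := exists_normalForm P hP hPi hq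
  refine ⟨D.a, -D.b, D.ha, (maximalIdeal A).neg_mem D.hb, ?_⟩
  intro _ C _ _ _ _ _ _ _
  refine equiv_of_rel hD (pres_quadRing D.a (-D.b) ((maximalIdeal A).neg_mem D.hb)) Bh C
    (fun T [CommRing T] [HenselianLocalRing T] [Algebra A T] [IsLocalHom (algebraMap A T)] => D.Rel (T := T))
    (fun T _ _ _ _ X hX => ?_) (fun T _ _ _ _ y hy => ?_)
    (fun T _ _ _ _ X y y' h h' => D.rel_right_unique h h')
    (fun T _ _ _ _ X X' y h h' => D.rel_left_unique h h')
    (fun T T' _ _ _ _ _ _ _ _ f hf X y h => D.rel_map f hf h)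
  · rw [D.isPt_eqs_iff] at hX
    obtain ⟨y, hym, hy, hrel⟩ := D.exists_rel_of_point X hX.1 hX.2.2 hX.2.1
    exact ⟨y, (isPt_quad_iff _ _ _).2 ⟨hym, by rw [map_neg, eq_neg_iff_add_eq_zero, hy]⟩, hrel⟩
  · rw [isPt_quad_iff, map_neg, eq_neg_iff_add_eq_zero] at hy
    obtain ⟨X, hXm, hg, hg0, hrel⟩ := D.exists_rel_of_quadric y hy.1 hy.2
    exact ⟨X, (D.isPt_eqs_iff X).2 ⟨hXm, hg0, hg⟩, hrel⟩

end Groth.Agent.QuadHens
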