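import Mathlib
import Groth.Agent.QuadHens.Main
import Groth.Agent.QuadHens.Line

/-!
The henselization of a flat family at a degenerate ordinary quadratic point in residue characteristic two.
-/

set_option autoImplicit false
set_option linter.style.haveILetI false

universe u

open IsLocalRing MvPolynomial

attribute [-simp] MvPolynomial.aeval_eq_bind₁ IsLocalRing.residue_eq_zero_iff

namespace Groth.Agent.QuadHens

variable {A : Type u} [CommRing A]

/-- Congruent non-degenerate tables over a henselian local ring are equivalent. -/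
theorem exists_congr_tab [HenselianLocalRing A] {n : ℕ} (a a' : Fin n → Fin n → A) (ha : VanCyc.QuadNondeg a)
    (h : ∀ i j, i ≤ j → a' i j - a i j ∈ maximalIdeal A) :
    ∃ M M' : Matrix (Fin n) (Fin n) A, M * M' = 1 ∧ M' * M = 1 ∧
      ∀ (T : Type u) [CommRing T] [Algebra A T] (x : Fin n → T),
        VanCyc.quadEval (fun i j => algebraMap A T (a i j)) (Matrix.mulVec (M.map (algebraMap A T)) x) =
          VanCyc.quadEval (fun i j => algebraMap A T (a' i j)) x := by
  classical
  let D : NF A n 0 :=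
    { E := Matrix.of fun l _ => 0
      P := (Matrix.of fun i j => C (Sum.elim (fun a => Sum.elim (fun b => triu a' a b) (fun l => Fin.elim0 l) j)
        (fun l => Fin.elim0 l) i))
      a := a
      b := 0
      hb := Ideal.zero_mem _
      ha := ha
      hEx := fun l => Fin.elim0 l
      hEz := fun l => Fin.elim0 l
      hP := fun i j hij => by
        simp only [Matrix.of_apply, constantCoeff_C, Sum.elim_inl]
        rw [tabd_triu a' hij]
        exact h i j hij }
  obtain ⟨w, ⟨hw, hwm⟩, -⟩ := D.existsUnique_sys (T := A) false 0 fun _ => Ideal.zero_mem _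
  have haux : ∀ i j, i ≤ j → tabd ((D.mmat w).transpose * triu a * D.mmat w) i j = tabd (triu a') i j := by
    intro i j hij
    have h1 := hw (Sum.inr (Sum.inr ⟨(i, j), hij⟩))
    simp only [NF.sys, NF.aux, Sum.elim_inr, Sum.elim_inl, Pi.zero_apply, sub_eq_zero, Algebra.algebraMap_self,
      RingHom.coe_id, Matrix.map_id] at h1
    rw [h1]
    congr 1
    ext p q
    simp [Matrix.mul_apply, NF.lmat, Fintype.sum_sum_type, D]
  have hdet : IsUnit (D.mmat w).det := by
    refine notMem_maximalIdeal.1 fun hd => ?_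
    rw [← residue_eq_zero_iff, RingHom.map_det] at hd
    refine (one_ne_zero : (1 : ResidueField A) ≠ 0) ?_
    rw [← hd, ← Matrix.det_one (n := Fin n)]
    congr 1
    have ht : ∀ p q, residue A (NF.tmat w p q) = 0 := fun p q => by
      unfold NF.tmat
      split_ifs
      exacts [(residue_eq_zero_iff _).2 (hwm _), map_zero _]
    ext p q
    simp [NF.mmat, Matrix.mul_apply, ht, Matrix.one_apply, apply_ite (residue A)]
  refine ⟨D.mmat w, (D.mmat w)⁻¹, Matrix.mul_nonsing_inv _ hdet, Matrix.nonsing_inv_mul _ hdet, ?_⟩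
  intro T _ _ x
  have htri : ∀ c : Fin n → Fin n → A,
      triu (fun i j => algebraMap A T (c i j)) = (triu c).map (algebraMap A T) := fun c => by
    ext p q; simp [triu, apply_ite (algebraMap A T)]
  have htab : ∀ (K : Matrix (Fin n) (Fin n) A) p q,
      algebraMap A T (tabd K p q) = tabd (K.map (algebraMap A T)) p q := fun K p q => by
    unfold tabd; split_ifs <;> simp
  rw [quadEval_eq_triu, quadEval_eq_triu, htri, htri, dot_conj, ← Matrix.transpose_map, ← Matrix.map_mul,
    ← Matrix.map_mul]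
  refine dot_mulVec_congr _ _ (fun i j hij => ?_) _
  rw [← htab, ← htab, haux i j hij]

theorem quadEval_smul {R : Type u} [CommRing R] {n : ℕ} (s : R) (a : Fin n → Fin n → R) (v : Fin n → R) :
    VanCyc.quadEval (fun i j => s * a i j) v = s * VanCyc.quadEval a v := by
  simp only [VanCyc.quadEval, Finset.mul_sum, mul_ite, mul_zero, mul_assoc]

theorem aeval_degQuadPoly [IsLocalRing A] {m : ℕ} (a : Fin (2 * m) → Fin (2 * m) → A) (b c : A) {T : Type u}
    [CommRing T] [Algebra A T] (Y : Fin (2 * m + 1) → T) :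
    aeval Y (VanCyc.degQuadPoly A a b c) = Y 0 ^ 2 + algebraMap A T b * Y 0 + algebraMap A T c +
      VanCyc.quadEval (fun i j => algebraMap A T (a i j)) (fun i => Y i.succ) := by
  simp [VanCyc.degQuadPoly, aeval_rename, aeval_quadPoly, Function.comp_def]

/-- The presentation of the degenerate normal form at its point. -/
theorem pres_degQuadRing [IsLocalRing A] {m : ℕ} (a : Fin (2 * m) → Fin (2 * m) → A) (b c : A)
    (hb : b ∈ maximalIdeal A) (hc : c ∈ maximalIdeal A) (Q : Ideal (VanCyc.degQuadRing A a b c)) [Q.IsMaximal]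
    (hQ : VanCyc.sideIdeal A a b c ≤ Q) :
    Pres (Ideal.Quotient.mkₐ A (Ideal.span {VanCyc.degQuadPoly A a b c})) Q {VanCyc.degQuadPoly A a b c} := by
  set f := VanCyc.degQuadPoly A a b c
  let O : Ideal (MvPolynomial (Fin (2 * m + 1)) A) := Q.comap (Ideal.Quotient.mk (Ideal.span {f}))
  haveI hO : O.IsPrime := Ideal.IsPrime.comap _
  have hm : ∀ x ∈ maximalIdeal A, C x ∈ O := fun x hx =>
    hQ (Ideal.mem_map_of_mem _ (Submodule.mem_sup_left (Ideal.mem_map_of_mem _ hx)))
  have hs : ∀ i : Fin (2 * m), X i.succ ∈ O := fun i =>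
    hQ (Ideal.mem_map_of_mem _ (Submodule.mem_sup_right (Ideal.subset_span ⟨i, rfl⟩)))
  have h0 : X 0 ∈ O := by
    refine hO.mem_of_pow_mem 2 ?_
    have hf : f ∈ O := by
      change Ideal.Quotient.mk _ f ∈ Q
      rw [Ideal.Quotient.eq_zero_iff_mem.2 (Ideal.mem_span_singleton_self f)]
      exact Q.zero_mem
    have hq : rename Fin.succ (VanCyc.quadPoly a) ∈ O := by
      simp only [VanCyc.quadPoly, map_sum, apply_ite (rename Fin.succ), map_mul, rename_C, rename_X, map_zero]
      refine Ideal.sum_mem _ fun i _ => Ideal.sum_mem _ fun j _ => ?_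
      split_ifs
      exacts [Ideal.mul_mem_left _ _ (hs j), O.zero_mem]
    have h1 : (X 0 : MvPolynomial (Fin (2 * m + 1)) A) ^ 2 =
        f - C b * X 0 - C c - rename Fin.succ (VanCyc.quadPoly a) := by
      simp only [f, VanCyc.degQuadPoly]; ring
    rw [h1]
    exact O.sub_mem (O.sub_mem (O.sub_mem hf (O.mul_mem_right _ (hm b hb))) (hm c hc)) hq
  have horigin : ∀ p, p ∈ O ↔ constantCoeff p ∈ maximalIdeal A := fun p => by
    obtain ⟨d, hd⟩ := exists_decomp p
    have hX : ∑ i, X i * d i ∈ O := Ideal.sum_mem _ fun i _ => O.mul_mem_right _ (by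
      obtain rfl | ⟨j, rfl⟩ := Fin.eq_zero_or_eq_succ i
      exacts [h0, hs j])
    constructor
    · intro hp
      by_contra hc
      refine hO.ne_top (Ideal.eq_top_of_isUnit_mem _ ?_ ((notMem_maximalIdeal.1 hc).map C))
      rw [hd] at hp
      simpa using O.sub_mem hp hX
    · intro hp
      rw [hd]
      exact O.add_mem (hm _ hp) hX
  refine ⟨Ideal.Quotient.mkₐ_surjective _ _, fun p => horigin p, fun g hg => ?_, fun g hg => ⟨1, ?_, ?_⟩⟩
  · rw [Set.mem_singleton_iff.1 hg, Ideal.Quotient.mkₐ_eq_mk]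
    exact Ideal.Quotient.eq_zero_iff_mem.2 (Ideal.mem_span_singleton_self _)
  · rw [map_one]
    exact fun h => (mem_maximalIdeal _).1 h isUnit_one
  · rw [one_mul]
    exact Ideal.Quotient.eq_zero_iff_mem.1 hg

set_option maxHeartbeats 1000000 in
theorem henselization_degQuadPt (A : Type u) [CommRing A] [HenselianLocalRing A] (hA : CharP (ResidueField A) 2)
    (B₀ : Type u) [CommRing B₀] [Algebra A B₀] [Algebra.FinitePresentation A B₀] (P : Ideal B₀) [P.IsMaximal]
    (hP : (maximalIdeal A).map (algebraMap A B₀) ≤ P) (hPi : ∀ y : B₀, ∃ c : A, y - algebraMap A B₀ c ∈ P)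
    [Module.Flat A (Localization.AtPrime P)] (m : ℕ)
    (hq : VanCyc.IsOrdQuadPt (VanCyc.fibHom A (Localization.AtPrime P)) (2 * m))
    (Bh : Type u) [CommRing Bh] [IsLocalRing Bh] [Algebra (Localization.AtPrime P) Bh]
    [IsLocalHom (algebraMap (Localization.AtPrime P) Bh)]
    [_root_.Hensel.IsHenselization (Localization.AtPrime P) Bh] [Algebra A Bh]
    [IsScalarTower A (Localization.AtPrime P) Bh] :
    ∃ (a' : Fin (2 * m) → Fin (2 * m) → A) (b c : A), VanCyc.QuadNondeg a' ∧ b ∈ maximalIdeal A ∧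
      ∀ (Q : Ideal (VanCyc.degQuadRing A a' b c)) [Q.IsMaximal], VanCyc.sideIdeal A a' b c ≤ Q →
      ∀ (C : Type u) [CommRing C] [IsLocalRing C] [Algebra (Localization.AtPrime Q) C]
        [IsLocalHom (algebraMap (Localization.AtPrime Q) C)]
        [_root_.Hensel.IsHenselization (Localization.AtPrime Q) C] [Algebra A C]
        [IsScalarTower A (Localization.AtPrime Q) C], Nonempty (Bh ≃ₐ[A] C) := by
  classical
  obtain ⟨r, π, g₀, g₁, hpres, hg⟩ := exists_adaptedEqs hA P hP hPi (even_two_mul m) hq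
  obtain ⟨A1, _, _, _, _, τ, hτ, huniv, hres⟩ := exists_param (A := A)
  obtain ⟨β, γ, w, D, u, hβ, hγ, hwm, hDg, hDg0, hu, hDb⟩ := exists_line_nf hg τ hτ
    fun T _ _ _ _ t ht => (huniv T t ht).imp fun η h => ⟨h.1, h.2.1⟩
  obtain ⟨u, rfl⟩ := hu
  -- a table over the base
  let a₁ : Fin (2 * m) → Fin (2 * m) → A1 := fun i j => ↑u⁻¹ * D.a i j
  have ha₁ : VanCyc.QuadNondeg a₁ := by
    have h : VanCyc.polarMatrix a₁ = (↑u⁻¹ : A1) • VanCyc.polarMatrix D.a := by
      ext i j
      simp only [VanCyc.polarMatrix, a₁, Matrix.smul_apply, smul_eq_mul]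
      split_ifs <;> ring
    rw [VanCyc.QuadNondeg, h, Matrix.det_smul]
    exact ((Units.isUnit _).pow _).mul D.ha
  choose a' ha' using fun i j => hres (a₁ i j)
  have hres' : ∀ i j, residue A1 (algebraMap A A1 (a' i j)) = residue A1 (a₁ i j) := fun i j =>
    (Ideal.Quotient.eq.2 (ha' i j)).symm
  have ha'nd : VanCyc.QuadNondeg a' := by
    refine isUnit_of_map_unit (algebraMap A A1) _ ?_
    refine isUnit_of_map_unit (residue A1) _ ?_
    convert ha₁.map (residue A1) using 1
    simp only [RingHom.map_det]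
    congr 1
    ext i j
    simp only [RingHom.mapMatrix_apply, Matrix.map_apply, VanCyc.polarMatrix]
    split_ifs <;> simp [hres', map_ofNat]
  obtain ⟨M, M', hMM', hM'M, hM⟩ := exists_congr_tab a₁ (fun i j => algebraMap A A1 (a' i j)) ha₁
    fun i j _ => by
      have h := (maximalIdeal A1).neg_mem (ha' i j)
      rwa [neg_sub] at h
  refine ⟨a', β, γ, ha'nd, hβ, ?_⟩
  intro Q _ hQ C _ _ _ _ _ _ _
  -- transport along a homomorphism from the line
  have key : ∀ (T : Type u) [CommRing T] [HenselianLocalRing T] [Algebra A T] [Algebra A1 T] [IsScalarTower A A1 T]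
      (X' : Coord (2 * m) r → T),
      (∀ l, D.g X' l = aeval (pt (algebraMap A1 T τ) fun j => X' j + algebraMap A1 T (w (Sum.inl j))) (g₁ l)) ∧
      D.g0 X' = aeval (pt (algebraMap A1 T τ) fun j => X' j + algebraMap A1 T (w (Sum.inl j))) g₀ -
        ∑ l, algebraMap A1 T (w (Sum.inr l)) *
          aeval (pt (algebraMap A1 T τ) fun j => X' j + algebraMap A1 T (w (Sum.inl j))) (g₁ l) := by
    intro T _ _ _ _ _ X'
    have hX : (aeval (R := A1) X') ∘ MvPolynomial.X = X' := funext (aeval_X X')
    have hsb : ∀ p, aeval X' (aeval (fun i => MvPolynomial.X i + MvPolynomial.C (w (Sum.inl i))) (sbst τ p)) =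
        aeval (pt (algebraMap A1 T τ) fun j => X' j + algebraMap A1 T (w (Sum.inl j))) p := fun p => by
      rw [← AlgHom.comp_apply, comp_aeval, ← aeval_sbst (A := A) τ (fun j => X' j + algebraMap A1 T (w (Sum.inl j))) p]
      congr 2
      funext i
      simp
    refine ⟨fun l => ?_, ?_⟩
    · have h := D.g_map (aeval (R := A1) X') MvPolynomial.X l
      rw [hX] at h
      rw [← h, hDg, hsb]
    · have h := D.g0_map (aeval (R := A1) X') MvPolynomial.X
      rw [hX] at h
      rw [← h, hDg0, map_sub, map_sum, hsb]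
      simp only [map_mul, aeval_C, hsb]
  have heval : ∀ (T : Type u) [CommRing T] [Algebra A T] (η : A1 →ₐ[A] T) (x : Fin (2 * m) → T),
      VanCyc.quadEval (fun i j => η (D.a i j)) (Matrix.mulVec (M.map η) x) =
        η u * VanCyc.quadEval (fun i j => algebraMap A T (a' i j)) x := by
    intro T _ _ η x
    letI := η.toRingHom.toAlgebra
    have h := hM T x
    change VanCyc.quadEval (fun i j => η (a₁ i j)) (Matrix.mulVec (M.map η) x) =
      VanCyc.quadEval (fun i j => η (algebraMap A A1 (a' i j))) x at h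
    simp only [AlgHom.commutes, a₁, map_mul, quadEval_smul] at h
    rw [← h, ← mul_assoc, ← map_mul, Units.mul_inv, map_one, one_mul]
  let R : ∀ (T : Type u) [CommRing T] [HenselianLocalRing T] [Algebra A T] [IsLocalHom (algebraMap A T)],
      (Coord (2 * m + 1) r → T) → (Fin (2 * m + 1) → T) → Prop :=
    fun T _ _ _ _ X Y => Y 0 = X (Sum.inl 0) ∧ ∃ η : A1 →ₐ[A] T, η τ = X (Sum.inl 0) ∧
      (∀ z ∈ maximalIdeal A1, η z ∈ maximalIdeal T) ∧ η τ ∈ maximalIdeal T ∧ ∃ y : Fin (2 * m) → T,
        (letI := η.toRingHom.toAlgebra; D.Rel (fun j => X (emb j) - η (w (Sum.inl j))) y) ∧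
        (fun i => Y i.succ) = Matrix.mulVec (M'.map η) y
  have hloc : ∀ {T : Type u} [CommRing T] [HenselianLocalRing T] [Algebra A T] (η : A1 →ₐ[A] T),
      (∀ z ∈ maximalIdeal A1, η z ∈ maximalIdeal T) → IsLocalHom η.toRingHom :=
    fun η h => ⟨fun z hz => by_contra fun hc => h z hc hz⟩
  have hMη : ∀ {T : Type u} [CommRing T] [Algebra A T] (η : A1 →ₐ[A] T) (x : Fin (2 * m) → T),
      Matrix.mulVec (M.map η) (Matrix.mulVec (M'.map η) x) = x ∧
        Matrix.mulVec (M'.map η) (Matrix.mulVec (M.map η) x) = x := fun η x => by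
    constructor
    · rw [Matrix.mulVec_mulVec, ← Matrix.map_mul, hMM', Matrix.map_one _ (map_zero η) (map_one η), Matrix.one_mulVec]
    · rw [Matrix.mulVec_mulVec, ← Matrix.map_mul, hM'M, Matrix.map_one _ (map_zero η) (map_one η), Matrix.one_mulVec]
  refine equiv_of_rel hpres (pres_degQuadRing a' β γ hβ hγ Q hQ) Bh C R
    (fun T _ _ _ _ X hX => ?_) (fun T _ _ _ _ Y hY => ?_) (fun T _ _ _ _ X Y Y' h h' => ?_)
    (fun T _ _ _ _ X X' Y h h' => ?_) (fun T T' _ _ _ _ _ _ _ _ f hf X Y h => ?_)
  · -- from the family to the model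
    simp only [IsPt, Set.forall_mem_insert, Set.forall_mem_range] at hX
    obtain ⟨hXm, h0, h1⟩ := hX
    obtain ⟨η, hητ, hηm, -⟩ := huniv T _ (hXm (Sum.inl 0))
    letI := η.toRingHom.toAlgebra
    haveI : IsScalarTower A A1 T := IsScalarTower.of_algebraMap_eq fun a => (η.commutes a).symm
    haveI : IsLocalHom (algebraMap A1 T) := hloc η hηm
    obtain ⟨k1, k2⟩ := key T fun j => X (emb j) - η (w (Sum.inl j))
    have hpt : (pt (algebraMap A1 T τ) fun j => X (emb j) - η (w (Sum.inl j)) + algebraMap A1 T (w (Sum.inl j))) = X := by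
      rw [show algebraMap A1 T τ = X (Sum.inl 0) from hητ]
      conv_rhs => rw [← pt_self X]
      congr 1
      funext j
      exact sub_add_cancel _ _
    rw [hpt] at k2
    simp only [hpt] at k1
    obtain ⟨y, hym, hy, hrel⟩ := D.exists_rel_of_point (fun j => X (emb j) - η (w (Sum.inl j)))
      (fun j => Ideal.sub_mem _ (hXm _) (hηm _ (hwm _))) (fun l => by rw [k1, h1]) (by
        rw [k2, h0]; simp [h1])
    refine ⟨Fin.cons (X (Sum.inl 0)) (Matrix.mulVec (M'.map η) y), ⟨fun i => ?_, fun g hg => ?_⟩, Fin.cons_zero _ _, η,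
      hητ, hηm, hητ.symm ▸ hXm _, y, hrel, funext fun i => Fin.cons_succ _ _ _⟩
    · obtain rfl | ⟨j, rfl⟩ := Fin.eq_zero_or_eq_succ i
      · rw [Fin.cons_zero]; exact hXm _
      · rw [Fin.cons_succ]
        simp only [Matrix.mulVec, dotProduct]
        exact Ideal.sum_mem _ fun l _ => Ideal.mul_mem_left _ _ (hym l)
    · rw [Set.mem_singleton_iff.1 hg, aeval_degQuadPoly]
      have h2 := heval T η (Matrix.mulVec (M'.map η) y)
      rw [(hMη η y).1] at h2
      have h3 : η u * (η (τ ^ 2 + algebraMap A A1 β * τ + algebraMap A A1 γ) +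
          VanCyc.quadEval (fun i j => algebraMap A T (a' i j)) (Matrix.mulVec (M'.map η) y)) = 0 := by
        rw [mul_add, ← h2, ← map_mul, ← hDb, add_comm]
        exact hy
      have h4 := ((u.isUnit.map η).mul_right_eq_zero).1 h3
      simp only [map_add, map_mul, map_pow, AlgHom.commutes, hητ] at h4
      simp only [Fin.cons_zero, Fin.cons_succ]
      exact h4
  · -- from the model to the family
    obtain ⟨hYm, hY0⟩ := hY
    have hY' := hY0 _ rfl
    rw [aeval_degQuadPoly] at hY'
    obtain ⟨η, hητ, hηm, -⟩ := huniv T _ (hYm 0)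
    letI := η.toRingHom.toAlgebra
    haveI : IsScalarTower A A1 T := IsScalarTower.of_algebraMap_eq fun a => (η.commutes a).symm
    haveI : IsLocalHom (algebraMap A1 T) := hloc η hηm
    obtain ⟨X', hX'm, hg', hg0', hrel⟩ := D.exists_rel_of_quadric (Matrix.mulVec (M.map η) fun i => Y i.succ)
      (fun a => by
        simp only [Matrix.mulVec, dotProduct]
        exact Ideal.sum_mem _ fun l _ => Ideal.mul_mem_left _ _ (hYm _)) (by
        change VanCyc.quadEval (fun i j => η (D.a i j)) _ + η D.b = 0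
        rw [heval, hDb, map_mul, ← mul_add]
        simp only [map_add, map_mul, map_pow, AlgHom.commutes, hητ]
        rw [add_comm (VanCyc.quadEval _ _), hY', mul_zero])
    obtain ⟨k1, k2⟩ := key T X'
    let X : Coord (2 * m + 1) r → T := pt (η τ) fun j => X' j + η (w (Sum.inl j))
    have h1 : ∀ l, aeval X (g₁ l) = 0 := fun l => (k1 l).symm.trans (hg' l)
    refine ⟨X, ?_, hητ.symm, η, rfl, hηm, hητ.symm ▸ hYm 0, _, ?_, (hMη η _).2.symm⟩
    · simp only [IsPt, Set.forall_mem_insert, Set.forall_mem_range]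
      refine ⟨forall_coord.2 ⟨show η τ ∈ _ by rw [hητ]; exact hYm 0, fun j => ?_⟩, ?_, h1⟩
      · simp only [X, pt_emb]
        exact Ideal.add_mem _ (hX'm _) (hηm _ (hwm _))
      · rw [hg0'] at k2
        change 0 = aeval X g₀ - ∑ l, _ * aeval X (g₁ l) at k2
        simpa [h1] using k2.symm
    · convert hrel using 1
      simp [X, pt_emb]
  · obtain ⟨h0, η, hη, hηm, hητ, y, hrel, hy⟩ := h
    obtain ⟨h0', η', hη', -, -, y', hrel', hy'⟩ := h'
    obtain ⟨η₀, -, -, hu'⟩ := huniv T _ hητ
    obtain rfl : η = η' := (hu' η rfl).trans (hu' η' (hη'.trans hη.symm)).symm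
    letI := η.toRingHom.toAlgebra
    haveI : IsLocalHom (algebraMap A1 T) := hloc η hηm
    obtain rfl := D.rel_right_unique hrel hrel'
    funext i
    obtain rfl | ⟨j, rfl⟩ := Fin.eq_zero_or_eq_succ i
    · rw [h0, h0']
    · exact (congrFun hy j).trans (congrFun hy' j).symm
  · obtain ⟨h0, η, hη, hηm, hητ, y, hrel, hy⟩ := h
    obtain ⟨h0', η', hη', -, -, y', hrel', hy'⟩ := h'
    obtain ⟨η₀, -, -, hu'⟩ := huniv T _ hητ
    have hX0 : X' (Sum.inl 0) = X (Sum.inl 0) := h0'.symm.trans h0
    obtain rfl : η = η' := (hu' η rfl).trans (hu' η' (hη'.trans (hX0.trans hη.symm))).symm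
    letI := η.toRingHom.toAlgebra
    haveI : IsLocalHom (algebraMap A1 T) := hloc η hηm
    obtain rfl : y = y' := by rw [← (hMη η y).1, ← (hMη η y').1, ← hy, ← hy']
    have h := D.rel_left_unique hrel hrel'
    refine funext (forall_coord.2 ⟨hX0.symm, fun j => ?_⟩)
    simpa using congrFun h j
  · obtain ⟨h0, η, hη, hηm, hητ, y, hrel, hy⟩ := h
    refine ⟨congrArg f h0, f.comp η, congrArg f hη, fun z hz => hf _ (hηm z hz), hf _ hητ, f ∘ y, ?_, funext fun i => ?_⟩
    · letI := η.toRingHom.toAlgebra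
      letI := (f.comp η).toRingHom.toAlgebra
      haveI : IsLocalHom (algebraMap A1 T) := hloc η hηm
      let f' : T →ₐ[A1] T' := { f with commutes' := fun a => rfl }
      have h := D.rel_map f' hf hrel
      convert h using 1
      funext j
      exact (map_sub f _ _).symm
      rfl
    · have h := congrArg f (congrFun hy i)
      rw [Function.comp_apply, h]
      simp [Matrix.mulVec, dotProduct, map_sum]

end Groth.Agent.QuadHens
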